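import Mathlib
import Cfsg.Agent.H508.KB.Defs
import Cfsg.Agent.H200.LinFixE_m3
import Cfsg.Agent.S0126
import Cfsg.Agent.AutOrth.Main
import Cfsg.Agent.H899.O7.Spec
import Cfsg.Agent.Solvable.FpfCyclic
import Cfsg.Agent.S2128
import Cfsg.Agent.Lib.AutSL2Out
import Cfsg.Agent.H611.CoverPrincipal
import Cfsg.Agent.H825.HT.Tools
import Cfsg.Agent.H678.Constit
import Cfsg.Agent.OddOrderCharacters.IndRes
import Cfsg.Agent.LieClassical.OrthCore
import Cfsg.Agent.H587.KB8.Geo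
import Cfsg.Agent.H296.KB.Rank
import Cfsg.Agent.H634.Quot
import Cfsg.Agent.ClassicalGeometry.OrthAut1
import Cfsg.Agent.H932.TypeClass
import Cfsg.Agent.LieClassical.OrthForms
import Cfsg.Agent.ClassicalGeometry.PSL2Basic
import Cfsg.Agent.H627.ExSimpleGen
import Cfsg.Agent.H426.KB.C1_m3
import Cfsg.Agent.S4626
import Cfsg.Agent.H69.OutTwD4
import Cfsg.Agent.H129.ExactZ
import Cfsg.Agent.H795.Tw
import Cfsg.Agent.H994.KE.Base_m3
import Cfsg.Agent.H720.TwFr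
import Cfsg.Agent.H129.ChainFast
import Cfsg.Agent.H765.KE.Ord
import Cfsg.Agent.S1093
import Cfsg.Agent.Lib.FinFast
import Cfsg.Agent.H129.RootFast
import Cfsg.Agent.H129.SuzT
import Cfsg.Agent.H129.CycCardF
import Cfsg.Agent.S1068
import Cfsg.Agent.H682.KB.KMain_m3
import Cfsg.Agent.H973.KB.Cyc_m3
import Cfsg.Agent.S4646
import Cfsg.Agent.H819.KB.Prod_m3
import Cfsg.Agent.FastGrp
import Cfsg.Agent.Prune
set_option linter.all false

section
prune_inst 0x7fbceaf829a8a9dedfff7e3df690cdfc11800fffa4dff9433fe0218f0b9f03020945738509e000fc0e82c01410a87803f9ffceffe06bd87ffffd1ff41ffbee0fe5f6350811d080240f300ff603f0678e7f3fffffffffffffffffffffffffffbeffbfffffffff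

-- part: H299/AO/Base
section
set_option linter.all false
open scoped Cfsg.Agent.FastGrp

/-!
# S4822, AO7: tools for `AbOut`

* `OutComm` : all commutators of automorphisms are inner; `OutComm.abOut`, `OutComm.congr`;
* `abOut_congr` : transport of `AbOut`.
-/

set_option autoImplicit false

namespace Cfsg.Agent.H299.AO

open Cfsg Subgroup Cfsg.Agent.H508.KB

universe u v

/-- all commutators of automorphisms are inner -/
def OutComm (S : Type u) [Group S] : Prop :=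
  ∀ α β : MulAut S, ∃ s : S, ∀ x, (α * β * α⁻¹ * β⁻¹) x = s * x * s⁻¹

theorem OutComm.abOut {S : Type u} [Group S] (h : OutComm S) (p : ℕ) : AbOut p S := by
  intro P A _ _ α _ β _
  obtain ⟨s, hs⟩ := h α β
  exact ⟨s, fun x _ => hs x⟩

theorem congr_apply {S : Type u} {T : Type v} [Group S] [Group T] (e : S ≃* T) (α : MulAut S) (x : T) :
    MulAut.congr e α x = e (α (e.symm x)) := rfl

theorem OutComm.congr {S : Type u} {T : Type v} [Group S] [Group T] (e : S ≃* T) (h : OutComm T) : OutComm S := by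
  intro α β
  obtain ⟨s, hs⟩ := h (MulAut.congr e α) (MulAut.congr e β)
  refine ⟨e.symm s, fun x => ?_⟩
  have h1 := hs (e x)
  rw [← map_inv, ← map_inv, ← map_mul, ← map_mul, ← map_mul, congr_apply, e.symm_apply_apply] at h1
  apply e.injective
  rw [h1, map_mul, map_mul, map_inv, e.apply_symm_apply]

theorem abOut_congr {p : ℕ} [Fact p.Prime] {S : Type u} {T : Type v} [Group S] [Group T] [Finite S] [Finite T]
    (e : S ≃* T) (h : AbOut p T) : AbOut p S := by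
  intro P A hA hidx α hα β hβ
  let c : MulAut S ≃* MulAut T := MulAut.congr e
  have hr : (MulAut.conj : S →* MulAut S).range.map c.toMonoidHom = (MulAut.conj : T →* MulAut T).range := by
    ext γ
    constructor
    · rintro ⟨_, ⟨s, rfl⟩, rfl⟩
      refine ⟨e s, ?_⟩
      ext x
      show e s * x * (e s)⁻¹ = e (s * e.symm x * s⁻¹)
      rw [map_mul, map_mul, map_inv, e.apply_symm_apply]
    · rintro ⟨t, rfl⟩
      refine ⟨MulAut.conj (e.symm t), ⟨_, rfl⟩, ?_⟩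
      ext x
      show e (e.symm t * e.symm x * (e.symm t)⁻¹) = t * x * t⁻¹
      rw [map_mul, map_mul, map_inv, e.apply_symm_apply, e.apply_symm_apply]
  obtain ⟨s, hs⟩ := h (P.mapSurjective (f := e.toMonoidHom) e.surjective) (A.map c.toMonoidHom) (by rw [← hr]; exact Subgroup.map_mono hA)
    (by
      rw [← hr, Subgroup.relIndex_map_map_of_injective _ _ c.injective]
      exact hidx) (c α) ⟨α, hα, rfl⟩ (c β) ⟨β, hβ, rfl⟩
  refine ⟨e.symm s, fun x hx => ?_⟩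
  have h1 := hs (e x) ⟨x, hx, rfl⟩
  rw [← map_inv, ← map_inv, ← map_mul, ← map_mul, ← map_mul] at h1
  have h2 : c (α * β * α⁻¹ * β⁻¹) (e x) = e ((α * β * α⁻¹ * β⁻¹) x) := by
    show e ((α * β * α⁻¹ * β⁻¹) (e.symm (e x))) = _
    rw [e.symm_apply_apply]
  rw [h2] at h1
  apply e.injective
  rw [h1, map_mul, map_mul, map_inv, e.apply_symm_apply]

end Cfsg.Agent.H299.AO
end

-- part: H587/KB8/Cyc
section
set_option linter.all false
open scoped Cfsg.Agent.FastGrp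

/-!
# Cyclic Sylow subgroups of `PΩ₈⁺(q)` (helper587, S4822 KB8)
-/

set_option autoImplicit false
set_option linter.unusedSectionVars false

open QuadraticMap Module Cfsg.Agent.LieClassical.OrthCore Cfsg.Agent.LieClassical.OrthTrans
open Cfsg.Agent.LieClassical.OrthFinite Cfsg.Agent.ClassicalGeometry
open Cfsg.Agent.H200.LinFix Cfsg.Agent.ClassicalGeometry.OrthAut1

namespace Cfsg.Agent.H587.KB8

section split

variable {F V : Type*} [Field F] [AddCommGroup V] [Module F V] {b : LinearMap.BilinForm F V} [Finite V]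
variable {p : ℕ} [hp : Fact p.Prime]

/-- an irreducible piece invariant under the centraliser -/
theorem exists_split [Finite F] (hp2 : p ≠ 2) (hpF : (p : F) ≠ 0) {y : Module.End F V} (hy : y ^ p = 1)
    (hyb : Isom b y) (hb : ∀ v, (∀ u, b u v = 0) → v = 0) {d : ℕ} (hd : Ordd p (Nat.card F) d)
    (hld : p ∣ Nat.card F ^ d - 1) (hdo : Odd d) (hfr : finrank F (R y) = 2 * d) :
    ∃ E : Submodule F V, finrank F E = d ∧
      ∀ s : Module.End F V, s ^ p = 1 → Isom b s → s * y = y * s →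
        (∀ w ∈ E, s w ∈ E) ∧ ((∀ w ∈ E, s w = w) → ∀ w ∈ R y, s w = w) := by
  have hfd : FiniteDimensional F V := inferInstance
  have hd0 : 0 < d := hdo.pos
  have hyW : ∀ w ∈ R y, y w ∈ R y := fun w hw => R_inv rfl hw
  have hW : R y ≠ ⊥ := by
    intro h
    rw [h, finrank_bot] at hfr
    omega
  have hq1 : 1 ≤ Nat.card F ^ d := Nat.one_le_pow _ _ Nat.card_pos
  -- a proper invariant subspace
  obtain ⟨E, hEW, hyE, hE0, hEne⟩ : ∃ E : Submodule F V, E ≤ R y ∧ (∀ w ∈ E, y w ∈ E) ∧ E ≠ ⊥ ∧ E ≠ R y := by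
    by_contra hcon
    push Not at hcon
    have hirr : Irr y (R y) := fun U hU hyU => by
      by_cases h : U = ⊥
      · exact Or.inl h
      · exact Or.inr (hcon U hU hyU h)
    obtain ⟨w, hw, hw0⟩ := Submodule.exists_mem_ne_zero_of_ne_bot hW
    obtain ⟨m, hm, hU⟩ := unitary_on (l := p - 1) hW hyW hirr b (fun u _ v _ => hyb u v)
      (fun v hv hv' => nondeg_R hyb hb hy hpF hv hv')
      (by rw [Nat.sub_add_cancel hp.out.one_le, hy])
      ⟨w, hw, fun h1 => hw0 (eq_zero_of_mem hy hpF (fix_of_sq hp2 hy h1) hw)⟩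
    have hmd : m = d := by omega
    subst hmd
    apply hw0
    refine eq_zero_of_mem hy hpF ?_ hw
    refine fix_of_coprime (hU y hyW (fun w _ => rfl) (fun u _ v _ => hyb u v) w hw)
      (by rw [hy]; rfl) ?_
    refine ((Nat.Prime.coprime_iff_not_dvd hp.out).2 fun h => ?_).symm
    apply hp2
    have h3 : p ∣ 2 := by
      have h4 : Nat.card F ^ m + 1 - (Nat.card F ^ m - 1) = 2 := by omega
      rw [← h4]
      exact Nat.dvd_sub h hld
    exact (Nat.prime_dvd_prime_iff_eq hp.out Nat.prime_two).1 h3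
  have hEd : finrank F E = d := by
    obtain ⟨c, hc⟩ := dvd_finrank_le hd hpF hy hEW hyE
    have h1 : finrank F E < finrank F (R y) := Submodule.finrank_lt_finrank_of_lt (lt_of_le_of_ne hEW hEne)
    have h2 : finrank F E ≠ 0 := fun h => hE0 (Submodule.finrank_eq_zero.1 h)
    have h3 : c < 2 := by
      by_contra h
      push Not at h
      nlinarith only [hfr, hc, h1, h]
    interval_cases c <;> omega
  have hirr : Irr y E := irr_of_lt hd hpF hy hEW hyE (by omega)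
  have hnotEven : ¬ Even (finrank F E) := by rw [hEd]; exact Nat.not_even_iff_odd.2 hdo
  -- totally isotropic
  have hti : ∀ v ∈ E, ∀ u ∈ E, b u v = 0 := by
    rcases rad_of_irr hy hyb hyE hirr with h | h
    · exact absurd (even_of_irr hp2 hpF hy hEW hyE hirr hE0 b (fun u _ v _ => hyb u v) h) hnotEven
    · exact h
  refine ⟨E, hEd, fun s hs hsb hsy => ?_⟩
  have hsW : ∀ w ∈ R y, s w ∈ R y := fun w hw => R_inv hsy hw
  have hsy' : ∀ w, s (y w) = y (s w) := fun w => LinearMap.congr_fun hsy w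
  have hsinj : Function.Injective s := by
    intro u v h
    have h1 : (s ^ (p - 1)) (s u) = (s ^ (p - 1)) (s v) := by rw [h]
    rw [← Module.End.mul_apply, ← Module.End.mul_apply, ← pow_succ, Nat.sub_add_cancel hp.out.one_le, hs] at h1
    exact h1
  -- `E` is `s`-invariant
  have hsE : ∀ w ∈ E, s w ∈ E := by
    have hE'y : ∀ w ∈ E.map s, y w ∈ E.map s := by
      rintro _ ⟨w, hw, rfl⟩
      exact ⟨y w, hyE w hw, hsy' w⟩
    have hE'd : finrank F (E.map s) = d := by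
      rw [← hEd]
      exact (Submodule.equivMapOfInjective s hsinj E).symm.finrank_eq
    have hE'W : E.map s ≤ R y := by
      rintro _ ⟨w, hw, rfl⟩
      exact hsW w (hEW hw)
    rcases hirr (E ⊓ E.map s) inf_le_left (fun u hu => ⟨hyE u hu.1, hE'y u hu.2⟩) with h | h
    · exfalso
      have hsup : E ⊔ E.map s = R y := by
        apply Submodule.eq_of_le_of_finrank_le (sup_le hEW hE'W)
        have h1 := Submodule.finrank_sup_add_finrank_inf_eq E (E.map s)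
        rw [h, finrank_bot, hE'd, hEd] at h1
        omega
      apply hnotEven
      refine even_of_irr hp2 hpF hy hEW hyE hirr hE0 (b.compRight s) (fun u _ v _ => ?_) ?_
      · rw [LinearMap.BilinForm.compRight_apply, LinearMap.BilinForm.compRight_apply, hsy', hyb]
      · intro v hv hv'
        apply hsinj
        rw [map_zero]
        refine nondeg_R hyb hb hy hpF (hsW v (hEW hv)) fun u hu => ?_
        rw [← hsup] at hu
        obtain ⟨u1, hu1, u2, ⟨u3, hu3, rfl⟩, rfl⟩ := Submodule.mem_sup.1 hu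
        rw [map_add, LinearMap.add_apply, hsb, hti v hv u3 hu3, add_zero]
        exact hv' u1 hu1
    · intro w hw
      have h1 : E = E.map s := Submodule.eq_of_le_of_finrank_eq (by
        intro x hx
        have h2 : x ∈ E ⊓ E.map s := by rw [h]; exact hx
        exact h2.2) (by rw [hE'd, hEd])
      rw [h1]
      exact ⟨w, hw, rfl⟩
  refine ⟨hsE, fun hfix => ?_⟩
  by_contra hcon
  push Not at hcon
  obtain ⟨w0, hw0, hne⟩ := hcon
  set E2 : Submodule F V := (R y).map (s - 1) with hE2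
  have hE2R : E2 ≤ R s := by
    rintro _ ⟨w, -, rfl⟩
    exact ⟨w, rfl⟩
  have hE2W : E2 ≤ R y := by
    rintro _ ⟨w, hw, rfl⟩
    exact Submodule.sub_mem _ (hsW w hw) hw
  have hE2y : ∀ w ∈ E2, y w ∈ E2 := by
    rintro _ ⟨w, hw, rfl⟩
    refine ⟨y w, hyW w hw, ?_⟩
    change s (y w) - y w = y (s w - w)
    rw [map_sub, hsy']
  have hinf : E ⊓ E2 = ⊥ := by
    rw [eq_bot_iff]
    rintro v ⟨hv, hv'⟩
    exact eq_zero_of_mem hs hpF (hfix v hv) (hE2R hv')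
  have hE20 : finrank F E2 ≠ 0 := by
    intro h0
    rw [Submodule.finrank_eq_zero] at h0
    apply hne
    have h1 : s w0 - w0 ∈ E2 := ⟨w0, hw0, rfl⟩
    rw [h0, Submodule.mem_bot, sub_eq_zero] at h1
    exact h1
  obtain ⟨c, hc⟩ := dvd_finrank_le hd hpF hy hE2W hE2y
  have hc0 : 0 < c := Nat.pos_of_ne_zero (by rintro rfl; omega)
  have hsup : E ⊔ E2 = R y := by
    apply Submodule.eq_of_le_of_finrank_le (sup_le hEW hE2W)
    have h1 := Submodule.finrank_sup_add_finrank_inf_eq E E2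
    rw [hinf, finrank_bot, hEd] at h1
    nlinarith only [hfr, hc, hc0, h1]
  apply hE0
  rw [eq_bot_iff]
  intro v hv
  refine nondeg_R hyb hb hy hpF (hEW hv) fun u hu => ?_
  rw [← hsup] at hu
  obtain ⟨u1, hu1, u2, ⟨u3, hu3, rfl⟩, rfl⟩ := Submodule.mem_sup.1 hu
  rw [map_add, LinearMap.add_apply, hti v hv u1 hu1, zero_add]
  change b (s u3 - u3) v = 0
  rw [map_sub, LinearMap.sub_apply, sub_eq_zero]
  nth_rewrite 1 [← hfix v hv]
  rw [hsb]

/-- **`p`-groups of isometries of degree less than `3 d`**, `d` odd -/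
theorem isCyclic_odd [Finite F] (hp2 : p ≠ 2) (hpF : (p : F) ≠ 0) (hb : ∀ v, (∀ u, b u v = 0) → v = 0) {d : ℕ}
    (hd : Ordd p (Nat.card F) d) (hld : p ∣ Nat.card F ^ d - 1) (hdo : Odd d) (hV : finrank F V < 3 * d)
    {Γ : Type*} [Group Γ] [Finite Γ] (hΓ : IsPGroup p Γ) (ρ : Γ →* Module.End F V) (hρ : Function.Injective ρ)
    (hiso : ∀ γ, Isom b (ρ γ)) : IsCyclic Γ := by
  have hfd : FiniteDimensional F V := inferInstance
  by_contra hnc
  obtain ⟨A, -, ⟨hAc, hAe⟩, hA⟩ := Cfsg.Agent.S0126.result hp2 hΓ hnc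
  have hpp : p.Prime := hp.out
  have hd0 : 0 < d := hdo.pos
  have hAn : Nontrivial A := by
    rw [← Finite.one_lt_card_iff_nontrivial, hA]
    exact Nat.one_lt_pow (by norm_num) hpp.one_lt
  obtain ⟨z, hz⟩ := exists_ne (1 : A)
  have hy : ρ z ^ p = 1 := by rw [← map_pow, hAe z z.2, map_one]
  have hy1 : ρ z ≠ 1 := fun h => hz (Subtype.ext (hρ (h.trans (map_one ρ).symm)))
  have hfr : finrank F (R (ρ z)) = 2 * d := by
    obtain ⟨c, hc⟩ := dvd_finrank_R hd hpF hy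
    have h1 : finrank F (R (ρ z)) ≤ finrank F V := Submodule.finrank_le _
    have h2 : finrank F (R (ρ z)) ≠ 0 := fun h => R_ne_bot hy1 (Submodule.finrank_eq_zero.1 h)
    have h3 : c < 3 := by
      by_contra h
      push Not at h
      nlinarith only [hV, hc, h1, h]
    interval_cases c
    · omega
    · exfalso
      have hirr : Irr (ρ z) (R (ρ z)) := irr_of_lt hd hpF hy le_rfl (fun w hw => R_inv rfl hw) (by omega)
      have h4 := even_of_irr hp2 hpF hy le_rfl (fun w hw => R_inv rfl hw) hirr (R_ne_bot hy1) b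
        (fun u _ v _ => hiso z u v) (fun v hv hv' => nondeg_R (hiso z) hb hy hpF hv hv')
      rw [hc, mul_one] at h4
      exact Nat.not_even_iff_odd.2 hdo h4
    · omega
  obtain ⟨E, hEd, hE⟩ := exists_split hp2 hpF hy (hiso z) hb hd hld hdo hfr
  have hcomm : ∀ a : A, ρ a * ρ z = ρ z * ρ a := fun a => by
    rw [← map_mul, ← map_mul]
    exact congrArg (fun x : A => ρ x) (hAc.is_comm.comm a z)
  have hap : ∀ a : A, ρ a ^ p = 1 := fun a => by rw [← map_pow, hAe a a.2, map_one]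
  let ρ' : A →* Module.End F E :=
    { toFun := fun a => (ρ a).restrict ((hE (ρ a) (hap a) (hiso a) (hcomm a)).1)
      map_one' := by ext w; simp only [_root_.OneMemClass.coe_one, _root_.map_one, _root_.LinearMap.coe_restrict_apply, _root_.Module.End.one_apply]
      map_mul' := fun a b => by ext w; simp only [Module.End.mul_apply, _root_.Subgroup.coe_mul, _root_.map_mul, _root_.LinearMap.coe_restrict_apply] }
  have hρ' : Function.Injective ρ' := by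
    rw [injective_iff_map_eq_one]
    intro a ha
    apply Subtype.ext
    apply hρ
    rw [Subgroup.coe_one, map_one]
    have h1 : ∀ w ∈ E, ρ a w = w := fun w hw => congrArg Subtype.val (LinearMap.congr_fun ha ⟨w, hw⟩)
    have h2 := (hE (ρ a) (hap a) (hiso a) (hcomm a)).2 h1
    apply eq_one_of_R_le hd hpF (hap a)
    have h7 : R (ρ a) ≤ K (ρ z) := by
      rintro _ ⟨v, rfl⟩
      change ρ a v - v ∈ K (ρ z)
      obtain ⟨k, hk, r, hr, rfl⟩ := decomp hy hpF v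
      rw [map_add, h2 r hr, add_sub_add_right_eq_sub]
      exact Submodule.sub_mem _ (K_inv (hcomm a) hk) hk
    have h8 : finrank F (R (ρ a)) ≤ finrank F (K (ρ z)) := Submodule.finrank_mono h7
    have h9 := finrank_add (ρ z)
    omega
  have hcyc : IsCyclic A := isCyclic_of (hΓ.to_subgroup A) ρ' hρ' hd hpF (by omega)
  obtain ⟨g, hg⟩ := IsCyclic.exists_generator (α := A)
  have h1 : orderOf g = Nat.card A := orderOf_eq_card_of_forall_mem_zpowers hg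
  have h2 : orderOf g ∣ p := orderOf_dvd_of_pow_eq_one (Subtype.ext (hAe g g.2))
  rw [h1, hA] at h2
  have h3 := Nat.le_of_dvd hpp.pos h2
  nlinarith only [h3, hpp.one_lt]

end split

/-- **cyclic Sylow subgroups** -/
theorem cyclic_P {F : Type} [Field F] [Fintype F] {p : ℕ} [hp : Fact p.Prime] (h11 : 11 ≤ p) (hpF : (p : F) ≠ 0)
    (hno : ¬ p ∣ Fintype.card F ^ 4 - 1) :
    ∃ S : Sylow p (P (LieClassical.QuadForms.plusForm 4 F)),
      IsCyclic (S : Subgroup (P (LieClassical.QuadForms.plusForm 4 F))) := by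
  have hpp : p.Prime := hp.out
  have hp2 : p ≠ 2 := by omega
  have hG : Good (LieClassical.QuadForms.plusForm 4 F) := Cfsg.Agent.AutOrth.Main.good_plus (by norm_num)
  have hfinV : Finite ((Fin 4 ⊕ Fin 4 → F) ≃ₗ[F] (Fin 4 ⊕ Fin 4 → F)) :=
    Finite.of_injective (fun g : (Fin 4 ⊕ Fin 4 → F) ≃ₗ[F] (Fin 4 ⊕ Fin 4 → F) =>
      (g : (Fin 4 ⊕ Fin 4 → F) → (Fin 4 ⊕ Fin 4 → F))) DFunLike.coe_injective
  have hpq : ¬ p ∣ Fintype.card F := by
    obtain ⟨r, hch, n, hr, hc⟩ := FiniteField.card' F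
    rw [hc]
    intro h
    apply hpF
    rw [(Nat.prime_dvd_prime_iff_eq hpp hr).1 (hpp.dvd_of_dvd_pow h)]
    exact CharP.cast_eq_zero F r
  set d := orderOf ((Fintype.card F : ℕ) : ZMod p) with hd
  have hdvd : ∀ m : ℕ, p ∣ Fintype.card F ^ m - 1 ↔ d ∣ m := by
    intro m
    rw [hd, orderOf_dvd_iff_pow_eq_one, ← Nat.cast_pow, ← Nat.cast_one (R := ZMod p), ZMod.natCast_eq_natCast_iff,
      Nat.ModEq.comm, Nat.modEq_iff_dvd' (Nat.one_le_pow _ _ Fintype.card_pos)]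
  have hOrd : Ordd p (Nat.card F) d := fun m hm => (hdvd m).1 (by rwa [← Nat.card_eq_fintype_card])
  have hd0 : 0 < d := by
    rw [hd, orderOf_pos_iff]
    have h0 : ((Fintype.card F : ℕ) : ZMod p) ≠ 0 := by
      rw [Ne, ZMod.natCast_eq_zero_iff]; exact hpq
    exact isOfFinOrder_iff_pow_eq_one.2 ⟨p - 1, by omega, ZMod.pow_card_sub_one_eq_one h0⟩
  have hd4 : ¬ d ∣ 4 := fun h => hno ((hdvd 4).2 h)
  have hd35 : d = 3 ∨ 5 ≤ d := by
    by_contra h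
    push Not at h
    have h1 : d ≤ 4 := by omega
    have h2 := h.1
    clear_value d
    interval_cases d
    · exact hd4 (by norm_num)
    · exact hd4 (by norm_num)
    · exact h2 rfl
    · exact hd4 (by norm_num)
  have hfr : finrank F (Fin 4 ⊕ Fin 4 → F) = 8 := by simp
  obtain ⟨S₁⟩ : Nonempty (Sylow p ↥(E (LieClassical.QuadForms.plusForm 4 F))) := inferInstance
  let ρ : ↥(S₁ : Subgroup ↥(E (LieClassical.QuadForms.plusForm 4 F))) →* Module.End F (Fin 4 ⊕ Fin 4 → F) :=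
    (LinearEquiv.automorphismGroup.toLinearMapMonoidHom (R := F) (M := Fin 4 ⊕ Fin 4 → F)).comp
      ((E (LieClassical.QuadForms.plusForm 4 F)).subtype.comp
        (S₁ : Subgroup ↥(E (LieClassical.QuadForms.plusForm 4 F))).subtype)
  have hρ : Function.Injective ρ := fun a b hab =>
    Subtype.ext (Subtype.ext (LinearEquiv.toLinearMap_injective hab))
  have hS₁ : IsCyclic ↥(S₁ : Subgroup ↥(E (LieClassical.QuadForms.plusForm 4 F))) := by
    rcases hd35 with h3 | h5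
    · refine isCyclic_odd (b := polarBilin (LieClassical.QuadForms.plusForm 4 F)) hp2 hpF (fun v hv => ?_) hOrd
        (by rw [Nat.card_eq_fintype_card]; exact (hdvd d).2 dvd_rfl) (by rw [h3]; decide) (by rw [hfr]; omega)
        S₁.2 ρ hρ fun γ u v => ?_
      · apply hG.nondeg
        intro w
        rw [polar_comm]
        exact hv w
      · have hO := E_le_O γ.1.2
        change polar _ (γ.1.1 u) (γ.1.1 v) = polar _ u v
        unfold polar
        rw [← map_add, hO, hO, hO]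
    · exact isCyclic_of S₁.2 ρ hρ hOrd hpF (by rw [hfr]; omega)
  refine ⟨S₁.mapSurjective (QuotientGroup.mk'_surjective (Subgroup.center _)), ?_⟩
  rw [Sylow.coe_mapSurjective]
  exact isCyclic_of_surjective _ ((QuotientGroup.mk' (Subgroup.center ↥(E (LieClassical.QuadForms.plusForm 4 F)))).subgroupMap_surjective
    (S₁ : Subgroup ↥(E (LieClassical.QuadForms.plusForm 4 F))))

end Cfsg.Agent.H587.KB8
end

-- part: H813/SpC/Blk
section
prune_inst 0x3040396524001000001c2000e00002a5690001000040880008a40e04020000420800880006a021161022080000000040021000200000000000000400000100001880040040810000400080000100000000000000000000000000000000000000000000000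
set_option linter.all false
open scoped Cfsg.Agent.FastGrp

-- part: H813/SpC/Adj
section
/-!
# Isometries with nontrivial spinor sign from adjoint pairs (helper813)

For a nondegenerate quadratic space of even dimension over a finite field of odd characteristic and an adjoint
pair of commuting endomorphisms `b, b'` with `det b` not a square and `det (b + b')` a nonzero square, the
isometry `b b'⁻¹` has determinant one and spinor sign `-1` (`exists_el`).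
-/

set_option autoImplicit false

namespace Cfsg.Agent.H813.SpC

open QuadraticMap Module
open Cfsg.Agent.LieClassical.OrthCore Cfsg.Agent.H160.QSpin Cfsg.Agent.H160.QSplit

variable {F V : Type*} [Field F] [AddCommGroup V] [Module F V]

/-- adjoint pairs -/
def Adj (Q : QuadraticForm F V) (b b' : Module.End F V) : Prop := ∀ x y, polar Q (b x) y = polar Q x (b' y)

namespace Adj

variable {Q : QuadraticForm F V} {b b' c c' : Module.End F V}

theorem symm (h : Adj Q b b') : Adj Q b' b := fun x y => by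
  rw [polar_comm Q, ← h, polar_comm Q]

theorem add (h : Adj Q b b') (k : Adj Q c c') : Adj Q (b + c) (b' + c') := fun x y => by
  rw [LinearMap.add_apply, LinearMap.add_apply, polar_add_left, polar_add_right, h, k]

theorem neg (h : Adj Q b b') : Adj Q (-b) (-b') := fun x y => by
  rw [LinearMap.neg_apply, LinearMap.neg_apply, polar_neg_left, polar_neg_right, h]

theorem mul (h : Adj Q b b') (k : Adj Q c c') : Adj Q (b * c) (c' * b') := fun x y => by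
  rw [Module.End.mul_apply, Module.End.mul_apply, h, k]

theorem one : Adj Q 1 1 := fun _ _ => rfl

theorem smul (a : F) (h : Adj Q b b') : Adj Q (a • b) (a • b') := fun x y => by
  rw [LinearMap.smul_apply, LinearMap.smul_apply, polar_smul_left, polar_smul_right, h]

theorem algebraMap (a : F) : Adj Q (algebraMap F (Module.End F V) a) (algebraMap F (Module.End F V) a) := by
  rw [Algebra.algebraMap_eq_smul_one]
  exact one.smul a

theorem unique (hQ : Nondeg Q) (h : Adj Q b b') (k : Adj Q b c') : b' = c' := by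
  ext y
  rw [← sub_eq_zero]
  apply hQ
  intro x
  rw [polar_comm Q, polar_sub_right, ← h, ← k, sub_self]

theorem iso {g : V ≃ₗ[F] V} (hg : g ∈ O Q) : Adj Q (en g) (en g⁻¹) := fun x y => polar_inv hg x y

theorem det [FiniteDimensional F V] (hQ : Nondeg Q) (h : Adj Q b b') : LinearMap.det b' = LinearMap.det b :=
  (det_adj hQ h).symm

/-- an isometry commuting with `b` commutes with its adjoint -/
theorem comm (hQ : Nondeg Q) (h : Adj Q b b') {g : V ≃ₗ[F] V} (hg : g ∈ O Q) (hc : en g * b = b * en g) :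
    en g * b' = b' * en g := by
  have h1 : en g⁻¹ * b = b * en g⁻¹ := by
    have h2 : en g⁻¹ * (en g * b) * en g⁻¹ = en g⁻¹ * (b * en g) * en g⁻¹ := by rw [hc]
    rw [← mul_assoc, en_inv_mul, one_mul] at h2
    rw [h2, mul_assoc, mul_assoc, en_mul_inv, mul_one]
  have h3 := (iso ((O Q).inv_mem hg)).mul h
  have h4 := h.mul (iso ((O Q).inv_mem hg))
  rw [inv_inv] at h3 h4
  rw [h1] at h3
  exact unique hQ h4 h3

end Adj

/-- existence of adjoints -/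
theorem exists_adj [FiniteDimensional F V] {Q : QuadraticForm F V} (hQ : Nondeg Q) (b : Module.End F V) :
    ∃ b', Adj Q b b' := by
  refine ⟨LinearMap.BilinForm.leftAdjointOfNondegenerate (polarBilin Q) (Cfsg.Agent.H160.QDisc.nondeg_bilin hQ) b, ?_⟩
  apply Adj.symm
  intro x y
  exact LinearMap.BilinForm.isAdjointPairLeftAdjointOfNondegenerate (polarBilin Q)
    (Cfsg.Agent.H160.QDisc.nondeg_bilin hQ) b x y

theorem isSquare_of_sq_mul {c d : F} (hd : d ≠ 0) (h : IsSquare (c * d ^ 2)) : IsSquare c := by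
  obtain ⟨r, hr⟩ := h
  refine ⟨r / d, ?_⟩
  field_simp
  linear_combination hr

/-- **Isometries with nontrivial spinor sign.** -/
theorem exists_el [Finite F] [Finite V] (h2 : (2 : F) ≠ 0) {Q : QuadraticForm F V} (hQ : Nondeg Q)
    (hev : Even (finrank F V)) {b b' : Module.End F V} (hA : Adj Q b b') (hc : b * b' = b' * b)
    (hb : ¬ IsSquare (LinearMap.det b)) (hs : IsSquare (LinearMap.det (b + b')))
    (hs0 : LinearMap.det (b + b') ≠ 0) :
    ∃ z : V ≃ₗ[F] V, El Q (-1) z ∧ ∀ g ∈ O Q, en g * b = b * en g → g * z = z * g := by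
  classical
  let _ := Fintype.ofFinite F
  have hb0 : LinearMap.det b ≠ 0 := fun h => hb (h ▸ IsSquare.zero)
  have hb0' : LinearMap.det b' ≠ 0 := by rw [hA.det hQ]; exact hb0
  let β : V ≃ₗ[F] V := LinearMap.equivOfDetNeZero b hb0
  let β' : V ≃ₗ[F] V := LinearMap.equivOfDetNeZero b' hb0'
  have hβ : en β = b := rfl
  have hβ' : en β' = b' := rfl
  have hcc : β * β' = β' * β := en_inj (by rw [en_mul, en_mul, hβ, hβ', hc])
  have hzO : β * β'⁻¹ ∈ O Q := by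
    apply Cfsg.Agent.H160.QDisc.isIso_of_polar h2
    intro x y
    have e1 : (β * β'⁻¹) y = β (β'⁻¹ y) := rfl
    have e2 : (β * β'⁻¹) x = β (β'⁻¹ x) := rfl
    have e3 : β' (β (β'⁻¹ y)) = β y := by
      have : β' * (β * β'⁻¹) = β := by rw [← mul_assoc, ← hcc, mul_assoc, mul_inv_cancel, mul_one]
      exact LinearEquiv.congr_fun this y
    have e4 : β' (β'⁻¹ x) = x := β'.apply_symm_apply x
    have e5 : polar Q (β (β'⁻¹ x)) (β (β'⁻¹ y)) = polar Q (β'⁻¹ x) (β' (β (β'⁻¹ y))) := hA _ _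
    have e6 : polar Q (β'⁻¹ x) (β y) = polar Q (β' (β'⁻¹ x)) y := (hA.symm _ _).symm
    rw [e1, e2, e5, e3, e6, e4]
  have hdz : LinearEquiv.det (β * β'⁻¹) = 1 := by
    rw [map_mul, map_inv, mul_inv_eq_one]
    apply Units.ext
    rw [LinearEquiv.coe_det, LinearEquiv.coe_det]
    exact (hA.det hQ).symm
  have h1z : (1 + en (β * β'⁻¹)) * b' = b + b' := by
    have e1 : en β'⁻¹ * b' = 1 := en_inv_mul β'
    rw [add_mul, one_mul, en_mul, mul_assoc, e1, mul_one, add_comm, hβ]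
  have hdet : LinearMap.det (1 + en (β * β'⁻¹)) * LinearMap.det b = LinearMap.det (b + b') := by
    rw [← h1z, map_mul, hA.det hQ]
  have hne : LinearMap.det (1 + en (β * β'⁻¹)) ≠ 0 := fun h => hs0 (by rw [← hdet, h, zero_mul])
  refine ⟨β * β'⁻¹, ⟨hzO, hdz, ?_⟩, ?_⟩
  · have h3 := Cfsg.Agent.H899.O7.Zass.zass h2 hQ hev (finrank F V) hzO hdz hne (by omega)
    have h4 : quadraticChar F (LinearMap.det (1 + en (β * β'⁻¹))) = -1 := by
      rw [quadraticChar_neg_one_iff_not_isSquare]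
      rintro ⟨r, hr⟩
      obtain ⟨t, ht⟩ := hs
      apply hb
      have hr0 : r ≠ 0 := fun h => hne (by rw [hr, h, zero_mul])
      refine ⟨t / r, ?_⟩
      field_simp
      linear_combination ht + hdet - LinearMap.det b * hr
    rw [h4] at h3
    exact Units.ext h3
  · intro g hg hgb
    have e1 : g * β = β * g := en_inj (by rw [en_mul, en_mul]; exact hgb)
    have e2 : g * β' = β' * g := en_inj (by rw [en_mul, en_mul]; exact hA.comm hQ hg hgb)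
    have e3 : g * β'⁻¹ = β'⁻¹ * g := by
      rw [mul_inv_eq_iff_eq_mul, mul_assoc, e2, inv_mul_cancel_left]
    rw [← mul_assoc, e1, mul_assoc, e3, mul_assoc]

/-- a nondegenerate space with an isometry of odd order without fixed vectors has even dimension -/
theorem even_finrank [FiniteDimensional F V] (h2 : (2 : F) ≠ 0) {Q : QuadraticForm F V} (hQ : Nondeg Q)
    {x : V ≃ₗ[F] V} (hx : x ∈ O Q) {n : ℕ} (hn : Odd n) (hxn : x ^ n = 1) (hfix : ∀ v, x v = v → v = 0) :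
    Even (finrank F V) := by
  have hA : Adj Q (en x + -en x⁻¹) (en x⁻¹ + -en x) := by
    have := (Adj.iso hx).add (Adj.iso ((O Q).inv_mem hx)).neg
    rwa [inv_inv] at this
  have h0 : LinearMap.det (en x + -en x⁻¹) ≠ 0 := by
    apply det_ne_zero_of_inj
    intro v hv
    have e1 : x v = x⁻¹ v := by
      rw [LinearMap.add_apply, LinearMap.neg_apply, ← sub_eq_add_neg, sub_eq_zero] at hv
      exact hv
    have e2 : (x ^ 2) v = v := by
      rw [pow_two]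
      show x (x v) = v
      rw [e1]
      exact x.apply_symm_apply v
    have e3 : ∀ k : ℕ, ((x ^ 2) ^ k) v = v := by
      intro k
      induction k with
      | zero => rfl
      | succ k ih =>
        rw [pow_succ]
        show ((x ^ 2) ^ k) ((x ^ 2) v) = v
        rw [e2, ih]
    obtain ⟨k, hk⟩ := hn
    apply hfix
    have e4 : (x ^ 2) ^ k * x = 1 := by rw [← pow_mul, ← pow_succ, ← hk, hxn]
    have e5 : ((x ^ 2) ^ k) (x v) = v := LinearEquiv.congr_fun e4 v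
    have e6 : ((x ^ 2) ^ k) v = v := e3 k
    exact ((x ^ 2) ^ k).injective (e5.trans e6.symm)
  have h1 := hA.det hQ
  have h3 : en x⁻¹ + -en x = (-1 : F) • (en x + -en x⁻¹) := by
    rw [neg_one_smul]; abel
  rw [h3, LinearMap.det_smul] at h1
  by_contra hodd
  rw [Nat.not_even_iff_odd] at hodd
  rw [hodd.neg_one_pow] at h1
  apply h0
  have h4 : (2 : F) * LinearMap.det (en x + -en x⁻¹) = 0 := by linear_combination -h1
  exact (mul_eq_zero.1 h4).resolve_left h2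

end Cfsg.Agent.H813.SpC
end

-- part: H813/SpC/Fld
section
/-!
# The field generated by an irreducible endomorphism (helper813)
-/

set_option autoImplicit false

namespace Cfsg.Agent.H813.SpC

open Module

section Gen

variable {F L : Type*} [Field F] [Field L] [Algebra F L] [Finite L]

/-- a generator of the multiplicative group has nonsquare norm -/
theorem exists_gen (h2 : (2 : F) ≠ 0) :
    ∃ b : L, ¬ IsSquare (Algebra.norm F b) ∧ ∀ k : L, k ≠ 0 → ∃ i : ℕ, b ^ i = k := by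
  have hF : Finite F := Finite.of_injective (algebraMap F L) (algebraMap F L).injective
  obtain ⟨u, hu⟩ := IsCyclic.exists_generator (α := Lˣ)
  have hgen : ∀ k : L, k ≠ 0 → ∃ i : ℕ, (u : L) ^ i = k := by
    intro k hk
    have h1 := hu (Units.mk0 k hk)
    rw [← mem_powers_iff_mem_zpowers] at h1
    obtain ⟨i, hi⟩ := h1
    refine ⟨i, ?_⟩
    have := congrArg Units.val hi
    simpa using this
  refine ⟨u, ?_, hgen⟩
  have hc : ringChar F ≠ 2 := fun h => h2 (by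
    have := ringChar.Nat.cast_ringChar (R := F)
    rw [h] at this
    exact_mod_cast this)
  obtain ⟨d, hd⟩ := FiniteField.exists_nonsquare hc
  intro hsq
  apply hd
  obtain ⟨k, rfl⟩ := FiniteField.norm_surjective F L d
  have hk : k ≠ 0 := by
    rintro rfl
    apply hd
    rw [Algebra.norm_zero]
    exact IsSquare.zero
  obtain ⟨i, rfl⟩ := hgen k hk
  rw [map_pow]
  exact hsq.pow i

omit [Finite L] in
/-- elements fixed by an involutory automorphism are squares -/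
theorem isSquare_of_fixed [Finite L] (h2 : (2 : L) ≠ 0) (τ : L →+* L) {s : L} (hs : s ≠ 0)
    (hss : τ s = -s) {c : L} (hc : τ c = c) : IsSquare c := by
  classical
  let K₀ : Subfield L := RingHom.eqLocusField τ (RingHom.id L)
  let _ : Fintype K₀ := Fintype.ofFinite K₀
  have hsK : s ^ 2 ∈ K₀ := by
    show τ (s ^ 2) = s ^ 2
    rw [map_pow, hss, neg_sq]
  have hcK : c ∈ K₀ := hc
  have hns : ¬ IsSquare (⟨s ^ 2, hsK⟩ : K₀) := by
    rintro ⟨t, ht⟩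
    have h1 : s ^ 2 = (t : L) ^ 2 := by
      have := congrArg Subtype.val ht
      rw [pow_two (t : L)]
      exact this
    have ht2 : τ (t : L) = t := t.2
    have h3 : τ s = s := by
      rcases sq_eq_sq_iff_eq_or_eq_neg.1 h1 with h | h
      · rw [h, ht2]
      · rw [h, map_neg, ht2]
    rw [hss] at h3
    have h4 : 2 * s = 0 := by linear_combination -h3
    exact (mul_ne_zero h2 hs) h4
  by_cases h : IsSquare (⟨c, hcK⟩ : K₀)
  · obtain ⟨t, ht⟩ := h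
    exact ⟨t, congrArg Subtype.val ht⟩
  · have h5 := quadraticChar_neg_one_iff_not_isSquare.2 h
    have h6 := quadraticChar_neg_one_iff_not_isSquare.2 hns
    have h7 : quadraticChar K₀ (⟨c, hcK⟩ * ⟨s ^ 2, hsK⟩) = 1 := by
      rw [map_mul, h5, h6]
      norm_num
    have h8 : (⟨c, hcK⟩ * ⟨s ^ 2, hsK⟩ : K₀) ≠ 0 := by
      intro h0
      rw [h0, quadraticChar_zero] at h7
      exact zero_ne_one h7
    obtain ⟨t, ht⟩ := (quadraticChar_one_iff_isSquare h8).1 h7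
    have h9 : c * s ^ 2 = (t : L) * t := congrArg Subtype.val ht
    refine ⟨t / s, ?_⟩
    field_simp
    linear_combination h9

end Gen

section Field

universe u v

variable {F : Type u} {V : Type v} [Field F] [AddCommGroup V] [Module F V]

open scoped IsMulCommutative in
/-- **The field generated by an irreducible endomorphism.** -/
theorem exists_field [Finite V] [Nontrivial V] (x : Module.End F V)
    (hirr : ∀ W : Submodule F V, (∀ w ∈ W, x w ∈ W) → W = ⊥ ∨ W = ⊤) :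
    ∃ (L : Type v) (_ : Field L) (_ : Algebra F L) (_ : Finite L) (φ : L →ₐ[F] Module.End F V),
      φ.range = Algebra.adjoin F {x} ∧ ∀ k, LinearMap.det (φ k) = Algebra.norm F k := by
  classical
  let K : Subalgebra F (Module.End F V) := Algebra.adjoin F {x}
  have hxK : x ∈ K := Algebra.self_mem_adjoin_singleton F x
  have hcomm : ∀ k ∈ K, x * k = k * x := fun k hk =>
    congrArg Subtype.val (mul_comm (⟨x, hxK⟩ : K) ⟨k, hk⟩)
  have hinj : ∀ k ∈ K, k ≠ 0 → ∀ v, k v = 0 → v = 0 := by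
    intro k hk hk0
    rcases hirr (LinearMap.ker k) (by
      intro w hw
      rw [LinearMap.mem_ker] at hw ⊢
      have : k (x w) = x (k w) := (LinearMap.congr_fun (hcomm k hk) w).symm
      rw [this, hw, map_zero]) with h | h
    · intro v hv
      have : v ∈ LinearMap.ker k := hv
      rw [h] at this
      exact this
    · exact absurd (LinearMap.ker_eq_top.1 h) hk0
  have hfin : Finite K := Finite.of_injective (fun k : K => fun v : V => (k : Module.End F V) v) (by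
    intro a b hab
    apply Subtype.ext
    ext v
    exact congrFun hab v)
  have hdom : IsDomain K := by
    have h1 : NoZeroDivisors K := ⟨by
      intro a b hab
      by_contra hcon
      push Not at hcon
      obtain ⟨ha, hb⟩ := hcon
      apply hb
      apply Subtype.ext
      ext v
      apply hinj a a.2 (fun h => ha (Subtype.ext h))
      exact LinearMap.congr_fun (congrArg Subtype.val hab) v⟩
    exact IsDomain.mk
  have hF : IsField K := Finite.isField_of_domain K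
  obtain ⟨w, hw⟩ := exists_ne (0 : V)
  let e₀ : K →ₗ[F] V :=
    { toFun := fun k => (k : Module.End F V) w
      map_add' := fun _ _ => rfl
      map_smul' := fun _ _ => rfl }
  have he₀ : Function.Bijective e₀ := by
    constructor
    · rw [injective_iff_map_eq_zero]
      intro k hk
      by_contra hk0
      exact hw (hinj k k.2 (fun h => hk0 (Subtype.ext h)) w hk)
    · rw [← LinearMap.range_eq_top]
      rcases hirr (LinearMap.range e₀) (by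
        rintro _ ⟨k, rfl⟩
        exact ⟨⟨x, hxK⟩ * k, rfl⟩) with h | h
      · exfalso
        apply hw
        have : w ∈ LinearMap.range e₀ := ⟨1, rfl⟩
        rw [h] at this
        exact this
      · exact h
  let e : K ≃ₗ[F] V := LinearEquiv.ofBijective e₀ he₀
  refine ⟨K, hF.toField, K.algebra, hfin, K.val, ?_, ?_⟩
  · exact K.range_val
  · intro k
    have h1 : LinearMap.det ((e : K →ₗ[F] V) ∘ₗ (Algebra.lmul F K k) ∘ₗ (e.symm : V →ₗ[F] K)) =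
      LinearMap.det (Algebra.lmul F K k) := LinearMap.det_conj _ _
    have h2 : (e : K →ₗ[F] V) ∘ₗ (Algebra.lmul F K k) ∘ₗ (e.symm : V →ₗ[F] K) = (k : Module.End F V) := by
      ext v
      obtain ⟨m, rfl⟩ := e.surjective v
      show e (k * e.symm (e m)) = (k : Module.End F V) (e m)
      rw [LinearEquiv.symm_apply_apply]
      rfl
    rw [h2] at h1
    exact h1

end Field

end Cfsg.Agent.H813.SpC
end

-- part: H813/SpC/CaseA
section
/-!
# Irreducible isometries of odd order commute with isometries of spinor sign `-1` (helper813)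
-/

set_option autoImplicit false

namespace Cfsg.Agent.H813.SpC

open QuadraticMap Module
open Cfsg.Agent.LieClassical.OrthCore Cfsg.Agent.H160.QSpin Cfsg.Agent.H160.QSplit

variable {F V : Type*} [Field F] [AddCommGroup V] [Module F V]

theorem inv_mem_adjoin {x : V ≃ₗ[F] V} {n : ℕ} (hn : Odd n) (hxn : x ^ n = 1) :
    en x⁻¹ ∈ Algebra.adjoin F {en x} := by
  obtain ⟨k, hk⟩ := hn
  have h1 : x⁻¹ = x ^ (2 * k) := by
    rw [inv_eq_iff_mul_eq_one, ← pow_succ', ← hk, hxn]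
  rw [h1, en_pow]
  exact pow_mem (Algebra.self_mem_adjoin_singleton F (en x)) _

/-- adjoints of elements of the algebra generated by an isometry of odd order -/
theorem exists_adj_mem {Q : QuadraticForm F V} {x : V ≃ₗ[F] V} (hx : x ∈ O Q) {n : ℕ} (hn : Odd n)
    (hxn : x ^ n = 1) {k : Module.End F V} (hk : k ∈ Algebra.adjoin F {en x}) :
    ∃ k' ∈ Algebra.adjoin F {en x}, Adj Q k k' := by
  induction hk using Algebra.adjoin_induction with
  | mem y hy =>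
    rw [Set.mem_singleton_iff] at hy
    subst hy
    exact ⟨en x⁻¹, inv_mem_adjoin hn hxn, Adj.iso hx⟩
  | algebraMap r => exact ⟨_, Subalgebra.algebraMap_mem _ r, Adj.algebraMap r⟩
  | add a b _ _ iha ihb =>
    obtain ⟨a', ha', ha⟩ := iha
    obtain ⟨b', hb', hb⟩ := ihb
    exact ⟨a' + b', add_mem ha' hb', ha.add hb⟩
  | mul a b _ _ iha ihb =>
    obtain ⟨a', ha', ha⟩ := iha
    obtain ⟨b', hb', hb⟩ := ihb
    exact ⟨b' * a', mul_mem hb' ha', ha.mul hb⟩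

theorem no_fix {x : V ≃ₗ[F] V} (hx1 : x ≠ 1)
    (hirr : ∀ W : Submodule F V, (∀ w ∈ W, x w ∈ W) → W = ⊥ ∨ W = ⊤) : ∀ v, x v = v → v = 0 := by
  rcases hirr (LinearMap.ker (en x - 1)) (by
    intro w hw
    rw [LinearMap.mem_ker, LinearMap.sub_apply, sub_eq_zero] at hw ⊢
    have h1 : x w = w := hw
    show x (x w) = x w
    rw [h1, h1]) with h | h
  · intro v hv
    have h1 : v ∈ LinearMap.ker (en x - 1) := by
      rw [LinearMap.mem_ker, LinearMap.sub_apply, sub_eq_zero]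
      exact hv
    rw [h] at h1
    exact h1
  · exfalso
    apply hx1
    ext v
    have h1 : v ∈ LinearMap.ker (en x - 1) := by rw [h]; trivial
    rw [LinearMap.mem_ker, LinearMap.sub_apply, sub_eq_zero] at h1
    exact h1

/-- **Irreducible isometries of odd order.** -/
theorem caseA [Finite F] [Finite V] (h2 : (2 : F) ≠ 0) {Q : QuadraticForm F V} (hQ : Nondeg Q)
    {x : V ≃ₗ[F] V} (hx : x ∈ O Q) {n : ℕ} (hn : Odd n) (hxn : x ^ n = 1) (hx1 : x ≠ 1)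
    (hirr : ∀ W : Submodule F V, (∀ w ∈ W, x w ∈ W) → W = ⊥ ∨ W = ⊤) :
    ∃ z : V ≃ₗ[F] V, El Q (-1) z ∧ x * z = z * x := by
  have hnt : Nontrivial V := by
    by_contra hcon
    rw [not_nontrivial_iff_subsingleton] at hcon
    exact hx1 (LinearEquiv.ext fun v => Subsingleton.elim _ _)
  have hev : Even (finrank F V) := even_finrank h2 hQ hx hn hxn (no_fix hx1 hirr)
  obtain ⟨L, _, _, _, φ, hφ, hnorm⟩ := exists_field (en x) hirr
  have hinj : Function.Injective φ := φ.toRingHom.injective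
  have hmem : ∀ k : L, φ k ∈ Algebra.adjoin F {en x} := fun k => by
    rw [← hφ]; exact ⟨k, rfl⟩
  have hsur : ∀ f ∈ Algebra.adjoin F {en x}, ∃ k : L, φ k = f := fun f hf => by
    rw [← hφ] at hf; exact hf
  obtain ⟨ξ, hξ⟩ := hsur _ (Algebra.self_mem_adjoin_singleton F (en x))
  obtain ⟨ξ', hξ'⟩ := hsur _ (inv_mem_adjoin hn hxn)
  have hmul : ξ * ξ' = 1 := by
    apply hinj
    rw [map_mul, hξ, hξ', map_one, en_mul_inv]
  have hadj : ∀ k : L, ∃ k' : L, Adj Q (φ k) (φ k') := by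
    intro k
    obtain ⟨f, hf, hk⟩ := exists_adj_mem hx hn hxn (hmem k)
    obtain ⟨k', rfl⟩ := hsur f hf
    exact ⟨k', hk⟩
  choose τ hτ using hadj
  have huniq : ∀ k k' : L, Adj Q (φ k) (φ k') → τ k = k' := fun k k' h => hinj ((hτ k).unique hQ h)
  let T : L →+* L :=
    { toFun := τ
      map_one' := huniq _ _ (by rw [map_one]; exact Adj.one)
      map_mul' := fun a b => huniq _ _ (by
        rw [map_mul, mul_comm (τ a), map_mul]
        exact (hτ a).mul (hτ b))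
      map_zero' := huniq _ _ (by
        rw [map_zero]
        intro u v
        simp)
      map_add' := fun a b => huniq _ _ (by
        rw [map_add, map_add]
        exact (hτ a).add (hτ b)) }
  have hT : ∀ k, T k = τ k := fun _ => rfl
  have hTT : ∀ k, T (T k) = k := fun k => huniq _ _ (hτ k).symm
  have hTξ : T ξ = ξ' := huniq _ _ (by rw [hξ, hξ']; exact Adj.iso hx)
  have h2L : (2 : L) ≠ 0 := by
    have h3 : algebraMap F L 2 ≠ 0 := by
      rw [Ne, map_eq_zero]; exact h2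
    rwa [map_ofNat] at h3
  -- an element of odd order
  have hpow : ∀ m : ℕ, ξ ^ m = 1 → x ^ m = 1 := by
    intro m hm
    apply en_inj
    rw [en_pow, ← hξ, ← map_pow, hm, map_one]
    rfl
  have hs : ξ - T ξ ≠ 0 := by
    intro h
    apply hx1
    apply eq_one_of_odd hn _ hxn
    apply hpow
    rw [sub_eq_zero, hTξ] at h
    rw [pow_two]
    nth_rewrite 2 [h]
    exact hmul
  have hTs : T (ξ - T ξ) = -(ξ - T ξ) := by
    rw [map_sub, hTT, neg_sub]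
  obtain ⟨b, hb, hbg⟩ := exists_gen (F := F) (L := L) h2
  have hc0 : b + T b ≠ 0 := by
    intro h
    have h3 : T b = -b := by linear_combination h
    have hξ0 : ξ ≠ 0 := fun h => by rw [h, zero_mul] at hmul; exact zero_ne_one hmul
    obtain ⟨i, hi⟩ := hbg ξ hξ0
    have h4 : (T ξ) ^ 2 = ξ ^ 2 := by
      rw [← hi, map_pow, h3, ← pow_mul, ← pow_mul, mul_comm i 2, pow_mul, neg_sq, ← pow_mul]
    have h5 : (ξ ^ 2) ^ 2 = 1 := by
      have : ξ ^ 2 * (T ξ) ^ 2 = 1 := by rw [← mul_pow, hTξ, hmul, one_pow]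
      rw [h4] at this
      rw [pow_two (ξ ^ 2)]
      exact this
    have h6 : (x ^ 2) ^ 2 = 1 := by
      rw [← pow_mul]
      apply hpow
      rw [pow_mul]
      exact h5
    have h7 : x ^ 2 = 1 := eq_one_of_odd hn h6 (by rw [← pow_mul, mul_comm, pow_mul, hxn, one_pow])
    exact hx1 (eq_one_of_odd hn h7 hxn)
  have hcT : T (b + T b) = b + T b := by rw [map_add, hTT, add_comm]
  obtain ⟨r, hr⟩ := isSquare_of_fixed h2L T hs hTs hcT
  have hbb : φ b + φ (T b) = φ (b + T b) := (map_add φ _ _).symm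
  obtain ⟨z, hz, hzc⟩ := exists_el h2 hQ hev (b := φ b) (b' := φ (T b)) (hτ b)
    (by rw [← map_mul, mul_comm, map_mul]) (by rw [hnorm]; exact hb)
    (by rw [hbb, hnorm, hr, map_mul]; exact IsSquare.mul_self _)
    (by
      rw [hbb]
      intro h0
      have h3 : LinearMap.det (φ (b + T b)) * LinearMap.det (φ (b + T b)⁻¹) = 1 := by
        rw [← map_mul, ← map_mul, mul_inv_cancel₀ hc0, map_one, map_one]
      rw [h0, zero_mul] at h3
      exact zero_ne_one h3)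
  exact ⟨z, hz, hzc x hx (by rw [← hξ, ← map_mul, mul_comm, map_mul])⟩

end Cfsg.Agent.H813.SpC
end

-- part: H813/SpC/CaseB
section
/-!
# Isometries of odd order on a sum of two totally isotropic spaces (helper813)
-/

set_option autoImplicit false

namespace Cfsg.Agent.H813.SpC

open QuadraticMap Module
open Cfsg.Agent.LieClassical.OrthCore Cfsg.Agent.H160.QSpin Cfsg.Agent.H160.QSplit

variable {F V : Type*} [Field F] [AddCommGroup V] [Module F V]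

theorem fix_of_sq {x : V ≃ₗ[F] V} {n : ℕ} (hn : Odd n) (hxn : x ^ n = 1) {v : V} (h : x (x v) = v) :
    x v = v := by
  have e3 : ∀ k : ℕ, ((x ^ 2) ^ k) v = v := by
    intro k
    induction k with
    | zero => rfl
    | succ k ih =>
      rw [pow_succ]
      show ((x ^ 2) ^ k) ((x ^ 2) v) = v
      rw [pow_two x] at ih ⊢
      have h3 : (x * x) v = v := h
      rw [h3, ih]
  obtain ⟨k, hk⟩ := hn
  have e4 : (x ^ 2) ^ k * x = 1 := by rw [← pow_mul, ← pow_succ, ← hk, hxn]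
  have e5 : ((x ^ 2) ^ k) (x v) = v := LinearEquiv.congr_fun e4 v
  have e6 : ((x ^ 2) ^ k) v = v := e3 k
  exact ((x ^ 2) ^ k).injective (e5.trans e6.symm)

/-- **A sum of two totally isotropic invariant spaces.** -/
theorem caseB [Finite F] [Finite V] (h2 : (2 : F) ≠ 0) {Q : QuadraticForm F V} (hQ : Nondeg Q)
    {x : V ≃ₗ[F] V} (hx : x ∈ O Q) {n : ℕ} (hn : Odd n) (hxn : x ^ n = 1)
    (hfix : ∀ v, x v = v → v = 0) {W W' : Submodule F V} (hc : IsCompl W W') (hW0 : W ≠ ⊥)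
    (hW : ∀ a ∈ W, ∀ b ∈ W, polar Q a b = 0) (hW' : ∀ a ∈ W', ∀ b ∈ W', polar Q a b = 0)
    (hxW : ∀ w ∈ W, x w ∈ W) (hxW' : ∀ w ∈ W', x w ∈ W')
    (hirr : ∀ W₁ : Submodule F V, W₁ ≤ W → (∀ w ∈ W₁, x w ∈ W₁) → W₁ = ⊥ ∨ W₁ = W) :
    ∃ z : V ≃ₗ[F] V, El Q (-1) z ∧ x * z = z * x := by
  have hev : Even (finrank F V) := even_finrank h2 hQ hx hn hxn hfix
  have hnt : Nontrivial W := Submodule.nontrivial_iff_ne_bot.2 hW0
  let xW : Module.End F W := (en x).restrict hxW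
  have hxWv : ∀ w : W, (xW w : V) = x w := fun w => rfl
  have hirrW : ∀ W₁ : Submodule F W, (∀ w ∈ W₁, xW w ∈ W₁) → W₁ = ⊥ ∨ W₁ = ⊤ := by
    intro W₁ h1
    rcases hirr (W₁.map W.subtype) (Submodule.map_subtype_le W W₁) (by
      rintro _ ⟨w, hw, rfl⟩
      exact ⟨xW w, h1 w hw, rfl⟩) with h | h
    · left
      rw [← Submodule.map_bot W.subtype] at h
      exact Submodule.map_injective_of_injective W.injective_subtype h
    · right
      rw [eq_top_iff]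
      intro w _
      have h3 : (w : V) ∈ W₁.map W.subtype := by rw [h]; exact w.2
      obtain ⟨w₁, hw₁, h4⟩ := h3
      have h5 : w₁ = w := Subtype.ext h4
      rw [← h5]
      exact hw₁
  obtain ⟨L, _, _, _, φ, hφ, hnorm⟩ := exists_field xW hirrW
  have hinj : Function.Injective φ := φ.toRingHom.injective
  obtain ⟨ξ, hξ⟩ : ∃ ξ : L, φ ξ = xW := by
    have h1 := Algebra.self_mem_adjoin_singleton F xW
    rw [← hφ] at h1
    exact h1
  obtain ⟨a, ha, hag⟩ := exists_gen (F := F) (L := L) h2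
  have hcom : ∀ w : W, φ a (xW w) = xW (φ a w) := by
    intro w
    have h1 : φ a * φ ξ = φ ξ * φ a := by rw [← map_mul, mul_comm, map_mul]
    rw [hξ] at h1
    exact LinearMap.congr_fun h1 w
  have ha1 : a + 1 ≠ 0 := by
    intro h
    have h3 : a = -1 := by linear_combination h
    obtain ⟨w, hw⟩ := exists_ne (0 : W)
    have hξ0 : ξ ≠ 0 := by
      rintro rfl
      rw [map_zero] at hξ
      apply hw
      apply Subtype.ext
      apply x.injective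
      have h4 : xW w = 0 := by rw [← hξ]; rfl
      have h5 : x w = 0 := congrArg Subtype.val h4
      rw [h5]
      exact (map_zero x).symm
    obtain ⟨i, hi⟩ := hag ξ hξ0
    have h4 : ξ * ξ = 1 := by
      rw [← hi, h3, ← pow_add, ← two_mul, pow_mul, neg_one_sq, one_pow]
    have h5 : xW (xW w) = w := by
      have h6 : φ ξ * φ ξ = 1 := by rw [← map_mul, h4, map_one]
      rw [hξ] at h6
      exact LinearMap.congr_fun h6 w
    have h6 : x (x (w : V)) = w := congrArg Subtype.val h5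
    exact hw (Subtype.ext (hfix _ (fix_of_sq hn hxn h6)))
  have hainj : ∀ w : W, φ a w + w = 0 → w = 0 := by
    intro w hw
    have h1 : φ (a + 1)⁻¹ * φ (a + 1) = 1 := by rw [← map_mul, inv_mul_cancel₀ ha1, map_one]
    have h3 : φ (a + 1) w = 0 := by
      rw [map_add, map_one]
      exact hw
    have h4 := LinearMap.congr_fun h1 w
    rw [Module.End.mul_apply, h3, map_zero] at h4
    exact h4.symm
  -- the endomorphism `b`
  let e : (W × W') ≃ₗ[F] V := Submodule.prodEquivOfIsCompl W W' hc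
  have he : ∀ p : W × W', e p = p.1 + p.2 := fun p => Submodule.coe_prodEquivOfIsCompl' W W' hc p
  let b : Module.End F V := (e : (W × W') →ₗ[F] V) ∘ₗ (LinearMap.prodMap (φ a) LinearMap.id) ∘ₗ (e.symm : V →ₗ[F] (W × W'))
  have hb : ∀ (w : W) (w' : W'), b (w + w') = φ a w + w' := by
    intro w w'
    have h1 : (w : V) + w' = e (w, w') := (he (w, w')).symm
    rw [h1]
    show e ((LinearMap.prodMap (φ a) LinearMap.id) (e.symm (e (w, w')))) = _
    rw [LinearEquiv.symm_apply_apply, LinearMap.prodMap_apply, he]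
    rfl
  have hdec : ∀ v : V, ∃ (w : W) (w' : W'), v = w + w' := by
    intro v
    obtain ⟨p, rfl⟩ := e.surjective v
    exact ⟨p.1, p.2, he p⟩
  have hdet : LinearMap.det b = LinearMap.det (φ a) := by
    have h1 : LinearMap.det b = LinearMap.det (LinearMap.prodMap (φ a) (LinearMap.id : W' →ₗ[F] W')) :=
      LinearMap.det_conj _ _
    rw [h1, LinearMap.det_prodMap, LinearMap.det_id, mul_one]
  have hbW : ∀ w : W, b w = φ a w := by
    intro w
    have := hb w 0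
    simpa only [_root_.ZeroMemClass.coe_zero, _root_.add_zero] using this
  have hbW' : ∀ w' : W', b w' = w' := by
    intro w'
    have := hb 0 w'
    simpa only [_root_.ZeroMemClass.coe_zero, _root_.zero_add, _root_.map_zero] using this
  obtain ⟨b', hA⟩ := exists_adj hQ b
  have hb'W : ∀ w : W, b' w = w := by
    intro w
    rw [← sub_eq_zero]
    apply hQ
    intro v
    rw [polar_comm Q, polar_sub_right, ← hA]
    obtain ⟨u, u', rfl⟩ := hdec v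
    rw [hb, polar_add_left, polar_add_left, hW _ (φ a u).2 _ w.2, hW _ u.2 _ w.2, sub_self]
  have hW'perp : ∀ v : V, (∀ u' : W', polar Q v u' = 0) → v ∈ W' := by
    intro v hv
    obtain ⟨w, w', rfl⟩ := hdec v
    have h1 : (w : V) = 0 := by
      apply hQ
      intro y
      obtain ⟨u, u', rfl⟩ := hdec y
      have h3 := hv u'
      rw [polar_add_left, hW' _ w'.2 _ u'.2, add_zero] at h3
      rw [polar_add_right, hW _ w.2 _ u.2, h3, add_zero]
    rw [h1, zero_add]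
    exact w'.2
  have hb'W' : ∀ w' : W', b' w' ∈ W' := by
    intro w'
    apply hW'perp
    intro u'
    rw [polar_comm Q, ← hA, hbW', hW' _ u'.2 _ w'.2]
  have hcomm : b * b' = b' * b := by
    ext v
    obtain ⟨w, w', rfl⟩ := hdec v
    rw [Module.End.mul_apply, Module.End.mul_apply, hb, map_add, map_add, hb'W, map_add, hbW, hb'W]
    congr 1
    exact hbW' ⟨b' w', hb'W' w'⟩
  have hkey : (2 : F) • (b + b') = (b + 1) * (b' + 1) := by
    have h1 : (b - 1) * (b' - 1) = 0 := by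
      ext v
      obtain ⟨w, w', rfl⟩ := hdec v
      rw [Module.End.mul_apply, LinearMap.sub_apply b', map_add b', hb'W, Module.End.one_apply,
        add_sub_add_left_eq_sub, LinearMap.sub_apply, Module.End.one_apply,
        show b' (w' : V) - w' = ((⟨b' w', hb'W' w'⟩ - w' : W') : V) from rfl, hbW', sub_self]
      rfl
    have h3 : (b + 1) * (b' + 1) = (b - 1) * (b' - 1) + (b + b') + (b + b') := by noncomm_ring
    rw [h3, h1, zero_add, two_smul]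
  have hdet1 : LinearMap.det (b + 1) ≠ 0 := by
    apply det_ne_zero_of_inj
    intro v hv
    obtain ⟨w, w', rfl⟩ := hdec v
    rw [LinearMap.add_apply, hb, Module.End.one_apply] at hv
    have h1 : e (φ a w + w, w' + w') = 0 := by
      rw [he, ← hv]
      simp only [Submodule.coe_add]
      abel
    rw [LinearEquiv.map_eq_zero_iff] at h1
    have h3 := hainj w (congrArg Prod.fst h1)
    have h4 : w' + w' = 0 := congrArg Prod.snd h1
    rw [← two_smul F w'] at h4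
    have h5 : w' = 0 := (smul_eq_zero.1 h4).resolve_left h2
    rw [h3, h5]
    simp
  have hdetA : LinearMap.det (b' + 1) = LinearMap.det (b + 1) := (hA.add Adj.one).det hQ
  have hdet2 : (2 : F) ^ finrank F V * LinearMap.det (b + b') = LinearMap.det (b + 1) * LinearMap.det (b + 1) := by
    rw [← LinearMap.det_smul, hkey, map_mul, hdetA]
  have hsq : IsSquare (LinearMap.det (b + b')) := by
    obtain ⟨m, hm⟩ := hev
    apply isSquare_of_sq_mul (d := (2 : F) ^ m) (pow_ne_zero _ h2)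
    refine ⟨LinearMap.det (b + 1), ?_⟩
    rw [← hdet2, hm, pow_add]
    ring
  have hne : LinearMap.det (b + b') ≠ 0 := by
    intro h0
    rw [h0, mul_zero] at hdet2
    exact mul_ne_zero hdet1 hdet1 hdet2.symm
  obtain ⟨z, hz, hzc⟩ := exists_el h2 hQ hev hA hcomm (by rw [hdet, hnorm]; exact ha) hsq hne
  refine ⟨z, hz, hzc x hx ?_⟩
  ext v
  obtain ⟨w, w', rfl⟩ := hdec v
  rw [Module.End.mul_apply, Module.End.mul_apply, hb, map_add, map_add]
  have h1 : (en x) (w : V) = ((xW w : W) : V) := rfl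
  have h3 : (en x) (w' : V) = ((⟨x w', hxW' _ w'.2⟩ : W') : V) := rfl
  have h4 : (en x) ((φ a w : W) : V) = ((xW (φ a w) : W) : V) := rfl
  rw [h1, h3, h4, hb, hcom]

end Cfsg.Agent.H813.SpC
end

-- part: H813/SpC/Ext
section
/-!
# Extension of isometries from nondegenerate subspaces; cyclic groups of odd order (helper813)
-/

set_option autoImplicit false

namespace Cfsg.Agent.H813.SpC

open QuadraticMap Module
open Cfsg.Agent.LieClassical.OrthCore Cfsg.Agent.H160.QSpin Cfsg.Agent.H160.QSplit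

variable {F V : Type*} [Field F] [AddCommGroup V] [Module F V]

/-- the orthogonal complement -/
def pc (Q : QuadraticForm F V) (U : Submodule F V) : Submodule F V :=
  LinearMap.BilinForm.orthogonal (polarBilin Q) U

theorem mem_pc {Q : QuadraticForm F V} {U : Submodule F V} {v : V} :
    v ∈ pc Q U ↔ ∀ u ∈ U, polar Q u v = 0 := Iff.rfl

/-- nondegenerate subspaces -/
def ND (Q : QuadraticForm F V) (U : Submodule F V) : Prop :=
  ∀ u ∈ U, (∀ v ∈ U, polar Q u v = 0) → u = 0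

theorem ND.nondeg {Q : QuadraticForm F V} {U : Submodule F V} (hU : ND Q U) : Nondeg (Q.comp U.subtype) :=
  fun u hu => Subtype.ext (hU u u.2 fun v hv => hu ⟨v, hv⟩)

theorem isCompl_pc [FiniteDimensional F V] {Q : QuadraticForm F V} {U : Submodule F V} (hU : ND Q U) :
    IsCompl U (pc Q U) := by
  refine LinearMap.BilinForm.isCompl_orthogonal_of_restrict_nondegenerate
    (Cfsg.Agent.H160.QDisc.isSymm_bilin Q).isRefl ⟨fun u hu => ?_, fun u hu => ?_⟩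
  · exact Subtype.ext (hU u u.2 fun v hv => hu ⟨v, hv⟩)
  · exact Subtype.ext (hU u u.2 fun v hv => by rw [polar_comm]; exact hu ⟨v, hv⟩)

theorem decomp [FiniteDimensional F V] {Q : QuadraticForm F V} {U : Submodule F V} (hU : ND Q U) (v : V) :
    ∃ a ∈ U, ∃ b ∈ pc Q U, v = a + b := by
  have h := (isCompl_pc hU).sup_eq_top
  have hv : v ∈ U ⊔ pc Q U := by rw [h]; trivial
  obtain ⟨a, ha, b, hb, rfl⟩ := Submodule.mem_sup.1 hv
  exact ⟨a, ha, b, hb, rfl⟩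

/-- restriction of an automorphism to an invariant subspace -/
theorem exists_res [FiniteDimensional F V] (g : V ≃ₗ[F] V) {U : Submodule F V} (h : ∀ v ∈ U, g v ∈ U) :
    ∃ t : U ≃ₗ[F] U, ∀ v, (t v : V) = g v :=
  ⟨LinearEquiv.ofInjectiveEndo ((g : V →ₗ[F] V).restrict h) (fun _ _ hab =>
    Subtype.ext (g.injective (congrArg Subtype.val hab))), fun _ => rfl⟩

theorem inv_mem_of [FiniteDimensional F V] {g : V ≃ₗ[F] V} {U : Submodule F V} (h : ∀ v ∈ U, g v ∈ U) :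
    ∀ v ∈ U, ∃ u ∈ U, g u = v := by
  obtain ⟨t, ht⟩ := exists_res g h
  intro v hv
  obtain ⟨u, hu⟩ := t.surjective ⟨v, hv⟩
  exact ⟨u, u.2, by rw [← ht, hu]⟩

theorem pc_inv [FiniteDimensional F V] {Q : QuadraticForm F V} {g : V ≃ₗ[F] V} (hg : g ∈ O Q)
    {U : Submodule F V} (h : ∀ v ∈ U, g v ∈ U) : ∀ v ∈ pc Q U, g v ∈ pc Q U := by
  intro v hv
  rw [mem_pc] at hv ⊢
  intro u hu
  obtain ⟨w, hw, rfl⟩ := inv_mem_of h u hu
  rw [polar_map hg]
  exact hv w hw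

/-- **Extension by the identity.** -/
theorem extend [Finite F] [Finite V] (h2 : (2 : F) ≠ 0) {Q : QuadraticForm F V} (hQ : Nondeg Q)
    {T : Submodule F V} (hT : ND Q T) {s : ℤˣ} {t : T ≃ₗ[F] T} (ht : El (Q.comp T.subtype) s t) :
    ∃ z : V ≃ₗ[F] V, El Q s z ∧ (∀ v : T, z v = t v) ∧ (∀ v ∈ pc Q T, z v = v) := by
  let e : (T × pc Q T) ≃ₗ[F] V := Submodule.prodEquivOfIsCompl T (pc Q T) (isCompl_pc hT)
  have he0 : ∀ p : T × pc Q T, e p = p.1 + p.2 := fun p =>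
    Submodule.coe_prodEquivOfIsCompl' T (pc Q T) (isCompl_pc hT) p
  have he : IsIso ((Q.comp T.subtype).prod (Q.comp (pc Q T).subtype)) Q e := by
    intro p
    rw [he0, Qpr_apply, Q_add, mem_pc.1 p.2.2 _ p.1.2, add_zero]
    rfl
  have hn := nondeg_of_prod (he.symm.nondeg hQ)
  have h1 := El.cj he (El.pr h2 hn.1 hn.2 ht (El.one (Q.comp (pc Q T).subtype)))
  rw [mul_one] at h1
  refine ⟨_, h1, ?_, ?_⟩
  · intro v
    have h3 : (v : V) = e (v, 0) := by rw [he0]; simp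
    nth_rewrite 1 [h3]
    rw [cj_apply', pr_apply, he0]
    simp only [_root_.LinearEquiv.coe_one, _root_.id_eq, _root_.ZeroMemClass.coe_zero, _root_.add_zero]
  · intro v hv
    have h3 : v = e (0, ⟨v, hv⟩) := by rw [he0]; simp
    nth_rewrite 1 [h3]
    rw [cj_apply', pr_apply, he0]
    simp only [_root_.map_zero, _root_.ZeroMemClass.coe_zero, _root_.LinearEquiv.coe_one, _root_.id_eq, _root_.zero_add]

theorem comm_of_restrict [Finite V] {Q : QuadraticForm F V} {T : Submodule F V} (hT : ND Q T)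
    {z : V ≃ₗ[F] V} (hz : ∀ v ∈ pc Q T, z v = v) {g : V ≃ₗ[F] V} (hg : g ∈ O Q)
    (hgT : ∀ v ∈ T, g v ∈ T) (hgz : ∀ v ∈ T, g (z v) = z (g v)) : g * z = z * g := by
  ext v
  obtain ⟨a, ha, b, hb, rfl⟩ := decomp hT v
  show g (z (a + b)) = z (g (a + b))
  rw [map_add, map_add, map_add, map_add, hgz a ha, hz b hb, hz (g b) (pc_inv hg hgT b hb)]

theorem res_pow {g : V ≃ₗ[F] V} {U : Submodule F V} {t : U ≃ₗ[F] U} (ht : ∀ v, (t v : V) = g v) {n : ℕ}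
    (hn : g ^ n = 1) : t ^ n = 1 := by
  have h1 : ∀ (k : ℕ) (v : U), ((t ^ k) v : V) = (g ^ k) v := by
    intro k
    induction k with
    | zero => intro v; rfl
    | succ k ih =>
      intro v
      rw [pow_succ', pow_succ']
      show ((t ((t ^ k) v) : U) : V) = g ((g ^ k) v)
      rw [ht, ih]
  ext v
  rw [h1, hn]
  rfl

theorem res_mem_O {Q : QuadraticForm F V} {g : V ≃ₗ[F] V} (hg : g ∈ O Q) {U : Submodule F V}
    {t : U ≃ₗ[F] U} (ht : ∀ v, (t v : V) = g v) : t ∈ O (Q.comp U.subtype) := by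
  intro v
  show Q (t v : V) = Q (v : V)
  rw [ht, mem_O.1 hg]

theorem of_sub [Finite F] [Finite V] (h2 : (2 : F) ≠ 0) {Q : QuadraticForm F V} (hQ : Nondeg Q)
    {T : Submodule F V} (hT : ND Q T) {x : V ≃ₗ[F] V} (hx : x ∈ O Q) {t : T ≃ₗ[F] T}
    (ht : ∀ v, (t v : V) = x v)
    (h : ∃ z : T ≃ₗ[F] T, El (Q.comp T.subtype) (-1) z ∧ t * z = z * t) :
    ∃ z : V ≃ₗ[F] V, El Q (-1) z ∧ x * z = z * x := by
  obtain ⟨z₀, hz₀, hc⟩ := h
  obtain ⟨z, hz, hz1, hz2⟩ := extend h2 hQ hT hz₀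
  refine ⟨z, hz, comm_of_restrict hT hz2 hx (fun v hv => ?_) fun v hv => ?_⟩
  · rw [← ht ⟨v, hv⟩]
    exact (t ⟨v, hv⟩).2
  · have h1 : z v = z₀ ⟨v, hv⟩ := hz1 ⟨v, hv⟩
    have h3 : x v = t ⟨v, hv⟩ := (ht ⟨v, hv⟩).symm
    rw [h1, h3, hz1, ← ht]
    exact congrArg Subtype.val (LinearEquiv.congr_fun hc ⟨v, hv⟩)

/-- minimal invariant subspaces -/
theorem exists_min [Finite V] {x : V ≃ₗ[F] V} {S : Submodule F V} (hS : S ≠ ⊥) (hxS : ∀ v ∈ S, x v ∈ S) :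
    ∃ W ≤ S, W ≠ ⊥ ∧ (∀ v ∈ W, x v ∈ W) ∧
      ∀ W₁ : Submodule F V, W₁ ≤ W → (∀ w ∈ W₁, x w ∈ W₁) → W₁ = ⊥ ∨ W₁ = W := by
  have hfin : Finite (Submodule F V) := Finite.of_injective (fun U : Submodule F V => (U : Set V)) SetLike.coe_injective
  obtain ⟨W, ⟨h1, h2, h3⟩, h4⟩ := (wellFounded_lt (α := Submodule F V)).has_min
    {W | W ≤ S ∧ W ≠ ⊥ ∧ ∀ v ∈ W, x v ∈ W} ⟨S, le_rfl, hS, hxS⟩
  refine ⟨W, h1, h2, h3, fun W₁ h5 h6 => ?_⟩
  by_contra hcon
  push Not at hcon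
  exact h4 W₁ ⟨h5.trans h1, hcon.1, h6⟩ (lt_of_le_of_ne h5 hcon.2)

theorem irr_res {x : V ≃ₗ[F] V} {T W : Submodule F V} {t : T ≃ₗ[F] T} (ht : ∀ v, (t v : V) = x v)
    (hirr : ∀ W₁ : Submodule F V, W₁ ≤ W → (∀ w ∈ W₁, x w ∈ W₁) → W₁ = ⊥ ∨ W₁ = W) :
    ∀ W₁ : Submodule F T, W₁ ≤ W.comap T.subtype → (∀ w ∈ W₁, t w ∈ W₁) →
      W₁ = ⊥ ∨ W₁ = W.comap T.subtype := by
  intro W₁ h1 h3
  rcases hirr (W₁.map T.subtype) (by rw [Submodule.map_le_iff_le_comap]; exact h1) (by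
    rintro _ ⟨w, hw, rfl⟩
    exact ⟨t w, h3 w hw, ht w⟩) with h | h
  · left
    rw [← Submodule.map_bot T.subtype] at h
    exact Submodule.map_injective_of_injective T.injective_subtype h
  · right
    rw [← h, Submodule.comap_map_eq_of_injective T.injective_subtype]

/-- a nondegenerate irreducible invariant subspace suffices -/
theorem of_irr [Finite F] [Finite V] (h2 : (2 : F) ≠ 0) {Q : QuadraticForm F V} (hQ : Nondeg Q)
    {x : V ≃ₗ[F] V} (hx : x ∈ O Q) {n : ℕ} (hn : Odd n) (hxn : x ^ n = 1)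
    (hfix : ∀ v, x v = v → v = 0) {T : Submodule F V} (hT : ND Q T) (hT0 : T ≠ ⊥) (hxT : ∀ v ∈ T, x v ∈ T)
    (hirr : ∀ W₁ : Submodule F V, W₁ ≤ T → (∀ w ∈ W₁, x w ∈ W₁) → W₁ = ⊥ ∨ W₁ = T) :
    ∃ z : V ≃ₗ[F] V, El Q (-1) z ∧ x * z = z * x := by
  obtain ⟨t, ht⟩ := exists_res x hxT
  apply of_sub h2 hQ hT hx ht
  refine caseA h2 hT.nondeg (res_mem_O hx ht) hn (res_pow ht hxn) ?_ ?_
  · rintro rfl
    apply hT0
    rw [eq_bot_iff]
    intro v hv
    exact hfix v (ht ⟨v, hv⟩).symm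
  · intro W₁ h1
    have h3 := irr_res ht hirr W₁ (by rw [Submodule.comap_subtype_self]; exact le_top) h1
    rwa [Submodule.comap_subtype_self] at h3

/-- **Cyclic groups of odd order without fixed vectors.** -/
theorem cyc [Finite F] [Finite V] [Nontrivial V] (h2 : (2 : F) ≠ 0) {Q : QuadraticForm F V} (hQ : Nondeg Q)
    {x : V ≃ₗ[F] V} (hx : x ∈ O Q) {n : ℕ} (hn : Odd n) (hxn : x ^ n = 1) (hnF : (n : F) ≠ 0)
    (hfix : ∀ v, x v = v → v = 0) :
    ∃ z : V ≃ₗ[F] V, El Q (-1) z ∧ x * z = z * x := by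
  obtain ⟨W, -, hW0, hxW, hWirr⟩ := exists_min (x := x) (S := (⊤ : Submodule F V)) top_ne_bot (fun _ _ => trivial)
  by_cases hW : ND Q W
  · exact of_irr h2 hQ hx hn hxn hfix hW hW0 hxW hWirr
  have hWi : ∀ a ∈ W, ∀ b ∈ W, polar Q a b = 0 := by
    rcases hWirr (W ⊓ pc Q W) inf_le_left (fun w hw => ⟨hxW w hw.1, pc_inv hx hxW w hw.2⟩) with h | h
    · exfalso
      apply hW
      intro u hu huv
      have h1 : u ∈ W ⊓ pc Q W := ⟨hu, mem_pc.2 fun v hv => by rw [polar_comm]; exact huv v hv⟩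
      rw [h] at h1
      exact h1
    · intro a ha b hb
      rw [← h] at hb
      exact mem_pc.1 hb.2 a ha
  -- an invariant complement of `W^⊥`
  have hss : (en x).IsSemisimple := by
    refine Module.End.isSemisimple_of_squarefree_aeval_eq_zero (p := Polynomial.X ^ n - 1)
      (Polynomial.X_pow_sub_one_separable_iff.2 hnF).squarefree ?_
    rw [map_sub, map_pow, Polynomial.aeval_X, map_one, ← en_pow, hxn, sub_eq_zero]
    rfl
  obtain ⟨C, hC, hCc⟩ := Module.End.isSemisimple_iff.1 hss (pc Q W) (fun v hv => pc_inv hx hxW v hv)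
  have hxC : ∀ v ∈ C, x v ∈ C := fun v hv => hC hv
  have hC0 : C ≠ ⊥ := by
    rintro rfl
    have h1 : pc Q W = ⊤ := by
      have := hCc.sup_eq_top
      rwa [sup_bot_eq] at this
    apply hW0
    rw [eq_bot_iff]
    intro w hw
    apply hQ
    intro v
    have h3 : v ∈ pc Q W := by rw [h1]; trivial
    exact mem_pc.1 h3 w hw
  obtain ⟨W', hW'C, hW'0, hxW', hW'irr⟩ := exists_min (x := x) hC0 hxC
  by_cases hW' : ND Q W'
  · exact of_irr h2 hQ hx hn hxn hfix hW' hW'0 hxW' hW'irr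
  have hW'i : ∀ a ∈ W', ∀ b ∈ W', polar Q a b = 0 := by
    rcases hW'irr (W' ⊓ pc Q W') inf_le_left (fun w hw => ⟨hxW' w hw.1, pc_inv hx hxW' w hw.2⟩) with h | h
    · exfalso
      apply hW'
      intro u hu huv
      have h1 : u ∈ W' ⊓ pc Q W' := ⟨hu, mem_pc.2 fun v hv => by rw [polar_comm]; exact huv v hv⟩
      rw [h] at h1
      exact h1
    · intro a ha b hb
      rw [← h] at hb
      exact mem_pc.1 hb.2 a ha
  -- the pairing between `W` and `W'`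
  have hp1 : ∀ w' ∈ W', (∀ w ∈ W, polar Q w w' = 0) → w' = 0 := by
    intro w' hw' h
    have h1 : w' ∈ pc Q W ⊓ C := ⟨mem_pc.2 h, hW'C hw'⟩
    rw [hCc.inf_eq_bot] at h1
    exact h1
  have hp2 : ∀ w ∈ W, (∀ w' ∈ W', polar Q w' w = 0) → w = 0 := by
    rcases hWirr (W ⊓ pc Q W') inf_le_left (fun w hw => ⟨hxW w hw.1, pc_inv hx hxW' w hw.2⟩) with h | h
    · intro w hw h1
      have h3 : w ∈ W ⊓ pc Q W' := ⟨hw, mem_pc.2 h1⟩
      rw [h] at h3
      exact h3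
    · exfalso
      apply hW'0
      rw [eq_bot_iff]
      intro w' hw'
      apply hp1 w' hw'
      intro w hw
      rw [← h] at hw
      rw [polar_comm]
      exact mem_pc.1 hw.2 w' hw'
  have hdisj : ∀ v ∈ W, v ∈ W' → v = 0 := fun v hv hv' => hp1 v hv' fun w hw => hWi w hw v hv
  have hT : ND Q (W ⊔ W') := by
    intro u hu h
    obtain ⟨w, hw, w', hw', rfl⟩ := Submodule.mem_sup.1 hu
    have e1 : w' = 0 := by
      apply hp1 w' hw'
      intro v hv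
      have h3 := h v (Submodule.mem_sup_left hv)
      rw [polar_add_left, hWi w hw v hv, zero_add] at h3
      rw [polar_comm]
      exact h3
    have e2 : w = 0 := by
      apply hp2 w hw
      intro v hv
      have h3 := h v (Submodule.mem_sup_right hv)
      rw [polar_add_left, hW'i w' hw' v hv, add_zero] at h3
      rw [polar_comm]
      exact h3
    rw [e1, e2, add_zero]
  have hxT : ∀ v ∈ W ⊔ W', x v ∈ W ⊔ W' := by
    intro v hv
    obtain ⟨w, hw, w', hw', rfl⟩ := Submodule.mem_sup.1 hv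
    rw [map_add]
    exact Submodule.add_mem_sup (hxW w hw) (hxW' w' hw')
  obtain ⟨t, ht⟩ := exists_res x hxT
  apply of_sub h2 hQ hT hx ht
  have hfixT : ∀ v, t v = v → v = 0 := fun v hv => Subtype.ext (hfix v (by rw [← ht, hv]))
  refine caseB h2 hT.nondeg (res_mem_O hx ht) hn (res_pow ht hxn) hfixT
    (W := W.comap (W ⊔ W').subtype) (W' := W'.comap (W ⊔ W').subtype) ?_ ?_ ?_ ?_ ?_ ?_
    (irr_res ht hWirr)
  · constructor
    · rw [Submodule.disjoint_def]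
      intro v hv hv'
      exact Subtype.ext (hdisj v hv hv')
    · rw [codisjoint_iff, eq_top_iff]
      rintro ⟨v, hv⟩ -
      obtain ⟨w, hw, w', hw', rfl⟩ := Submodule.mem_sup.1 hv
      exact Submodule.mem_sup.2 ⟨⟨w, Submodule.mem_sup_left hw⟩, hw, ⟨w', Submodule.mem_sup_right hw'⟩, hw', rfl⟩
  · intro h
    apply hW0
    rw [eq_bot_iff]
    intro w hw
    have h1 : (⟨w, Submodule.mem_sup_left hw⟩ : (W ⊔ W' : Submodule F V)) ∈ W.comap (W ⊔ W').subtype := hw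
    rw [h] at h1
    exact congrArg Subtype.val h1
  · exact fun a ha b hb => hWi a ha b hb
  · exact fun a ha b hb => hW'i a ha b hb
  · intro w hw
    show ((t w : (W ⊔ W' : Submodule F V)) : V) ∈ W
    rw [ht]
    exact hxW w hw
  · intro w hw
    show ((t w : (W ⊔ W' : Submodule F V)) : V) ∈ W'
    rw [ht]
    exact hxW' w hw

end Cfsg.Agent.H813.SpC
end

-- part: H813/SpC/Blk
section
/-!
# Isometries of spinor sign `-1` commuting with a `p`-group of isometries (helper813)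

`exists_comm`: for `p` odd and different from the (odd) characteristic every nontrivial `p`-group of isometries of a
nondegenerate quadratic space commutes with an isometry of determinant one and spinor sign `-1`.
-/

set_option autoImplicit false

namespace Cfsg.Agent.H813.SpC

open QuadraticMap Module
open Cfsg.Agent.LieClassical.OrthCore Cfsg.Agent.H160.QSpin Cfsg.Agent.H160.QSplit

variable {F V : Type*} [Field F] [AddCommGroup V] [Module F V]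

/-- the fixed space -/
def fx (A : Subgroup (V ≃ₗ[F] V)) : Submodule F V where
  carrier := {v | ∀ a ∈ A, a v = v}
  add_mem' {v w} hv hw := fun a ha => by rw [map_add, hv a ha, hw a ha]
  zero_mem' := fun a _ => map_zero a
  smul_mem' c {v} hv := fun a ha => by rw [map_smul, hv a ha]

theorem mem_fx {A : Subgroup (V ≃ₗ[F] V)} {v : V} : v ∈ fx A ↔ ∀ a ∈ A, a v = v := Iff.rfl

theorem finite_equiv [Finite V] : Finite (V ≃ₗ[F] V) :=
  Finite.of_injective (fun g : V ≃ₗ[F] V => (g : V → V)) DFunLike.coe_injective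

/-- averaging -/
theorem exists_avg [Finite V] {Q : QuadraticForm F V} {A : Subgroup (V ≃ₗ[F] V)} (hA : A ≤ O Q) (v : V) :
    ∃ w ∈ fx A, (∀ u ∈ fx A, polar Q u w = (Nat.card A : F) * polar Q u v) ∧
      ∀ W : Submodule F V, (∀ a ∈ A, a v ∈ W) → w ∈ W := by
  classical
  have hfin : Finite (V ≃ₗ[F] V) := finite_equiv
  let _ : Fintype A := Fintype.ofFinite A
  refine ⟨∑ a : A, (a : V ≃ₗ[F] V) v, ?_, ?_, ?_⟩
  · intro b hb
    rw [map_sum]
    exact Fintype.sum_equiv (Equiv.mulLeft (⟨b, hb⟩ : A)) _ _ fun a => rfl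
  · intro u hu
    have h1 : polarBilin Q u (∑ a : A, (a : V ≃ₗ[F] V) v) = ∑ a : A, polarBilin Q u ((a : V ≃ₗ[F] V) v) :=
      map_sum _ _ _
    have h3 : ∀ a : A, polarBilin Q u ((a : V ≃ₗ[F] V) v) = polar Q u v := by
      intro a
      have h4 : polar Q ((a : V ≃ₗ[F] V) u) ((a : V ≃ₗ[F] V) v) = polar Q u v := polar_map (hA a.2) u v
      rw [mem_fx.1 hu a a.2] at h4
      exact h4
    rw [Finset.sum_congr rfl (fun a _ => h3 a), Finset.sum_const, Finset.card_univ, nsmul_eq_mul,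
      ← Nat.card_eq_fintype_card] at h1
    exact h1
  · intro W hW
    exact Submodule.sum_mem W fun a _ => hW a a.2

theorem nd_fx [Finite V] {Q : QuadraticForm F V} (hQ : Nondeg Q) {A : Subgroup (V ≃ₗ[F] V)} (hA : A ≤ O Q)
    (hc : (Nat.card A : F) ≠ 0) : ND Q (fx A) := by
  intro u hu h
  apply hQ
  intro v
  obtain ⟨w, hw, h1, -⟩ := exists_avg hA v
  have h3 := h1 u hu
  rw [h w hw] at h3
  exact (mul_eq_zero.1 h3.symm).resolve_left hc

theorem nd_pc [FiniteDimensional F V] {Q : QuadraticForm F V} (hQ : Nondeg Q) {U : Submodule F V}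
    (hU : ND Q U) : ND Q (pc Q U) := by
  intro u hu h
  apply hQ
  intro v
  obtain ⟨a, ha, b, hb, rfl⟩ := decomp hU v
  rw [polar_add_right, h b hb, add_zero, polar_comm]
  exact mem_pc.1 hu a ha

/-- blocks for a group of isometries -/
structure Blk (Q : QuadraticForm F V) (P : Subgroup (V ≃ₗ[F] V)) (U : Submodule F V) : Prop where
  nd : ND Q U
  ti : ∀ g ∈ P, (∀ u ∈ U, g u ∈ U) ∨ (∀ u ∈ U, ∀ v ∈ U, polar Q (g u) v = 0)
  nt : ∃ g ∈ P, (∀ u ∈ U, g u ∈ U) ∧ ∃ u ∈ U, g u ≠ u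

theorem blk_top {Q : QuadraticForm F V} (hQ : Nondeg Q) {P : Subgroup (V ≃ₗ[F] V)} (hP : P ≠ ⊥) :
    Blk Q P ⊤ := by
  refine ⟨fun u _ h => hQ u fun v => h v trivial, fun g _ => Or.inl fun _ _ => trivial, ?_⟩
  obtain ⟨⟨g, hg⟩, hg1⟩ := Subgroup.ne_bot_iff_exists_ne_one.1 hP
  refine ⟨g, hg, fun _ _ => trivial, ?_⟩
  by_contra hcon
  push Not at hcon
  exact hg1 (Subtype.ext (LinearEquiv.ext fun v => hcon v trivial))

section Min

variable [Finite V] {Q : QuadraticForm F V} (hQ : Nondeg Q) {p : ℕ} (hp : p.Prime) (hpF : (p : F) ≠ 0)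
  {R : Subgroup (V ≃ₗ[F] V)} (hR : IsPGroup p R) (hRO : R ≤ O Q) (hmin : ∀ U : Submodule F V, Blk Q R U → U = ⊤)

include hp hpF hR in
theorem card_ne_zero {A : Subgroup (V ≃ₗ[F] V)} (hAR : A ≤ R) : (Nat.card A : F) ≠ 0 := by
  have : Fact p.Prime := ⟨hp⟩
  have hfin : Finite (V ≃ₗ[F] V) := finite_equiv
  obtain ⟨k, hk⟩ := IsPGroup.iff_card.1 (hR.to_le hAR)
  rw [hk, Nat.cast_pow]
  exact pow_ne_zero _ hpF

include hQ hp hpF hR hRO hmin in
theorem fx_eq_bot {A : Subgroup (V ≃ₗ[F] V)} (hAR : A ≤ R) (hA1 : A ≠ ⊥)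
    (hAn : ∀ r ∈ R, ∀ a ∈ A, r⁻¹ * a * r ∈ A) : fx A = ⊥ := by
  have hnd : ND Q (fx A) := nd_fx hQ (hAR.trans hRO) (card_ne_zero hp hpF hR hAR)
  have hinv : ∀ r ∈ R, ∀ v ∈ fx A, r v ∈ fx A := by
    intro r hr v hv a ha
    have h1 := mem_fx.1 hv _ (hAn r hr a ha)
    have h3 : r ((r⁻¹ * a * r) v) = a (r v) := by
      have : r * (r⁻¹ * a * r) = a * r := by group
      exact LinearEquiv.congr_fun this v
    rw [h1] at h3
    exact h3.symm
  have hB : Blk Q R (pc Q (fx A)) := by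
    refine ⟨nd_pc hQ hnd, fun r hr => Or.inl (pc_inv (hRO hr) (hinv r hr)), ?_⟩
    by_contra hcon
    push Not at hcon
    apply hA1
    rw [eq_bot_iff]
    intro a ha
    rw [Subgroup.mem_bot]
    ext v
    obtain ⟨b, hb, c, hc, rfl⟩ := decomp hnd v
    have h1 := hcon a (hAR ha) (pc_inv (hRO (hAR ha)) (hinv a (hAR ha))) c hc
    rw [map_add, mem_fx.1 hb a ha, h1]
    rfl
  have h1 := hmin _ hB
  rw [eq_bot_iff]
  intro v hv
  apply hQ
  intro w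
  have hw : w ∈ pc Q (fx A) := by rw [h1]; trivial
  exact mem_pc.1 hw v hv

include hQ hp hpF hR hRO hmin in
theorem cyclic_of_min (hp2 : p ≠ 2) (hR1 : R ≠ ⊥) : IsCyclic R := by
  classical
  have : Fact p.Prime := ⟨hp⟩
  have hfin : Finite (V ≃ₗ[F] V) := finite_equiv
  by_contra hnc
  obtain ⟨A, hAn, ⟨hAc, hAp⟩, hAcard⟩ := Cfsg.Agent.S0126.result hp2 hR hnc
  -- the image of `A`
  let A' : Subgroup (V ≃ₗ[F] V) := A.map R.subtype
  have hA'R : A' ≤ R := Subgroup.map_subtype_le A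
  have hA' : ∀ (a : R), a ∈ A ↔ (a : V ≃ₗ[F] V) ∈ A' := by
    intro a
    constructor
    · intro h
      exact ⟨a, h, rfl⟩
    · rintro ⟨b, hb, h⟩
      have : b = a := Subtype.ext h
      rwa [this] at hb
  have hcard : Nat.card A' = p ^ 2 := by
    rw [← hAcard]
    exact (Nat.card_congr (A.equivMapOfInjective R.subtype R.subtype_injective).toEquiv).symm
  have hpow : ∀ a ∈ A', a ^ p = 1 := by
    rintro _ ⟨a, ha, rfl⟩
    have := congrArg Subtype.val (hAp a ha)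
    exact this
  have hcomm : ∀ a ∈ A', ∀ b ∈ A', a * b = b * a := by
    rintro _ ⟨a, ha, rfl⟩ _ ⟨b, hb, rfl⟩
    have h1 : (⟨a, ha⟩ : A) * ⟨b, hb⟩ = ⟨b, hb⟩ * ⟨a, ha⟩ := hAc.is_comm.comm _ _
    have h3 : a * b = b * a := congrArg Subtype.val h1
    exact congrArg Subtype.val h3
  have hnorm : ∀ r ∈ R, ∀ a ∈ A', r * a * r⁻¹ ∈ A' := by
    rintro r hr _ ⟨a, ha, rfl⟩
    exact ⟨(⟨r, hr⟩ * a * ⟨r, hr⟩⁻¹ :), hAn.conj_mem a ha ⟨r, hr⟩, rfl⟩
  have hA'1 : A' ≠ ⊥ := by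
    intro h
    rw [h, Subgroup.card_bot] at hcard
    have := hp.one_lt
    have h3 : 1 < p ^ 2 := Nat.one_lt_pow (by norm_num) this
    omega
  have hbot : fx A' = ⊥ := fx_eq_bot hQ hp hpF hR hRO hmin hA'R hA'1 (fun r hr a ha => by
    have := hnorm r⁻¹ (R.inv_mem hr) a ha
    rwa [inv_inv] at this)
  have hord : ∀ a ∈ A', a ≠ 1 → Nat.card (Subgroup.zpowers a) = p := by
    intro a ha h1
    rw [Nat.card_zpowers]
    exact orderOf_eq_prime (hpow a ha) h1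
  -- two noncommensurable elements have no common fixed vectors
  have hgen : ∀ a₀ ∈ A', a₀ ≠ 1 → ∀ a₁ ∈ A', a₁ ∉ Subgroup.zpowers a₀ → ∀ v : V, a₀ v = v → a₁ v = v → v = 0 := by
    intro a₀ ha₀ h0 a₁ ha₁ h1 v hv0 hv1
    let B : Subgroup (V ≃ₗ[F] V) :=
      { carrier := {a | a ∈ A' ∧ a v = v}
        mul_mem' := fun {a b} ha hb => ⟨A'.mul_mem ha.1 hb.1, by
          show a (b v) = v
          rw [hb.2, ha.2]⟩
        one_mem' := ⟨A'.one_mem, rfl⟩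
        inv_mem' := fun {a} ha => ⟨A'.inv_mem ha.1, by
          have h3 : a⁻¹ (a v) = v := a.symm_apply_apply v
          rwa [ha.2] at h3⟩ }
    have hBA : B ≤ A' := fun a ha => ha.1
    have h0B : a₀ ∈ B := ⟨ha₀, hv0⟩
    have h1B : a₁ ∈ B := ⟨ha₁, hv1⟩
    have hdvd : Nat.card B ∣ p ^ 2 := by
      rw [← hcard]
      exact Subgroup.card_dvd_of_le hBA
    obtain ⟨k, hk, hkB⟩ := (Nat.dvd_prime_pow hp).1 hdvd
    have hzB : Subgroup.zpowers a₀ ≤ B := by rw [Subgroup.zpowers_le]; exact h0B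
    have hlt : Nat.card (Subgroup.zpowers a₀) < Nat.card B := by
      refine lt_of_le_of_ne (Nat.le_of_dvd Nat.card_pos (Subgroup.card_dvd_of_le hzB)) ?_
      intro h
      apply h1
      rw [Subgroup.eq_of_le_of_card_ge hzB h.ge]
      exact h1B
    rw [hord a₀ ha₀ h0, hkB] at hlt
    have hk2 : k = 2 := by
      have h3 : 1 < k := by
        by_contra hcon
        have h4 : p ^ k ≤ p ^ 1 := Nat.pow_le_pow_right hp.pos (by omega)
        rw [pow_one] at h4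
        omega
      omega
    rw [hk2] at hkB
    have hBe : B = A' := Subgroup.eq_of_le_of_card_ge hBA (by rw [hkB, hcard])
    have h5 : v ∈ fx A' := by
      intro a ha
      rw [← hBe] at ha
      exact ha.2
    rw [hbot] at h5
    exact h5
  have hVnt : Nontrivial V := by
    by_contra hcon
    rw [not_nontrivial_iff_subsingleton] at hcon
    apply hR1
    rw [eq_bot_iff]
    intro r _
    rw [Subgroup.mem_bot]
    ext v
    exact Subsingleton.elim _ _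
  -- `A` does not act without fixed points
  have hncA : ¬ IsCyclic A' := by
    intro hcy
    have h1 := IsCyclic.exponent_eq_card (α := A')
    rw [hcard] at h1
    have h3 : Monoid.exponent A' ∣ p := Monoid.exponent_dvd_of_forall_pow_eq_one fun a => Subtype.ext (hpow a a.2)
    rw [h1] at h3
    have h4 := Nat.le_of_dvd hp.pos h3
    have h5 := hp.one_lt
    nlinarith only [h4, h5]
  obtain ⟨a₀, ha₀, h0, v₀, hv₀, hv0⟩ : ∃ a₀ ∈ A', a₀ ≠ 1 ∧ ∃ v : V, a₀ v = v ∧ v ≠ 0 := by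
    by_contra hcon
    push Not at hcon
    apply hncA
    let φ : A' →* AddMonoid.End V :=
      { toFun := fun a => ((a : V ≃ₗ[F] V) : V →ₗ[F] V).toAddMonoidHom
        map_one' := rfl
        map_mul' := fun _ _ => rfl }
    refine Cfsg.Agent.Solvable.FpfCyclic.isCyclic_of_fpf_add
      (fun a b => Subtype.ext (hcomm a a.2 b b.2)) φ ?_
    intro a ha v hv
    exact hcon a a.2 (fun h => ha (Subtype.ext h)) v hv
  have hzA : Subgroup.zpowers a₀ ≤ A' := by rw [Subgroup.zpowers_le]; exact ha₀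
  have hmemz : ∀ v : V, v ∈ fx (Subgroup.zpowers a₀) ↔ a₀ v = v := by
    intro v
    constructor
    · intro h
      exact h a₀ (Subgroup.mem_zpowers a₀)
    · intro h a ha
      have h3 : Subgroup.zpowers a₀ ≤ MulAction.stabilizer (V ≃ₗ[F] V) v := by
        rw [Subgroup.zpowers_le]
        exact h
      exact h3 ha
  have hblk : Blk Q R (fx (Subgroup.zpowers a₀)) := by
    refine ⟨nd_fx hQ ((hzA.trans hA'R).trans hRO) (card_ne_zero hp hpF hR (hzA.trans hA'R)), ?_, ?_⟩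
    · intro r hr
      set a₁ := r * a₀ * r⁻¹ with ha₁def
      have ha₁ : a₁ ∈ A' := hnorm r hr a₀ ha₀
      by_cases hz : a₁ ∈ Subgroup.zpowers a₀
      · left
        intro u hu
        rw [hmemz] at hu ⊢
        have h11 : a₁ ≠ 1 := by
          intro h
          apply h0
          rw [ha₁def] at h
          have h3 : a₀ = r⁻¹ * (r * a₀ * r⁻¹) * r := by group
          rw [h3, h]
          group
        have hzz : Subgroup.zpowers a₁ = Subgroup.zpowers a₀ := by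
          apply Subgroup.eq_of_le_of_card_ge
          · rw [Subgroup.zpowers_le]; exact hz
          · rw [hord a₀ ha₀ h0, hord a₁ ha₁ h11]
        have h3 : a₀ ∈ Subgroup.zpowers a₁ := by rw [hzz]; exact Subgroup.mem_zpowers a₀
        obtain ⟨j, hj⟩ := h3
        have h4 : a₀ * r = r * a₀ ^ j := by
          have h5 : a₀ = r * a₀ ^ j * r⁻¹ := by
            rw [← conj_zpow]
            exact hj.symm
          nth_rewrite 1 [h5]
          group
        have h5 : (a₀ ^ j) u = u := (hmemz u).2 hu _ (Subgroup.zpow_mem_zpowers a₀ j)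
        have h6 : a₀ (r u) = r ((a₀ ^ j) u) := LinearEquiv.congr_fun h4 u
        rw [h6, h5]
      · right
        intro u hu v hv
        rw [hmemz] at hu hv
        have hz1A : Subgroup.zpowers a₁ ≤ A' := by rw [Subgroup.zpowers_le]; exact ha₁
        obtain ⟨w, hw, hw1, hw2⟩ := exists_avg (Q := Q) ((hz1A.trans hA'R).trans hRO) v
        have hw3 : w ∈ fx (Subgroup.zpowers a₀) := by
          apply hw2
          intro a ha
          rw [hmemz]
          have h3 : a₀ (a v) = a (a₀ v) := LinearEquiv.congr_fun (hcomm a₀ ha₀ a (hz1A ha)) v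
          rw [h3, hv]
        have hw0 : w = 0 := hgen a₀ ha₀ h0 a₁ ha₁ hz w ((hmemz w).1 hw3) (hw a₁ (Subgroup.mem_zpowers a₁))
        have hru : r u ∈ fx (Subgroup.zpowers a₁) := by
          intro a ha
          have h3 : Subgroup.zpowers a₁ ≤ MulAction.stabilizer (V ≃ₗ[F] V) (r u) := by
            rw [Subgroup.zpowers_le]
            show a₁ (r u) = r u
            have h4 : a₁ * r = r * a₀ := by rw [ha₁def]; group
            have h5 : a₁ (r u) = r (a₀ u) := LinearEquiv.congr_fun h4 u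
            rw [h5, hu]
          exact h3 ha
        have h3 := hw1 _ hru
        rw [hw0, polar_zero_right] at h3
        exact (mul_eq_zero.1 h3.symm).resolve_left (card_ne_zero hp hpF hR (hz1A.trans hA'R))
    · by_contra hcon
      push Not at hcon
      apply hv0
      have h3 : v₀ ∈ fx A' := by
        intro a ha
        apply hcon a (hA'R ha) _ v₀ ((hmemz v₀).2 hv₀)
        intro u hu
        rw [hmemz] at hu ⊢
        have h3 : a₀ (a u) = a (a₀ u) := LinearEquiv.congr_fun (hcomm a₀ ha₀ a ha) u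
        rw [h3, hu]
      rw [hbot] at h3
      exact h3
  have htop := hmin _ hblk
  apply h0
  ext v
  exact (hmemz v).1 (by rw [htop]; trivial)

end Min

/-- the group induced on a subspace -/
def ind (P : Subgroup (V ≃ₗ[F] V)) (U : Submodule F V) : Subgroup (U ≃ₗ[F] U) where
  carrier := {t | ∃ g ∈ P, ∀ v : U, (t v : V) = g v}
  mul_mem' {s t} := by
    rintro ⟨g, hg, hs⟩ ⟨h, hh, ht⟩
    refine ⟨g * h, P.mul_mem hg hh, fun v => ?_⟩
    show ((s (t v) : U) : V) = g (h v)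
    rw [hs, ht]
  one_mem' := ⟨1, P.one_mem, fun _ => rfl⟩
  inv_mem' {t} := by
    rintro ⟨g, hg, ht⟩
    refine ⟨g⁻¹, P.inv_mem hg, fun v => ?_⟩
    have h1 : g ((t⁻¹ v : U) : V) = v := by
      rw [← ht]
      exact congrArg Subtype.val (t.apply_symm_apply v)
    have h3 : g⁻¹ (g ((t⁻¹ v : U) : V)) = ((t⁻¹ v : U) : V) := g.symm_apply_apply _
    rw [h1] at h3
    exact h3.symm

theorem ind_isPGroup {p : ℕ} {P : Subgroup (V ≃ₗ[F] V)} (hP : IsPGroup p P) (U : Submodule F V) :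
    IsPGroup p (ind P U) := by
  rintro ⟨t, g, hg, ht⟩
  obtain ⟨k, hk⟩ := hP ⟨g, hg⟩
  have h1 : g ^ p ^ k = 1 := congrArg Subtype.val hk
  exact ⟨k, Subtype.ext (res_pow ht h1)⟩

theorem blk_map {Q : QuadraticForm F V} {P : Subgroup (V ≃ₗ[F] V)} [FiniteDimensional F V] {U : Submodule F V}
    (hU : Blk Q P U) {U₀ : Submodule F U} (h : Blk (Q.comp U.subtype) (ind P U) U₀) : Blk Q P (U₀.map U.subtype) := by
  refine ⟨?_, ?_, ?_⟩
  · rintro _ ⟨u, hu, rfl⟩ h1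
    exact congrArg Subtype.val (h.nd u hu fun v hv => h1 v ⟨v, hv, rfl⟩)
  · intro g hg
    rcases hU.ti g hg with h1 | h1
    · obtain ⟨t, ht⟩ := exists_res g h1
      rcases h.ti t ⟨g, hg, ht⟩ with h3 | h3
      · left
        rintro _ ⟨u, hu, rfl⟩
        exact ⟨t u, h3 u hu, ht u⟩
      · right
        rintro _ ⟨u, hu, rfl⟩ _ ⟨v, hv, rfl⟩
        have h4 : polar Q ((t u : U) : V) v = 0 := h3 u hu v hv
        rw [ht] at h4
        exact h4
    · right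
      rintro _ ⟨u, hu, rfl⟩ _ ⟨v, hv, rfl⟩
      exact h1 u u.2 v v.2
  · obtain ⟨t, ⟨g, hg, ht⟩, h1, u, hu, h3⟩ := h.nt
    refine ⟨g, hg, ?_, u, ⟨u, hu, rfl⟩, ?_⟩
    · rintro _ ⟨v, hv, rfl⟩
      exact ⟨t v, h1 v hv, ht v⟩
    · intro h4
      exact h3 (Subtype.ext (by rw [ht, h4]))

/-- the product of pairwise commuting conjugates -/
theorem transfer {G A : Type*} [Group G] [CommGroup A] (χ : G →* A) (P : Subgroup G) [Finite P] (z : G)
    (h : ∀ g ∈ P, Commute z (g * z * g⁻¹)) :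
    ∃ y : G, (∀ g ∈ P, y * g = g * y) ∧ χ y = χ z ^ Nat.card P := by
  classical
  let _ : Fintype P := Fintype.ofFinite P
  let f : P → G := fun g => g * z * (g : G)⁻¹
  have hcomm : ∀ g k : P, Commute (f g) (f k) := by
    intro g k
    have h1 := h _ (g⁻¹ * k : P).2
    have h3 := h1.map (MulAut.conj (g : G))
    rw [MulAut.conj_apply, MulAut.conj_apply] at h3
    have h4 : (g : G) * (((g⁻¹ * k : P) : G) * z * ((g⁻¹ * k : P) : G)⁻¹) * (g : G)⁻¹ = f k := by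
      simp only [f, Subgroup.coe_mul, Subgroup.coe_inv]
      group
    rw [h4] at h3
    exact h3
  have hpw : ((Finset.univ : Finset P) : Set P).Pairwise (Function.onFun Commute f) := fun _ _ _ _ _ => hcomm _ _
  refine ⟨Finset.univ.noncommProd f hpw, ?_, ?_⟩
  · intro k hk
    have h1 : MulAut.conj k (Finset.univ.noncommProd f hpw) = Finset.univ.noncommProd f hpw := by
      rw [Finset.map_noncommProd]
      have h3 : (Finset.univ : Finset P).val.map (fun i => MulAut.conj k (f i)) = (Finset.univ : Finset P).val.map f := by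
        have h4 : (fun i => MulAut.conj k (f i)) = f ∘ (Equiv.mulLeft (⟨k, hk⟩ : P)) := by
          funext i
          rw [MulAut.conj_apply]
          show k * (i * z * (i : G)⁻¹) * k⁻¹ = (k * i) * z * (k * i : G)⁻¹
          group
        rw [h4, ← Multiset.map_map, Multiset.map_univ_val_equiv]
      unfold Finset.noncommProd
      congr 1
    rw [MulAut.conj_apply, mul_inv_eq_iff_eq_mul] at h1
    exact h1.symm
  · rw [Finset.map_noncommProd, Finset.noncommProd_eq_prod]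
    have h1 : ∀ g : P, χ (f g) = χ z := by
      intro g
      simp only [f, map_mul, map_inv]
      rw [mul_comm (χ (g : G)), mul_assoc, mul_inv_cancel, mul_one]
    rw [Finset.prod_congr rfl (fun g _ => h1 g), Finset.prod_const, Finset.card_univ, Nat.card_eq_fintype_card]

/-- **Isometries of spinor sign `-1` commuting with a `p`-group of isometries.** -/
theorem exists_comm [Finite F] [Finite V] (h2 : (2 : F) ≠ 0) {Q : QuadraticForm F V} (hQ : Nondeg Q)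
    {p : ℕ} (hp : p.Prime) (hp2 : p ≠ 2) (hpF : (p : F) ≠ 0) (P : Subgroup (V ≃ₗ[F] V)) (hP : IsPGroup p P)
    (hPO : P ≤ O Q) (hP1 : P ≠ ⊥) :
    ∃ z : V ≃ₗ[F] V, El Q (-1) z ∧ ∀ g ∈ P, z * g = g * z := by
  classical
  have : Fact p.Prime := ⟨hp⟩
  have hfinE : Finite (V ≃ₗ[F] V) := finite_equiv
  have hfin : Finite (Submodule F V) := Finite.of_injective (fun U : Submodule F V => (U : Set V)) SetLike.coe_injective
  obtain ⟨U, hU, hUmin⟩ := (wellFounded_lt (α := Submodule F V)).has_min {U | Blk Q P U} ⟨⊤, blk_top hQ hP1⟩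
  have hU : Blk Q P U := hU
  have hmin : ∀ U₀ : Submodule F U, Blk (Q.comp U.subtype) (ind P U) U₀ → U₀ = ⊤ := by
    intro U₀ h0
    have h1 := hUmin _ (blk_map hU h0)
    have h3 : U₀.map U.subtype ≤ U := Submodule.map_subtype_le U U₀
    have h4 : U₀.map U.subtype = U := by
      by_contra hne
      exact h1 (lt_of_le_of_ne h3 hne)
    rw [eq_top_iff]
    intro u _
    have h5 : (u : V) ∈ U₀.map U.subtype := by rw [h4]; exact u.2
    obtain ⟨w, hw, h6⟩ := h5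
    have h7 : w = u := Subtype.ext h6
    rwa [h7] at hw
  have hRO : ind P U ≤ O (Q.comp U.subtype) := by
    rintro t ⟨g, hg, ht⟩
    exact res_mem_O (hPO hg) ht
  have hR := ind_isPGroup hP U
  obtain ⟨g₀, hg₀, hg₀U, u₀, hu₀, hgu₀⟩ := hU.nt
  have hR1 : ind P U ≠ ⊥ := by
    intro h
    obtain ⟨t, ht⟩ := exists_res g₀ hg₀U
    have h1 : t ∈ ind P U := ⟨g₀, hg₀, ht⟩
    rw [h, Subgroup.mem_bot] at h1
    apply hgu₀
    have h3 := ht ⟨u₀, hu₀⟩
    rw [h1] at h3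
    exact h3.symm
  have hcyc := cyclic_of_min hU.nd.nondeg hp hpF hR hRO hmin hp2 hR1
  obtain ⟨⟨x, hxR⟩, hxg⟩ := IsCyclic.exists_generator (α := ind P U)
  have hbot : fx (ind P U) = ⊥ := fx_eq_bot hU.nd.nondeg hp hpF hR hRO hmin le_rfl hR1
    (fun r hr a ha => (ind P U).mul_mem ((ind P U).mul_mem ((ind P U).inv_mem hr) ha) hr)
  have hgen : ∀ t ∈ ind P U, ∃ j : ℤ, x ^ j = t := by
    intro t ht
    obtain ⟨j, hj⟩ := hxg ⟨t, ht⟩
    exact ⟨j, congrArg Subtype.val hj⟩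
  have hfix : ∀ v, x v = v → v = 0 := by
    intro v hv
    have h1 : v ∈ fx (ind P U) := by
      intro t ht
      obtain ⟨j, rfl⟩ := hgen t ht
      have h3 : Subgroup.zpowers x ≤ MulAction.stabilizer (U ≃ₗ[F] U) v := by
        rw [Subgroup.zpowers_le]
        exact hv
      exact h3 (Subgroup.zpow_mem_zpowers x j)
    rw [hbot] at h1
    exact h1
  have hUnt : Nontrivial U := by
    refine ⟨⟨⟨u₀, hu₀⟩, 0, fun h => hgu₀ ?_⟩⟩
    have h1 : u₀ = 0 := congrArg Subtype.val h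
    rw [h1, map_zero]
  obtain ⟨k, hk⟩ := hR ⟨x, hxR⟩
  have hxk : x ^ p ^ k = 1 := congrArg Subtype.val hk
  obtain ⟨z₀, hz₀, hz₀x⟩ := cyc h2 hU.nd.nondeg (hRO hxR) (n := p ^ k) ((hp.odd_of_ne_two hp2).pow) hxk
    (by rw [Nat.cast_pow]; exact pow_ne_zero _ hpF) hfix
  have hz₀R : ∀ t ∈ ind P U, t * z₀ = z₀ * t := by
    intro t ht
    obtain ⟨j, rfl⟩ := hgen t ht
    exact (Commute.zpow_left hz₀x j).eq
  obtain ⟨z, hz, hz1, hz2⟩ := extend h2 hQ hU.nd hz₀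
  have hzU : ∀ v ∈ U, z v ∈ U := fun v hv => by
    rw [hz1 ⟨v, hv⟩]
    exact (z₀ ⟨v, hv⟩).2
  -- `z` commutes with its conjugates
  have hcom : ∀ g ∈ P, Commute z (g * z * g⁻¹) := by
    intro g hg
    rcases hU.ti g hg with h1 | h1
    · have h3 : g * z = z * g := by
        refine comm_of_restrict hU.nd hz2 (hPO hg) h1 fun v hv => ?_
        obtain ⟨t, ht⟩ := exists_res g h1
        rw [hz1 ⟨v, hv⟩, ← ht, ← ht ⟨v, hv⟩, hz1]
        exact congrArg Subtype.val (LinearEquiv.congr_fun (hz₀R t ⟨g, hg, ht⟩) ⟨v, hv⟩)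
      rw [h3, mul_inv_cancel_right]
    · have h3 : ∀ v ∈ U, (g * z * g⁻¹) v = v := by
        intro v hv
        have h4 : g⁻¹ v ∈ pc Q U := by
          rw [mem_pc]
          intro u hu
          have h5 := h1 u hu v hv
          rw [polar_inv (hPO hg)] at h5
          exact h5
        show g (z (g⁻¹ v)) = v
        rw [hz2 _ h4]
        exact g.apply_symm_apply v
      have h4 : g * z * g⁻¹ ∈ O Q := (O Q).mul_mem ((O Q).mul_mem (hPO hg) hz.1) ((O Q).inv_mem (hPO hg))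
      exact (comm_of_restrict hU.nd hz2 h4 (fun v hv => by rw [h3 v hv]; exact hv) fun v hv => by
        rw [h3 v hv, h3 _ (hzU v hv)]).symm
  -- the transfer
  obtain ⟨hzO, hzd, hzs⟩ := hz
  let χ : O Q →* Fˣ × ℤˣ := MonoidHom.prod ((LinearEquiv.det (R := F) (M := V)).comp (O Q).subtype) (spin Q)
  obtain ⟨y, hy, hχ⟩ := transfer χ (P.subgroupOf (O Q)) ⟨z, hzO⟩ (fun g hg => Subtype.ext (hcom g hg))
  have hodd : Odd (Nat.card (P.subgroupOf (O Q))) := by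
    have h1 : Nat.card (P.subgroupOf (O Q)) = Nat.card P := Nat.card_congr (Subgroup.subgroupOfEquivOfLe hPO).toEquiv
    obtain ⟨m, hm⟩ := IsPGroup.iff_card.1 hP
    rw [h1, hm]
    exact (hp.odd_of_ne_two hp2).pow
  have hχz : χ ⟨z, hzO⟩ = (1, -1) := Prod.ext hzd hzs
  rw [hχz, Prod.pow_mk, one_pow, hodd.neg_one_pow] at hχ
  refine ⟨y, ⟨y.2, congrArg Prod.fst hχ, congrArg Prod.snd hχ⟩, fun g hg => ?_⟩
  exact congrArg Subtype.val (hy ⟨g, hPO hg⟩ hg)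

end Cfsg.Agent.H813.SpC
end
end

-- part: H299/AO/TwoF4
section
set_option linter.all false
open scoped Cfsg.Agent.FastGrp

/-!
# S4822, AO7: `AbOut` for `²F₄(q)`

All automorphisms are products of inner and field automorphisms.
-/

set_option autoImplicit false

namespace Cfsg.Agent.H299.AO

open Cfsg Cfsg.Lie Cfsg.Agent.H508.KB Cfsg.Agent.S2128
open Cfsg.Agent.ChevStructure.FieldMap Cfsg.Agent.ChevalleyStructure.TwF4.Rel
  Cfsg.Agent.ChevalleyStructure.TwF4.TwistedFix Cfsg.Agent.Octagon.KRel Cfsg.Agent.KFacts.TwF4.Inst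
  Cfsg.Agent.KFacts.TwF4 Cfsg.Agent.TitsThree.RankTwoZ

universe u

/-- **`Out(²F₄(q))` is abelian.** -/
theorem outComm_2F4 {K : Type u} [Field K] [Fintype K] {m : ℕ} (hm : 1 ≤ m) (hK : Fintype.card K = 2 ^ (2 * m + 1)) :
    OutComm ↥(twistedF4 K (2 ^ m)) := by
  have hch : CharP K 2 := Cfsg.Agent.ChevalleyStructure.TwF4.Twisted.charP_two hK
  have hf2 : Fact (Nat.Prime 2) := ⟨Nat.prime_two⟩
  obtain ⟨φ, hφ⟩ := exists_rln hK
  have hF : ∃ c : Kˣ, c ≠ 1 := by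
    have h1 : 1 < Nat.card Kˣ := by
      rw [Nat.card_units, Nat.card_eq_fintype_card, hK]
      have : 2 ^ 3 ≤ 2 ^ (2 * m + 1) := Nat.pow_le_pow_right (by norm_num) (by omega)
      omega
    have : Nontrivial Kˣ := Finite.one_lt_card_iff_nontrivial.1 h1
    exact exists_ne 1
  let S := full hK hφ
  let Φ : (K ≃+* K) → MulAut ↥(twistedF4 K (2 ^ m)) := fun τ => fld τ (2 ^ m)
  have hΦo : ∀ τ a t, Φ τ (S.o a t) = S.o a (τ t) := fun τ a t => fld_ro τ hφ a t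
  have hΦe : ∀ τ a p u, Φ τ (S.e a p u) = S.e a (τ p) (τ u) := fun τ a p u => fld_re τ hφ a p u
  have hform : ∀ α : MulAut ↥(twistedF4 K (2 ^ m)), ∃ k τ, α = MulAut.conj k * Φ τ := by
    intro α
    obtain ⟨k, τ0, ho, he⟩ := AutNorm.aut_form S hF rfl α
    obtain ⟨τ, hτ⟩ : ∃ τ : K ≃+* K, ∀ x, τ x = τ0 x :=
      ⟨RingEquiv.ofBijective τ0 (Finite.injective_iff_bijective.1 τ0.injective), fun _ => rfl⟩
    refine ⟨k, τ, aut_ext S ?_ ?_⟩
    · intro a t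
      rw [ho, MulAut.mul_apply, hΦo, MulAut.conj_apply, hτ]
    · intro a p u
      rw [he, MulAut.mul_apply, hΦe, MulAut.conj_apply, hτ, hτ]
  have hcomm : ∀ σ τ : K ≃+* K, Φ σ * Φ τ = Φ τ * Φ σ := by
    intro σ τ
    have h1 : ∀ x, σ (τ x) = τ (σ x) := fun x => DFunLike.congr_fun (Cfsg.Agent.Lib.AutSL2Out.ringEquiv_comm σ τ) x
    refine aut_ext S ?_ ?_
    · intro a t
      rw [MulAut.mul_apply, MulAut.mul_apply, hΦo, hΦo, hΦo, hΦo, h1]
    · intro a p u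
      rw [MulAut.mul_apply, MulAut.mul_apply, hΦe, hΦe, hΦe, hΦe, h1, h1]
  intro α β
  obtain ⟨k, σ, rfl⟩ := hform α
  obtain ⟨l, τ, rfl⟩ := hform β
  have hk : ∀ (γ : MulAut ↥(twistedF4 K (2 ^ m))) (g : ↥(twistedF4 K (2 ^ m))),
      γ * MulAut.conj g = MulAut.conj (γ g) * γ := by
    intro γ g
    ext x
    simp [MulAut.mul_apply, MulAut.conj_apply]
  refine ⟨k * Φ σ l * (Φ (τ) k)⁻¹ * l⁻¹, fun x => ?_⟩
  have e : MulAut.conj k * Φ σ * (MulAut.conj l * Φ τ) * (MulAut.conj k * Φ σ)⁻¹ * (MulAut.conj l * Φ τ)⁻¹ =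
      MulAut.conj (k * Φ σ l * (Φ τ k)⁻¹ * l⁻¹) := by
    have h1 : MulAut.conj k * Φ σ * (MulAut.conj l * Φ τ) = MulAut.conj (k * Φ σ l) * (Φ σ * Φ τ) := by
      rw [map_mul]
      calc MulAut.conj k * Φ σ * (MulAut.conj l * Φ τ) = MulAut.conj k * (Φ σ * MulAut.conj l) * Φ τ := by group
        _ = MulAut.conj k * (MulAut.conj (Φ σ l) * Φ σ) * Φ τ := by rw [hk]
        _ = _ := by group
    have h2 : MulAut.conj l * Φ τ * (MulAut.conj k * Φ σ) = MulAut.conj (l * Φ τ k) * (Φ σ * Φ τ) := by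
      rw [map_mul, hcomm σ τ]
      calc MulAut.conj l * Φ τ * (MulAut.conj k * Φ σ) = MulAut.conj l * (Φ τ * MulAut.conj k) * Φ σ := by group
        _ = MulAut.conj l * (MulAut.conj (Φ τ k) * Φ τ) * Φ σ := by rw [hk]
        _ = _ := by group
    calc MulAut.conj k * Φ σ * (MulAut.conj l * Φ τ) * (MulAut.conj k * Φ σ)⁻¹ * (MulAut.conj l * Φ τ)⁻¹ =
        (MulAut.conj k * Φ σ * (MulAut.conj l * Φ τ)) * (MulAut.conj l * Φ τ * (MulAut.conj k * Φ σ))⁻¹ := by group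
      _ = MulAut.conj (k * Φ σ l * (Φ τ k)⁻¹ * l⁻¹) := by
        rw [h1, h2, mul_inv_rev, ← mul_assoc, mul_inv_cancel_right, ← map_inv, ← map_mul, mul_inv_rev, ← mul_assoc]
  rw [e, MulAut.conj_apply]

theorem ab_2F4 (p : ℕ) [Fact p.Prime] (S : Type u) [Group S] [Finite S] [IsSimpleGroup S] (_h5 : 5 ≤ p)
    (h : Lie.Iso2F4 S) : AbOut p S := by
  obtain ⟨K, _, _, m, hm, hK, ⟨e⟩⟩ := h
  exact (OutComm.congr e (outComm_2F4 hm hK)).abOut p

end Cfsg.Agent.H299.AO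
end

-- part: H328/KB/Over
section
set_option linter.all false
open scoped Cfsg.Agent.FastGrp

/-!
# Orbits on the principal block of a normal subgroup (S4822, W1)

* `card_over_le` : an irreducible character of `N` lies under at most `|G : N|` irreducible characters;
* `kB_le_mul` : `k(B₀(G)) ≤ |G : N| * (number of orbits on Irr(B₀(N)))`;
* `kap_le` : transport of `kap` along an isomorphism of the normal subgroups;
* `kB_congr`.
-/

set_option autoImplicit false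

open Cfsg Subgroup Cfsg.Agent.H508.KB
open scoped ComplexConjugate

namespace Cfsg.Agent.H328.KB

open Cfsg.Agent.Characters.Core

universe u v

section one

variable {G : Type u} [Group G] [Finite G]

theorem card_over_le (N : Subgroup G) (θ : IrrCharacter N) :
    Nat.card {χ : IrrCharacter G // Over N χ θ} ≤ N.index := by
  classical
  have := Fintype.ofFinite G
  have := Fintype.ofFinite N
  have := finite_irr (G := G)
  have := Fintype.ofFinite (IrrCharacter G)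
  have hθ := isIrr_isCharacter θ.2
  have hind : IsCharacter G (indFun N (θ : N → ℂ)) := OddOrderCharacters.IndRes.isCharacter_indFun N hθ
  obtain ⟨m, hm, hdeg⟩ := H678.Constit.exists_decomp hind
  have hd1 : (charDegree (indFun N (θ : N → ℂ)) : ℂ) = (N.index : ℂ) * (charDegree (θ : N → ℂ) : ℂ) := by
    rw [H686.CharKit.charDegree_cast hind, H686.CharKit.charDegree_cast hθ, OddOrderCharacters.IndRes.indFun_apply_one]
  have hd2 : charDegree (indFun N (θ : N → ℂ)) = N.index * charDegree (θ : N → ℂ) := by exact_mod_cast hd1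
  have hdpos : 0 < charDegree (θ : N → ℂ) := by
    obtain ⟨n, hn, h1⟩ := isIrr_apply_one θ.2
    have h2 := H686.CharKit.charDegree_cast hθ
    rw [h1] at h2
    have : charDegree (θ : N → ℂ) = n := by exact_mod_cast h2
    omega
  have key : ∀ ψ : IrrCharacter G, Over N ψ θ → 1 ≤ m ψ ∧ charDegree (θ : N → ℂ) ≤ charDegree (ψ : G → ℂ) := by
    intro ψ hψ
    have hψ1 := over_iff.1 hψ
    constructor
    · rw [Nat.one_le_iff_ne_zero]
      intro h0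
      apply hψ1
      have h2 := classInner_sum_nsmul_irr m ψ
      rw [← hm, h0, Nat.cast_zero,
        OddOrderCharacters.IndRes.classInner_indFun_left N _ (isIrr_isClassFunction ψ.2)] at h2
      have h3 := classInner_conj_symm (θ : N → ℂ) (fun n : N => (ψ : G → ℂ) n)
      have h4 : classInner (θ : N → ℂ) (fun n : N => (ψ : G → ℂ) n) = 0 := h2
      rw [← h3, h4, map_zero]
    · have hres : IsCharacter N (fun x : N => (ψ : G → ℂ) x) :=
        Cfsg.Agent.Characters.Clifford.isCharacter_restrict N (isIrr_isCharacter ψ.2)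
      obtain ⟨β, hβ, hsum⟩ := H678.Constit.exists_add_of_classInner_ne_zero hres θ.2 hψ1
      have h1 : (charDegree (ψ : G → ℂ) : ℂ) = (charDegree (θ : N → ℂ) : ℂ) + (charDegree β : ℂ) := by
        rw [H686.CharKit.charDegree_cast (isIrr_isCharacter ψ.2), H686.CharKit.charDegree_cast hθ, H686.CharKit.charDegree_cast hβ]
        exact congrFun hsum 1
      have h2 : charDegree (ψ : G → ℂ) = charDegree (θ : N → ℂ) + charDegree β := by exact_mod_cast h1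
      omega
  rw [hd2] at hdeg
  have h5 : Nat.card {χ : IrrCharacter G // Over N χ θ} * charDegree (θ : N → ℂ) ≤
      ∑ ψ : IrrCharacter G, m ψ * charDegree (ψ : G → ℂ) := by
    rw [Nat.card_eq_fintype_card, Fintype.card_subtype, ← smul_eq_mul, ← Finset.sum_const]
    refine (Finset.sum_le_sum fun ψ hψ => ?_).trans (Finset.sum_le_sum_of_subset (Finset.subset_univ _))
    obtain ⟨h6, h7⟩ := key ψ (Finset.mem_filter.1 hψ).2
    calc charDegree (θ : N → ℂ) ≤ 1 * charDegree (ψ : G → ℂ) := by rw [one_mul]; exact h7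
      _ ≤ m ψ * charDegree (ψ : G → ℂ) := Nat.mul_le_mul_right _ h6
  rw [← hdeg] at h5
  exact Nat.le_of_mul_le_mul_right h5 hdpos

theorem exists_under (N : Subgroup G) (χ : IrrCharacter G) : ∃ θ : IrrCharacter N, Over N χ θ := by
  classical
  have := Fintype.ofFinite G
  have := Fintype.ofFinite N
  have hres : IsCharacter N (fun x : N => (χ : G → ℂ) x) :=
    Cfsg.Agent.Characters.Clifford.isCharacter_restrict N (isIrr_isCharacter χ.2)
  obtain ⟨θ, hθ, h⟩ := H678.Constit.exists_constituent hres (fun h0 => by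
    have h1 := congrFun h0 1
    exact isIrr_apply_one_ne_zero χ.2 h1)
  exact ⟨⟨θ, hθ⟩, over_iff.2 h⟩

theorem over_conj {N : Subgroup G} [N.Normal] {χ : IrrCharacter G} {θ θ' : IrrCharacter N} (h : Over N χ θ)
    (a : G) (hc : ∀ s : N, (θ' : N → ℂ) s = (θ : N → ℂ) (MulAut.conjNormal a s)) : Over N χ θ' := by
  have := Fintype.ofFinite N
  have e : ∑ᶠ n : N, (χ : G → ℂ) n * conj ((θ' : N → ℂ) n) = ∑ᶠ n : N, (χ : G → ℂ) n * conj ((θ : N → ℂ) n) := by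
    rw [finsum_eq_sum_of_fintype, finsum_eq_sum_of_fintype]
    refine Fintype.sum_equiv (MulAut.conjNormal a : MulAut N).toEquiv _ _ fun n => ?_
    rw [hc]
    congr 1
    have h1 := isIrr_isClassFunction χ.2 (n : G) a
    show (χ : G → ℂ) n = (χ : G → ℂ) ((MulAut.conjNormal a n : N) : G)
    rw [MulAut.conjNormal_apply, h1]
  unfold Over at h ⊢
  rwa [e]

end one

/-- fibres of bounded size -/
theorem card_le_mul_of_fibre {α β : Type*} [Finite α] [Finite β] (f : α → β) (n : ℕ) (h : ∀ b, Nat.card {a // f a = b} ≤ n) :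
    Nat.card α ≤ n * Nat.card β := by
  have := Fintype.ofFinite α
  have := Fintype.ofFinite β
  have h1 : Nat.card α = ∑ b : β, Nat.card {a // f a = b} := by
    rw [← Nat.card_sigma]
    exact Nat.card_congr (Equiv.sigmaFiberEquiv f).symm
  rw [h1]
  refine (Finset.sum_le_sum fun b _ => h b).trans ?_
  rw [Finset.sum_const, smul_eq_mul, Finset.card_univ, ← Nat.card_eq_fintype_card, mul_comm]

section two

variable {G : Type u} [Group G] [Finite G] {M : Ideal AlgInt}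

theorem kB_le_mul {p : ℕ} [Fact p.Prime] (hM : IsPModular p M) (N : Subgroup G) [N.Normal] :
    kB M G ≤ N.index * kap M N := by
  classical
  have := Fintype.ofFinite G
  have := Fintype.ofFinite N
  have := finite_irr (G := G)
  have := finite_irr (G := N)
  have hex : ∀ χ : principalBlock M G, ∃ θ : principalBlock M N, Over N χ.1 θ.1 := by
    intro χ
    obtain ⟨θ, hθ⟩ := exists_under N χ.1
    exact ⟨⟨θ, H611.CoverPrincipal.mem_principalBlock_of_over p hM N χ.1 θ (over_iff.1 hθ) χ.2⟩, hθ⟩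
  choose F hF using hex
  refine card_le_mul_of_fibre (fun χ : principalBlock M G => (Quotient.mk (orbSetoid M N) (F χ))) N.index fun b => ?_
  induction b using Quotient.inductionOn with
  | h θ =>
    refine le_trans ?_ (card_over_le N θ.1)
    refine Nat.card_le_card_of_injective (fun χ => ⟨χ.1.1, ?_⟩) ?_
    · obtain ⟨a, ha⟩ := Quotient.exact χ.2
      exact over_conj (hF χ.1) a ha
    · intro χ ψ h
      exact Subtype.ext (Subtype.ext (Subtype.mk.inj h))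

end two

section three

variable {A : Type u} [Group A] [Finite A] {G : Type v} [Group G] [Finite G] {M : Ideal AlgInt} [M.IsPrime]

/-- transport of the principal block -/
noncomputable def trB {H : Type u} {K : Type v} [Group H] [Group K] (e : H ≃* K) (χ : principalBlock M H) : principalBlock M K :=
  ⟨_, H133.PB.mem_principalBlock_comp e.symm.toMonoidHom e.symm.surjective χ.2⟩

theorem trB_apply {H : Type u} {K : Type v} [Group H] [Group K] (e : H ≃* K) (χ : principalBlock M H) (k : K) :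
    ((trB e χ).1 : K → ℂ) k = (χ.1 : H → ℂ) (e.symm k) := rfl

theorem trB_trB {H : Type u} {K : Type v} [Group H] [Group K] (e : H ≃* K) (χ : principalBlock M K) :
    trB e (trB e.symm χ) = χ := by
  refine Subtype.ext (Subtype.ext (funext fun k => ?_))
  show (χ.1 : K → ℂ) (e.symm.symm (e.symm k)) = _
  simp

theorem kB_congr {H : Type u} {K : Type v} [Group H] [Group K] (e : H ≃* K) : kB M H = kB M K := by
  refine Nat.card_congr ⟨trB e, trB e.symm, fun χ => ?_, fun χ => trB_trB e χ⟩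
  refine Subtype.ext (Subtype.ext (funext fun k => ?_))
  show (χ.1 : H → ℂ) (e.symm (e.symm.symm k)) = _
  simp

theorem kap_le {T : Subgroup A} [T.Normal] {N : Subgroup G} [N.Normal] (e : T ≃* N)
    (h : ∀ a : A, ∃ g : G, ∀ t : T, e (MulAut.conjNormal a t) = MulAut.conjNormal g (e t)) :
    kap M N ≤ kap M T := by
  have := finite_irr (G := T)
  have hf : ∀ χ ψ : principalBlock M T, (orbSetoid M T).r χ ψ → (orbSetoid M N).r (trB e χ) (trB e ψ) := by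
    rintro χ ψ ⟨a, ha⟩
    obtain ⟨g, hg⟩ := h a
    refine ⟨g, fun s => ?_⟩
    rw [trB_apply, trB_apply, ha]
    refine congrArg (χ.1 : T → ℂ) ?_
    apply e.injective
    rw [hg, e.apply_symm_apply, e.apply_symm_apply]
  refine Nat.card_le_card_of_surjective (Quotient.map (trB e) hf) fun b => ?_
  induction b using Quotient.inductionOn with
  | h ψ => exact ⟨Quotient.mk _ (trB e.symm ψ), by rw [Quotient.map_mk, trB_trB]⟩

end three

end Cfsg.Agent.H328.KB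
end

-- part: H587/KB8/Four_mg
section
prune_inst 0x30505d016462120000040000c2001ee2eb00000000088c0084850e0407898c0a08008820a7202103d0200004003c006003000120420000000a000400011c00801880140060c10008e20018000000000000000000000000000000000000000000000000000
set_option linter.all false
open scoped Cfsg.Agent.FastGrp

-- part: H587/KB8/Field
section
/-!
# The quadratic form `Tr_{K'/F} N_{K/K'}` on an extension of degree four (helper587, S4822 KB8)
-/

set_option autoImplicit false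
set_option linter.unusedSectionVars false

open QuadraticMap Module Cfsg.Agent.LieClassical.OrthCore

namespace Cfsg.Agent.H587.KB8

/-- the Frobenius automorphism of an extension of degree four -/
structure Quart (F K : Type*) [Field F] [Field K] [Algebra F K] (φ : K ≃ₐ[F] K) : Prop where
  four : ∀ x, φ (φ (φ (φ x))) = x
  ne : ∃ x, φ (φ x) ≠ x
  tr : ∀ x, algebraMap F K (Algebra.trace F K x) = x + φ x + φ (φ x) + φ (φ (φ x))

theorem quart {F K : Type*} [Field F] [Field K] [Algebra F K] [Fintype F] [Finite K] (h : finrank F K = 4) :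
    Quart F K (FiniteField.frobeniusAlgEquivOfAlgebraic F K) := by
  have hfd : FiniteDimensional F K := Module.finite_of_finrank_pos (by rw [h]; norm_num)
  have ho := FiniteField.orderOf_frobeniusAlgEquivOfAlgebraic F K
  rw [h] at ho
  have hap : ∀ x : K, FiniteField.frobeniusAlgEquivOfAlgebraic F K x = x ^ Fintype.card F := fun x =>
    congrFun (FiniteField.coe_frobeniusAlgEquivOfAlgebraic F K) x
  refine ⟨fun x => ?_, ?_, fun x => ?_⟩
  · have h1 := pow_orderOf_eq_one (FiniteField.frobeniusAlgEquivOfAlgebraic F K)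
    rw [ho] at h1
    exact DFunLike.congr_fun h1 x
  · by_contra hno
    push Not at hno
    have h1 : (FiniteField.frobeniusAlgEquivOfAlgebraic F K) ^ 2 = 1 := by
      ext x
      exact hno x
    have h2 := orderOf_dvd_of_pow_eq_one h1
    rw [ho] at h2
    norm_num at h2
  · rw [FiniteField.algebraMap_trace_eq_sum_pow, h, Finset.sum_range_succ, Finset.sum_range_succ,
      Finset.sum_range_succ, Finset.sum_range_one, Nat.card_eq_fintype_card, pow_zero, pow_one, pow_one, hap, hap, hap,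
      ← pow_mul, ← pow_mul]
    ring

section

variable {F K : Type*} [Field F] [Field K] [Algebra F K] [FiniteDimensional F K] {φ : K ≃ₐ[F] K}

/-- the norm to the quadratic subextension -/
def nm (φ : K ≃ₐ[F] K) (x : K) : K := x * φ (φ x)

theorem nm_mul (x y : K) : nm φ (x * y) = nm φ x * nm φ y := by
  unfold nm
  rw [map_mul, map_mul]
  ring

theorem nm_phi (x : K) : nm φ (φ x) = φ (nm φ x) := by
  unfold nm
  rw [map_mul]

theorem Quart.nm_fix (h : Quart F K φ) (x : K) : φ (φ (nm φ x)) = nm φ x := by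
  unfold nm
  rw [map_mul, map_mul, h.four, mul_comm]

theorem Quart.exists_lam (h : Quart F K φ) : ∃ l : K, l + φ (φ l) = 1 := by
  obtain ⟨y, hy⟩ : ∃ y : K, y + φ (φ y) ≠ 0 := by
    by_contra hno
    push Not at hno
    have h1 := hno 1
    rw [map_one, map_one] at h1
    obtain ⟨x, hx⟩ := h.ne
    apply hx
    have h2 := hno x
    have h3 : x + x = 0 := by rw [← two_mul, show (2 : K) = 1 + 1 by norm_num, h1, zero_mul]
    have h4 : φ (φ x) = - x := eq_neg_of_add_eq_zero_right h2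
    rw [h4]
    exact neg_eq_of_add_eq_zero_left h3
  set s := y + φ (φ y) with hs
  have h1 : φ (φ s) = s := by rw [hs, map_add, map_add, h.four, add_comm]
  refine ⟨y * s⁻¹, ?_⟩
  rw [map_mul, map_mul, map_inv₀, map_inv₀, h1, ← add_mul, ← hs, mul_inv_cancel₀ hy]

/-- **the quadratic form** -/
theorem Quart.exists_form [Algebra.IsSeparable F K] (h : Quart F K φ) :
    ∃ Q : QuadraticForm F K, (∀ x, algebraMap F K (Q x) = nm φ x + φ (nm φ x)) ∧ Nondeg Q := by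
  obtain ⟨l, hl⟩ := h.exists_lam
  set B : LinearMap.BilinForm F K := LinearMap.mk₂ F (fun x y => Algebra.trace F K (l * x * φ (φ y)))
    (fun x x' y => by rw [mul_add, add_mul, map_add]) (fun c x y => by
      rw [mul_smul_comm, smul_mul_assoc, map_smul]) (fun x y y' => by
      rw [map_add, map_add, mul_add, map_add]) (fun c x y => by
      rw [map_smul, map_smul, mul_smul_comm, map_smul]) with hB
  have hBa : ∀ x y, B x y = Algebra.trace F K (l * x * φ (φ y)) := fun x y => rfl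
  have hQ : ∀ x, algebraMap F K (B.toQuadraticMap x) = nm φ x + φ (nm φ x) := by
    intro x
    rw [LinearMap.BilinMap.toQuadraticMap_apply, hBa, h.tr]
    have e1 : l * x * φ (φ x) = l * nm φ x := by unfold nm; ring
    rw [e1]
    have e2 : l * nm φ x + φ (l * nm φ x) + φ (φ (l * nm φ x)) + φ (φ (φ (l * nm φ x))) =
        (l + φ (φ l)) * nm φ x + φ ((l + φ (φ l)) * nm φ x) := by
      simp only [map_mul, map_add, h.nm_fix]; ring
    rw [e2, hl, one_mul]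
  refine ⟨B.toQuadraticMap, hQ, fun x hx => ?_⟩
  have hp : ∀ y, algebraMap F K (polar B.toQuadraticMap x y) = algebraMap F K (Algebra.trace F K (x * φ (φ y))) := by
    intro y
    rw [polar, map_sub, map_sub, hQ, hQ, hQ, h.tr]
    unfold nm
    simp only [map_add, map_mul, h.four]
    ring
  have hx' : ∀ z, Algebra.trace F K (x * z) = 0 := by
    intro z
    have h1 := hp (φ (φ z))
    rw [hx, map_zero, h.four] at h1
    exact (algebraMap F K).injective (by rw [map_zero]; exact h1.symm)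
  have h1 := (traceForm_nondegenerate F K).1 x
  exact h1 fun z => by rw [Algebra.traceForm_apply]; exact hx' z

end

end Cfsg.Agent.H587.KB8
end

-- part: H587/KB8/Four
section
/-!
# Elements of order `p` in the model `K × K`, `[K : F] = 4` (helper587, S4822 KB8)
-/

set_option autoImplicit false
set_option linter.unusedSectionVars false

open QuadraticMap Module Cfsg.Agent.LieClassical.OrthCore Cfsg.Agent.LieClassical.OrthTrans
open Cfsg.Agent.LieClassical.OrthFinite Cfsg.Agent.ClassicalGeometry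

namespace Cfsg.Agent.H587.KB8

section cj

variable {F W V : Type*} [Field F] [AddCommGroup W] [Module F W] [AddCommGroup V] [Module F V]

/-- conjugation by an isomorphism -/
def cj (ψ : W ≃ₗ[F] V) : (W ≃ₗ[F] W) →* (V ≃ₗ[F] V) where
  toFun f := (ψ.symm.trans f).trans ψ
  map_one' := by ext v; exact ψ.apply_symm_apply v
  map_mul' f g := by
    ext v
    change ψ (f (g (ψ.symm v))) = ψ (f (ψ.symm (ψ (g (ψ.symm v)))))
    rw [LinearEquiv.symm_apply_apply]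

theorem cj_apply (ψ : W ≃ₗ[F] V) (f : W ≃ₗ[F] W) (w : W) : cj ψ f (ψ w) = ψ (f w) := by
  change ψ (f (ψ.symm (ψ w))) = _
  rw [LinearEquiv.symm_apply_apply]

theorem cj_injective (ψ : W ≃ₗ[F] V) : Function.Injective (cj ψ) := by
  intro f g h
  ext w
  apply ψ.injective
  rw [← cj_apply, ← cj_apply, h]

end cj

section conj

variable {F : Type*} [Field F] {L : Type*} [Field L] [Algebra F L] [FiniteDimensional F L]

theorem conjRoot_of_semi {x x' : L} {θ : L →ₗ[F] L} (h0 : θ ≠ 0) (h : ∀ y, θ (x * y) = x' * θ y) :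
    IsConjRoot F x x' := by
  have key : ∀ (P : Polynomial F) (y : L), θ (Polynomial.aeval x P * y) = Polynomial.aeval x' P * θ y := by
    intro P
    induction P using Polynomial.induction_on with
    | C a =>
      intro y
      rw [Polynomial.aeval_C, Polynomial.aeval_C, ← Algebra.smul_def, ← Algebra.smul_def, map_smul]
    | add P Q hP hQ => intro y; rw [map_add, map_add, add_mul, add_mul, map_add, hP, hQ]
    | monomial n a hn =>
      intro y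
      rw [pow_succ, ← mul_assoc, map_mul (Polynomial.aeval x), map_mul (Polynomial.aeval x'), Polynomial.aeval_X,
        Polynomial.aeval_X, mul_assoc, hn, h, mul_assoc]
  obtain ⟨y, hy⟩ : ∃ y, θ y ≠ 0 := by
    by_contra hno
    push Not at hno
    exact h0 (LinearMap.ext hno)
  have h1 := key (minpoly F x) y
  rw [minpoly.aeval, zero_mul, map_zero] at h1
  have h2 : Polynomial.aeval x' (minpoly F x) = 0 := (mul_eq_zero.1 h1.symm).resolve_right hy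
  have hx : IsIntegral F x := Algebra.IsIntegral.isIntegral x
  exact (minpoly.eq_of_irreducible_of_monic (minpoly.irreducible hx) h2 (minpoly.monic hx))

end conj

section model

variable {F : Type*} [Field F] {K : Type*} [Field K] [Algebra F K] [FiniteDimensional F K] {φ : K ≃ₐ[F] K}
  {ι : Type} [Fintype ι] [DecidableEq ι] {Q : QuadraticForm F (ι → F)} {Q₁ : QuadraticForm F K}
  {ψ : (K × K) ≃ₗ[F] (ι → F)}

/-- diagonal maps -/
def dg : Kˣ × Kˣ →* ((K × K) ≃ₗ[F] (K × K)) where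
  toFun a := (DistribMulAction.toModuleAut F K a.1).prodCongr (DistribMulAction.toModuleAut F K a.2)
  map_one' := by ext w <;> simp only [_root_.Prod.fst_one, _root_.DistribMulAction.toModuleAut_apply, _root_.Prod.snd_one, _root_.LinearEquiv.prodCongr_apply, _root_.DistribMulAction.toLinearEquiv_apply, _root_.one_smul, _root_.Prod.mk.eta, _root_.LinearEquiv.coe_one, _root_.id_eq]
  map_mul' a b := by
    ext w <;> simp only [mul_smul, _root_.Prod.fst_mul, _root_.DistribMulAction.toModuleAut_apply, _root_.Prod.snd_mul, _root_.LinearEquiv.prodCongr_apply, _root_.DistribMulAction.toLinearEquiv_apply, _root_.SemigroupAction.mul_smul, _root_.LinearEquiv.mul_apply]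

theorem dg_apply (a : Kˣ × Kˣ) (w : K × K) : dg (F := F) a w = ((a.1 : K) * w.1, (a.2 : K) * w.2) := rfl

theorem dg_injective : Function.Injective (dg (F := F) (K := K)) := by
  intro a b h
  have h1 := DFunLike.congr_fun h ((1 : K), (1 : K))
  rw [dg_apply, dg_apply] at h1
  simp only [mul_one, Prod.mk.injEq] at h1
  exact Prod.ext (Units.ext h1.1) (Units.ext h1.2)

/-- the support of a linear map -/
def Supp (x : (ι → F) ≃ₗ[F] (ι → F)) (k : K) : Prop := ∃ θ : K →ₗ[F] (ι → F), θ ≠ 0 ∧ ∀ v, x (θ v) = θ (k * v)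

theorem Supp.conj {x y g : (ι → F) ≃ₗ[F] (ι → F)} {k : K} (h : Supp x k) (hg : g * x * g⁻¹ = y) : Supp y k := by
  obtain ⟨θ, h0, h1⟩ := h
  refine ⟨g.toLinearMap ∘ₗ θ, fun h2 => h0 ?_, fun v => ?_⟩
  · ext v : 1
    apply g.injective
    rw [LinearMap.zero_apply, map_zero]
    exact LinearMap.congr_fun h2 v
  · change y (g (θ v)) = g (θ (k * v))
    rw [← h1, ← hg]
    change g (x (g.symm (g (θ v)))) = _
    rw [LinearEquiv.symm_apply_apply]

theorem supp_conj_iff {x y g : (ι → F) ≃ₗ[F] (ι → F)} {k : K} (hg : g * x * g⁻¹ = y) : Supp y k ↔ Supp x k :=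
  ⟨fun h => h.conj (g := g⁻¹) (by rw [← hg]; group), fun h => h.conj hg⟩

theorem supp_fst (a : Kˣ × Kˣ) : Supp (cj ψ (dg a)) (a.1 : K) := by
  refine ⟨ψ.toLinearMap ∘ₗ LinearMap.inl F K K, fun h => ?_, fun v => ?_⟩
  · have h1 := LinearMap.congr_fun h (1 : K)
    have h2 : ψ ((1 : K), (0 : K)) = 0 := h1
    rw [LinearEquiv.map_eq_zero_iff] at h2
    exact one_ne_zero (congrArg Prod.fst h2)
  · change cj ψ (dg a) (ψ (v, 0)) = ψ ((a.1 : K) * v, 0)
    rw [cj_apply, dg_apply, mul_zero]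

theorem supp_snd (a : Kˣ × Kˣ) : Supp (cj ψ (dg a)) (a.2 : K) := by
  refine ⟨ψ.toLinearMap ∘ₗ LinearMap.inr F K K, fun h => ?_, fun v => ?_⟩
  · have h1 := LinearMap.congr_fun h (1 : K)
    have h2 : ψ ((0 : K), (1 : K)) = 0 := h1
    rw [LinearEquiv.map_eq_zero_iff] at h2
    exact one_ne_zero (congrArg Prod.snd h2)
  · change cj ψ (dg a) (ψ (0, v)) = ψ (0, (a.2 : K) * v)
    rw [cj_apply, dg_apply, mul_zero]

theorem supp_dg {a : Kˣ × Kˣ} {k : K} (h : Supp (cj ψ (dg a)) k) :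
    IsConjRoot F k (a.1 : K) ∨ IsConjRoot F k (a.2 : K) := by
  obtain ⟨θ, h0, h1⟩ := h
  have h2 : ∀ v, dg (F := F) a (ψ.symm (θ v)) = ψ.symm (θ (k * v)) := by
    intro v
    apply ψ.injective
    rw [← cj_apply, LinearEquiv.apply_symm_apply, LinearEquiv.apply_symm_apply, h1]
  by_cases hf : LinearMap.fst F K K ∘ₗ ψ.symm.toLinearMap ∘ₗ θ = 0
  · right
    refine conjRoot_of_semi (θ := LinearMap.snd F K K ∘ₗ ψ.symm.toLinearMap ∘ₗ θ) (fun hs => h0 ?_) fun v => ?_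
    · ext v : 1
      apply ψ.symm.injective
      rw [LinearMap.zero_apply, map_zero]
      exact Prod.ext (LinearMap.congr_fun hf v) (LinearMap.congr_fun hs v)
    · exact (congrArg Prod.snd (h2 v)).symm
  · left
    refine conjRoot_of_semi (θ := LinearMap.fst F K K ∘ₗ ψ.symm.toLinearMap ∘ₗ θ) hf fun v => ?_
    exact (congrArg Prod.fst (h2 v)).symm

end model

/-- the model -/
structure Mdl {F : Type*} [Field F] {K : Type*} [Field K] [Algebra F K] {ι : Type} [Fintype ι] [DecidableEq ι]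
    (φ : K ≃ₐ[F] K) (Q : QuadraticForm F (ι → F)) (Q₁ : QuadraticForm F K) (ψ : (K × K) ≃ₗ[F] (ι → F)) : Prop where
  good : Good Q
  dim : finrank F K = 4
  qt : Quart F K φ
  form : ∀ x, algebraMap F K (Q₁ x) = nm φ x + φ (nm φ x)
  iso : ∀ w, Q (ψ w) = Q₁ w.1 + Q₁ w.2

namespace Mdl

variable {F : Type*} [Field F] {K : Type*} [Field K] [Algebra F K] [FiniteDimensional F K] {φ : K ≃ₐ[F] K}
  {ι : Type} [Fintype ι] [DecidableEq ι] {Q : QuadraticForm F (ι → F)} {Q₁ : QuadraticForm F K}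
  {ψ : (K × K) ≃ₗ[F] (ι → F)} (h : Mdl φ Q Q₁ ψ)

include h

theorem q_mul {a : K} (ha : nm φ a = 1) (x : K) : Q₁ (a * x) = Q₁ x := by
  apply (algebraMap F K).injective
  rw [h.form, h.form, nm_mul, ha, one_mul]

theorem q_phi (x : K) : Q₁ (φ x) = Q₁ x := by
  apply (algebraMap F K).injective
  rw [h.form, h.form, nm_phi, h.qt.nm_fix, add_comm]

theorem mem_O {f : (K × K) ≃ₗ[F] (K × K)} (hf : ∀ w, Q₁ (f w).1 + Q₁ (f w).2 = Q₁ w.1 + Q₁ w.2) : cj ψ f ∈ O Q := by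
  intro v
  obtain ⟨w, rfl⟩ := ψ.surjective v
  rw [cj_apply, h.iso, h.iso, hf]

theorem dg_mem_O {a : Kˣ × Kˣ} (h1 : nm φ (a.1 : K) = 1) (h2 : nm φ (a.2 : K) = 1) : cj ψ (dg a) ∈ O Q :=
  h.mem_O fun w => by rw [dg_apply, h.q_mul h1, h.q_mul h2]

theorem dg_mem_E {a : Kˣ × Kˣ} (h1 : nm φ (a.1 : K) = 1) (h2 : nm φ (a.2 : K) = 1) {n : ℕ} (hn : Odd n)
    (ha : a ^ n = 1) : cj ψ (dg a) ∈ E Q :=
  mem_E_of_odd h.good (h.dg_mem_O h1 h2) hn (by rw [← map_pow, ← map_pow, ha, map_one, map_one])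

/-- `(v, w) ↦ (v, φ (φ w))` -/
def cA (φ : K ≃ₐ[F] K) (ψ : (K × K) ≃ₗ[F] (ι → F)) : (ι → F) ≃ₗ[F] (ι → F) :=
  cj ψ ((LinearEquiv.refl F K).prodCongr (φ.toLinearEquiv.trans φ.toLinearEquiv))

theorem cA_mem_E : cA φ ψ ∈ E Q := by
  have h1 : cj ψ ((LinearEquiv.refl F K).prodCongr φ.toLinearEquiv) ∈ O Q := by
    refine h.mem_O fun w => ?_
    change Q₁ w.1 + Q₁ (φ w.2) = _
    rw [h.q_phi]
  have h2 := sq_mem_E h.good h1
  rw [← map_mul] at h2
  exact h2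

theorem cA_sq : cA φ ψ ^ 4 = 1 := by
  have h1 : cA φ ψ ^ 2 = 1 := by
    rw [cA, ← map_pow]
    have e : ((LinearEquiv.refl F K).prodCongr (φ.toLinearEquiv.trans φ.toLinearEquiv)) ^ 2 = 1 := by
      rw [pow_two]
      ext1 w
      change (w.1, φ (φ (φ (φ w.2)))) = w
      rw [h.qt.four]
    rw [e, map_one]
  rw [show 4 = 2 * 2 from rfl, pow_mul, h1, one_pow]

/-- `(v, w) ↦ (-w, v)` -/
def sw (F K : Type*) [Field F] [Field K] [Algebra F K] : (K × K) ≃ₗ[F] (K × K) :=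
  (LinearEquiv.prodComm F K K).trans ((LinearEquiv.neg F).prodCongr (LinearEquiv.refl F K))

omit h in
theorem sw_apply (w : K × K) : sw F K w = (-w.2, w.1) := rfl

omit h in
theorem sw_four : cj ψ (sw F K) ^ 4 = 1 := by
  rw [← map_pow]
  have e : (sw F K) ^ 4 = 1 := by
    ext1 w
    change sw F K (sw F K (sw F K (sw F K w))) = w
    simp [sw_apply]
  rw [e, map_one]

theorem sw_mem_O : cj ψ (sw F K) ∈ O Q := by
  refine h.mem_O fun w => ?_
  rw [sw_apply, QuadraticMap.map_neg, add_comm]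

/-- odd characteristic: `(v, w) ↦ (-w, v)` is a square -/
theorem sw_mem_E_odd {a : K} (ha : 2 * (a * a) = 1) (hφ : φ (φ a) = a) : cj ψ (sw F K) ∈ E Q := by
  let m : (K × K) ≃ₗ[F] (K × K) :=
    { toFun := fun w => (a * (w.1 - w.2), a * (w.1 + w.2))
      invFun := fun w => (a * (w.1 + w.2), a * (w.2 - w.1))
      map_add' := fun w w' => by ext <;> simp only [_root_.Prod.fst_add, _root_.Prod.snd_add, _root_.Prod.mk_add_mk] <;> ring
      map_smul' := fun c w => by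
        ext
        · change a * (c • w.1 - c • w.2) = c • (a * (w.1 - w.2))
          rw [← smul_sub, mul_smul_comm]
        · change a * (c • w.1 + c • w.2) = c • (a * (w.1 + w.2))
          rw [← smul_add, mul_smul_comm]
      left_inv := fun w => by
        refine Prod.ext ?_ ?_
        · change a * (a * (w.1 - w.2) + a * (w.1 + w.2)) = w.1
          linear_combination w.1 * ha
        · change a * (a * (w.1 + w.2) - a * (w.1 - w.2)) = w.2
          linear_combination w.2 * ha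
      right_inv := fun w => by
        refine Prod.ext ?_ ?_
        · change a * (a * (w.1 + w.2) - a * (w.2 - w.1)) = w.1
          linear_combination w.1 * ha
        · change a * (a * (w.1 + w.2) + a * (w.2 - w.1)) = w.2
          linear_combination w.2 * ha }
  have hm : cj ψ m ∈ O Q := by
    refine h.mem_O fun w => ?_
    apply (algebraMap F K).injective
    change algebraMap F K (Q₁ (a * (w.1 - w.2)) + Q₁ (a * (w.1 + w.2))) = _
    rw [map_add, map_add, h.form, h.form, h.form, h.form]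
    have e : nm φ (a * (w.1 - w.2)) + nm φ (a * (w.1 + w.2)) = nm φ w.1 + nm φ w.2 := by
      unfold nm
      rw [map_mul, map_mul, map_mul, map_mul, hφ, map_sub, map_sub, map_add, map_add]
      linear_combination (w.1 * φ (φ w.1) + w.2 * φ (φ w.2)) * ha
    have e2 := congrArg φ e
    rw [map_add, map_add] at e2
    linear_combination e + e2
  have h2 := sq_mem_E h.good hm
  rw [← map_mul] at h2
  have e : m * m = sw F K := by
    ext1 w
    refine Prod.ext ?_ ?_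
    · change a * (a * (w.1 - w.2) - a * (w.1 + w.2)) = -w.2
      linear_combination (-w.2) * ha
    · change a * (a * (w.1 - w.2) + a * (w.1 + w.2)) = w.1
      linear_combination w.1 * ha
  rwa [e] at h2

section sign

variable (hQ : (polarBilin Q).Nondegenerate) (hι : Fintype.card ι = 8)

/-- characteristic two -/
theorem sw_mem_E_even [Finite F] (hQ : (polarBilin Q).Nondegenerate) (hι : Fintype.card ι = 8) (h2 : (2 : F) = 0) :
    cj ψ (sw F K) ∈ E Q := by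
  have h4 : (∃ θ : F, θ ≠ 0 ∧ θ ≠ 1) ∨ Fintype.card ι ≠ 4 := Or.inr (by rw [hι]; norm_num)
  refine mem_E_of_sgn hQ h4 h2 h.good ⟨cj ψ (sw F K), h.sw_mem_O⟩ ?_
  have hneg : ∀ x : K, -x = x := by
    intro x
    have h20 : (2 : K) = 0 := by
      have := congrArg (algebraMap F K) h2
      rwa [map_ofNat, map_zero] at this
    have h3 : x + x = 0 := by rw [← two_mul, h20, zero_mul]
    exact neg_eq_of_add_eq_zero_left h3
  have hfx : fx (cj ψ (sw F K)) = LinearMap.range (ψ.toLinearMap ∘ₗ LinearMap.prod LinearMap.id LinearMap.id) := by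
    ext v
    obtain ⟨w, rfl⟩ := ψ.surjective v
    rw [mem_fx, cj_apply, sw_apply]
    constructor
    · intro h3
      have h5 := ψ.injective h3
      refine ⟨w.2, ?_⟩
      change ψ (w.2, w.2) = ψ w
      congr 1
      exact Prod.ext (congrArg Prod.snd h5).symm rfl
    · rintro ⟨u, hu⟩
      have hu' : ψ (u, u) = ψ w := hu
      have h5 := ψ.injective hu'
      rw [← h5]
      change ψ (-u, u) = ψ (u, u)
      rw [hneg]
  rw [sgn_eq, hι, hfx, LinearMap.finrank_range_of_inj, h.dim]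
  · decide
  · intro u v huv
    have h5 : ψ (u, u) = ψ (v, v) := huv
    exact congrArg Prod.fst (ψ.injective h5)

theorem sw_mem_E [Finite F] (hQ : (polarBilin Q).Nondegenerate) (hι : Fintype.card ι = 8)
    (ha : (2 : F) ≠ 0 → ∃ a : K, 2 * (a * a) = 1 ∧ φ (φ a) = a) : cj ψ (sw F K) ∈ E Q := by
  by_cases h2 : (2 : F) = 0
  · exact h.sw_mem_E_even hQ hι h2
  · obtain ⟨a, h3, h4⟩ := ha h2
    exact h.sw_mem_E_odd h3 h4

open Cfsg.Agent.H200.LinFix in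
/-- **the sign of a centralizing element** -/
theorem sgn_of_comm [Finite F] {p : ℕ} [Fact p.Prime] (hd : Ordd p (Nat.card F) 4)
    (hQ : (polarBilin Q).Nondegenerate) (h4 : (∃ θ : F, θ ≠ 0 ∧ θ ≠ 1) ∨ Fintype.card ι ≠ 4)
    (hι : Fintype.card ι = 8) {a : Kˣ × Kˣ} (ha : a ^ p = 1) (h1 : a.1 ≠ 1) (h2 : a.2 ≠ 1)
    {g : (ι → F) ≃ₗ[F] (ι → F)} (hg : g ∈ O Q) (hc : g * cj ψ (dg a) = cj ψ (dg a) * g) :
    sgn hQ h4 ⟨g, hg⟩ = 1 := by
  have h5 : 4 ∣ finrank F (fx g) := by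
    refine dvd_finrank (p := p) hd (g := ((cj ψ (dg a) : (ι → F) ≃ₗ[F] (ι → F)) : Module.End F (ι → F))) (W := fx g)
      (fun w hw => ?_) (fun w _ => ?_) (fun w _ hfw => ?_)
    · rw [mem_fx] at hw ⊢
      change g (cj ψ (dg a) w) = cj ψ (dg a) w
      have h6 : g (cj ψ (dg a) w) = cj ψ (dg a) (g w) := DFunLike.congr_fun hc w
      rw [h6, hw]
    · have h6 : ((cj ψ (dg a) : (ι → F) ≃ₗ[F] (ι → F)) : Module.End F (ι → F)) ^ p =
          (((cj ψ (dg a)) ^ p : (ι → F) ≃ₗ[F] (ι → F)) : Module.End F (ι → F)) :=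
        (map_pow (LinearEquiv.automorphismGroup.toLinearMapMonoidHom (R := F) (M := ι → F)) (cj ψ (dg a)) p).symm
      rw [h6, ← map_pow, ← map_pow, ha, map_one, map_one]
      rfl
    · obtain ⟨u, rfl⟩ := ψ.surjective w
      have h6 : cj ψ (dg a) (ψ u) = ψ u := hfw
      rw [cj_apply, dg_apply] at h6
      have h7 := ψ.injective h6
      have h8 : (a.1 : K) * u.1 = u.1 := congrArg Prod.fst h7
      have h9 : (a.2 : K) * u.2 = u.2 := congrArg Prod.snd h7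
      have h10 : u.1 = 0 := by
        by_contra h0
        exact h1 (Units.ext (mul_right_cancel₀ h0 (by rw [h8, Units.val_one, one_mul])))
      have h11 : u.2 = 0 := by
        by_contra h0
        exact h2 (Units.ext (mul_right_cancel₀ h0 (by rw [h9, Units.val_one, one_mul])))
      have h12 : u = 0 := Prod.ext h10 h11
      rw [h12, map_zero]
  obtain ⟨k, hk⟩ := h5
  rw [sgn_eq]
  change (-1 : ℤˣ) ^ (finrank F (fx g) + Fintype.card ι) = 1
  rw [hk, hι]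
  exact Even.neg_one_pow ⟨2 * k + 4, by ring⟩

/-- the two classes -/
theorem not_conj [Finite F] {p : ℕ} [Fact p.Prime] (hd : Cfsg.Agent.H200.LinFix.Ordd p (Nat.card F) 4)
    (hQ : (polarBilin Q).Nondegenerate) (hι : Fintype.card ι = 8) {a : Kˣ × Kˣ} (ha : a ^ p = 1) (h1 : a.1 ≠ 1)
    (h2 : a.2 ≠ 1) {v : ι → F} (hv : Q v ≠ 0) {g : (ι → F) ≃ₗ[F] (ι → F)} (hg : g ∈ E Q)
    (hc : g * cj ψ (dg a) * g⁻¹ = refl Q v hv * cj ψ (dg a) * (refl Q v hv)⁻¹) : False := by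
  have h4 : (∃ θ : F, θ ≠ 0 ∧ θ ≠ 1) ∨ Fintype.card ι ≠ 4 := Or.inr (by rw [hι]; norm_num)
  have hk : (refl Q v hv)⁻¹ * g ∈ O Q := (O Q).mul_mem ((O Q).inv_mem (refl_mem_O hv)) (E_le_O hg)
  have h5 := h.sgn_of_comm hd hQ h4 hι ha h1 h2 hk (by
    rw [mul_assoc, inv_mul_eq_iff_eq_mul, ← mul_assoc, ← mul_assoc, ← mul_inv_eq_iff_eq_mul]
    exact hc)
  have h6 : (⟨(refl Q v hv)⁻¹ * g, hk⟩ : O Q) = (⟨refl Q v hv, refl_mem_O hv⟩ : O Q)⁻¹ * ⟨g, E_le_O hg⟩ := rfl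
  rw [h6, map_mul, map_inv, sgn_refl, sgn_E hQ h4 h.good ⟨g, E_le_O hg⟩ hg] at h5
  exact absurd h5 (by decide)

omit h in
theorem sw_conj (a : Kˣ × Kˣ) : cj ψ (sw F K) * cj ψ (dg a) * (cj ψ (sw F K))⁻¹ = cj ψ (dg a.swap) := by
  rw [mul_inv_eq_iff_eq_mul, ← map_mul, ← map_mul]
  congr 1
  ext1 w
  change sw F K (dg a w) = dg a.swap (sw F K w)
  rw [dg_apply, dg_apply, sw_apply, sw_apply]
  exact Prod.ext (by simp) rfl

theorem cA_conj {z : Kˣ} (hz : nm φ (z : K) = 1) :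
    cA φ ψ * cj ψ (dg (1, z)) * (cA φ ψ)⁻¹ = cj ψ (dg (1, z)⁻¹) := by
  rw [mul_inv_eq_iff_eq_mul, cA, ← map_mul, ← map_mul]
  congr 1
  ext1 w
  have h1 : φ (φ (z : K)) = ((z⁻¹ : Kˣ) : K) := by
    rw [Units.val_inv_eq_inv_val]
    exact eq_inv_of_mul_eq_one_right hz
  refine Prod.ext ?_ ?_
  · change ((1 : Kˣ) : K) * w.1 = ((1⁻¹ : Kˣ) : K) * w.1
    rw [inv_one]
  · change φ (φ ((z : K) * w.2)) = ((z⁻¹ : Kˣ) : K) * φ (φ w.2)
    rw [map_mul, map_mul, h1]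

theorem cA_comm (a : Kˣ) : cA φ ψ * cj ψ (dg (a, 1)) = cj ψ (dg (a, 1)) * cA φ ψ := by
  rw [cA, ← map_mul, ← map_mul]
  congr 1
  ext1 w
  refine Prod.ext rfl ?_
  change φ (φ (((1 : Kˣ) : K) * w.2)) = ((1 : Kˣ) : K) * φ (φ w.2)
  rw [Units.val_one, one_mul, one_mul]

end sign

end Mdl

end Cfsg.Agent.H587.KB8
end

-- part: H587/KB8/Fam
section
/-!
# Lower bounds for `k(B₀)` from a family of elements (helper587, S4822 KB8)
-/

set_option autoImplicit false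
set_option linter.unusedSectionVars false

open Cfsg Subgroup Cfsg.Agent.H508.KB
open QuadraticMap Cfsg.Agent.LieClassical.OrthCore Cfsg.Agent.LieClassical.OrthTrans
  Cfsg.Agent.ClassicalGeometry.OrthAut1

namespace Cfsg.Agent.H587.KB8

universe u

variable {p : ℕ} [Fact p.Prime] {M : Ideal AlgInt}

theorem family_le {G : Type u} [Group G] [Finite G] (hM : IsPModular p M) {ι : Type*} [Fintype ι] (f : ι → G)
    (hf : ∀ i, f i ^ p = 1) (hinj : ∀ i j, IsConj (f i) (f j) → i = j) (l : ι → ℕ)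
    (hl : ∀ i, l i ≤ blockRank p (principalBlock M ↥(centralizer ({f i} : Set G)))) : ∑ i, l i ≤ kB M G := by
  classical
  have hinj' : Function.Injective f := fun i j h => hinj i j (by rw [h])
  have h1 := Cfsg.Agent.H296.KB.sum_le_kB hM (Finset.univ.image f) (fun x hx => ?_) (fun x hx y hy hxy => ?_)
  · rw [Finset.sum_image fun i _ j _ h => hinj' h] at h1
    exact (Finset.sum_le_sum fun i _ => hl i).trans h1
  · obtain ⟨i, -, rfl⟩ := Finset.mem_image.1 hx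
    obtain ⟨k, -, hk⟩ := (Nat.dvd_prime_pow (Fact.out : p.Prime)).1 (by
      rw [pow_one]; exact orderOf_dvd_of_pow_eq_one (hf i) : orderOf (f i) ∣ p ^ 1)
    exact ⟨k, hk⟩
  · obtain ⟨i, -, rfl⟩ := Finset.mem_image.1 hx
    obtain ⟨j, -, rfl⟩ := Finset.mem_image.1 hy
    rw [hinj i j hxy]

theorem one_le {G : Type u} [Group G] [Finite G] (hM : IsPModular p M) (x : G) :
    1 ≤ blockRank p (principalBlock M ↥(centralizer ({x} : Set G))) := Cfsg.Agent.H296.KB.one_le_rank hM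

theorem two_le {G : Type u} [Group G] [Finite G] (hM : IsPModular p M) (hp2 : p ≠ 2) {x y c : G} (hxy : Commute x y)
    (hxc : Commute x c) (hy : y ^ p = 1) (hy1 : y ≠ 1) (hc : c ^ 4 = 1) (hcy : c * y * c⁻¹ = y⁻¹) :
    2 ≤ blockRank p (principalBlock M ↥(centralizer ({x} : Set G))) := by
  have hp : p.Prime := Fact.out
  have hyC : y ∈ centralizer ({x} : Set G) := mem_centralizer_singleton_iff.2 hxy.symm.eq
  have hcC : c ∈ centralizer ({x} : Set G) := mem_centralizer_singleton_iff.2 hxc.symm.eq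
  have hoy : orderOf y = p := orderOf_eq_prime hy hy1
  refine Cfsg.Agent.H296.KB.two_le_rank hM (zpowers (⟨y, hyC⟩ : ↥(centralizer ({x} : Set G)))) ?_ ⟨c, hcC⟩ ?_ ?_
    ⟨y, hyC⟩ (mem_zpowers _) ?_
  · refine IsPGroup.of_card (n := 1) ?_
    rw [Nat.card_zpowers, Subgroup.orderOf_mk, hoy, pow_one]
  · rw [Subgroup.orderOf_mk]
    intro h
    have h1 : p ∣ 2 ^ 2 := h.trans (orderOf_dvd_of_pow_eq_one hc)
    exact hp2 ((Nat.prime_dvd_prime_iff_eq hp Nat.prime_two).1 (hp.dvd_of_dvd_pow h1))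
  · rintro _ ⟨k, rfl⟩
    refine ⟨-k, ?_⟩
    apply Subtype.ext
    change (((⟨y, hyC⟩ : ↥(centralizer ({x} : Set G))) ^ (-k) : ↥(centralizer ({x} : Set G))) : G) =
      c * (((⟨y, hyC⟩ : ↥(centralizer ({x} : Set G))) ^ k : ↥(centralizer ({x} : Set G))) : G) * c⁻¹
    rw [Subgroup.coe_zpow, Subgroup.coe_zpow, ← conj_zpow, hcy, inv_zpow, zpow_neg]
  · intro h
    have h1 : c * y = y * c := congrArg Subtype.val h
    rw [h1, mul_inv_cancel_right] at hcy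
    apply hy1
    have h2 : y ^ 2 = 1 := by
      rw [pow_two]
      nth_rewrite 1 [hcy]
      exact inv_mul_cancel y
    have h3 : orderOf y ∣ 2 := orderOf_dvd_of_pow_eq_one h2
    rw [hoy] at h3
    exact absurd ((Nat.prime_dvd_prime_iff_eq hp Nat.prime_two).1 h3) hp2

section

variable {F V : Type u} [Field F] [AddCommGroup V] [Module F V] {Q : QuadraticForm F V}

theorem not_dvd_center (hG : Good Q) [Finite ↥(E Q)] (hp2 : p ≠ 2) : ¬ p ∣ Nat.card (center ↥(E Q)) := by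
  intro h
  obtain ⟨z, hz⟩ := exists_prime_orderOf_dvd_card' p h
  obtain ⟨c, hc⟩ := center_scalar hG z.2
  obtain ⟨x, y, hxy⟩ := hG.exists_hyp
  have hv : Q (x + y) = 1 := by
    rw [Q_add, hxy.left, hxy.right, hxy.pair]
    ring
  have h1 : c * c = 1 := by
    have h2 := E_le_O z.1.2 (x + y)
    rw [hc, QuadraticMap.map_smul, hv, smul_eq_mul, mul_one] at h2
    exact h2
  have h2 : z ^ 2 = 1 := by
    apply Subtype.ext
    apply Subtype.ext
    ext v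
    change z.1.1 (z.1.1 v) = v
    rw [hc, hc, smul_smul, h1, one_smul]
  have h3 : orderOf z ∣ 2 := orderOf_dvd_of_pow_eq_one h2
  rw [hz] at h3
  exact hp2 ((Nat.prime_dvd_prime_iff_eq (Fact.out : p.Prime) Nat.prime_two).1 h3)

theorem kB_P (hM : IsPModular p M) (hG : Good Q) [Finite ↥(E Q)] (hp2 : p ≠ 2) : kB M (P Q) = kB M ↥(E Q) :=
  Cfsg.Agent.H634.Quot.card_quot hM _ (not_dvd_center hG hp2)

end

end Cfsg.Agent.H587.KB8
end

-- part: H587/KB8/Model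
section
/-!
# Models of the hyperbolic space of dimension eight (helper587, S4822 KB8)
-/

set_option autoImplicit false
set_option linter.unusedSectionVars false

open QuadraticMap Module Cfsg.Agent.LieClassical.OrthCore Cfsg.Agent.LieClassical.OrthForms Cfsg.Agent.H932

namespace Cfsg.Agent.H587.KB8

theorem pl_plusForm (m : ℕ) (F : Type*) [Field F] : Pl (plusForm m F) := by
  let f : (Fin m → F) →ₗ[F] (Fin m ⊕ Fin m → F) :=
    { toFun := fun v => Sum.elim v 0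
      map_add' := fun v w => by ext i; rcases i with i | i <;> simp
      map_smul' := fun c v => by ext i; rcases i with i | i <;> simp }
  have hf : Function.Injective f := fun v w h => by
    ext i
    exact congrFun h (.inl i)
  refine ⟨LinearMap.range f, ?_, ?_⟩
  · rintro _ ⟨v, rfl⟩
    have h1 : plusForm m F (f v) = Cfsg.quadFormPlus m F (f v) := congrFun (coe_plusForm m F) _
    rw [h1]
    refine Finset.sum_eq_zero fun i _ => ?_
    change v i * 0 = 0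
    rw [mul_zero]
  · rw [LinearMap.finrank_range_of_inj hf]
    simp only [_root_.Module.finrank_fintype_fun_eq_card, _root_.Fintype.card_fin, _root_.Fintype.card_sum]
    ring

/-- spaces of plus type of dimension eight -/
theorem exists_psi {F : Type*} [Field F] [Finite F] {W : Type*} [AddCommGroup W] [Module F W] [FiniteDimensional F W]
    (q : QuadraticForm F W) (hq : Nondeg q) (hd : finrank F W = 8) (hp : Pl q) :
    ∃ ψ : W ≃ₗ[F] (Fin 4 ⊕ Fin 4 → F), ∀ w, plusForm 4 F (ψ w) = q w := by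
  refine exists_isometry hq (nondeg_plusForm 4 F) (by rw [hd]; decide) ?_ ⟨fun _ => pl_plusForm 4 F, fun _ => hp⟩
  rw [hd]
  simp

/-- roots in cyclic groups -/
theorem exists_root {G : Type*} [Group G] [Finite G] [IsCyclic G] {m n : ℕ} (h : Nat.card G = m * n) {x : G}
    (hx : x ^ m = 1) : ∃ y, y ^ n = x := by
  obtain ⟨g, hg⟩ := IsCyclic.exists_monoid_generator (α := G)
  have ho : orderOf g = Nat.card G := orderOf_eq_card_of_forall_mem_zpowers fun y =>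
    Submonoid.powers_le_zpowers g (hg y)
  obtain ⟨j, hj⟩ := hg x
  have hj' : g ^ j = x := hj
  have hm : 0 < m := by
    rw [Nat.pos_iff_ne_zero]
    rintro rfl
    rw [zero_mul] at h
    exact Nat.card_pos.ne' h
  have h1 : Nat.card G ∣ j * m := by
    rw [← ho]
    apply orderOf_dvd_of_pow_eq_one
    rw [pow_mul, hj', hx]
  rw [h, mul_comm j m] at h1
  obtain ⟨k, hk⟩ := Nat.dvd_of_mul_dvd_mul_left hm h1
  exact ⟨g ^ k, by rw [← hj', hk, ← pow_mul, mul_comm]⟩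

section

variable (F K : Type*) [Field F] [Fintype F] [Field K] [Finite K] [Algebra F K]

/-- the Frobenius automorphism -/
noncomputable abbrev fr : K ≃ₐ[F] K :=
  haveI : FiniteDimensional F K := Module.Finite.of_finite
  FiniteField.frobeniusAlgEquivOfAlgebraic F K

variable {F K}

theorem fr_apply (x : K) : fr F K x = x ^ Fintype.card F := by
  have : FiniteDimensional F K := Module.Finite.of_finite
  exact congrFun (FiniteField.coe_frobeniusAlgEquivOfAlgebraic F K) x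

theorem fr_fr (x : K) : fr F K (fr F K x) = x ^ (Fintype.card F ^ 2) := by
  rw [fr_apply, fr_apply, ← pow_mul, pow_two]

theorem nm_eq (x : K) : nm (fr F K) x = x ^ (Fintype.card F ^ 2 + 1) := by
  rw [nm, fr_fr, pow_succ x, mul_comm]

variable (hK : finrank F K = 4)

include hK

theorem quart' : Quart F K (fr F K) := quart hK

theorem card_units_K : Nat.card Kˣ = (Fintype.card F ^ 2 - 1) * (Fintype.card F ^ 2 + 1) := by
  rw [Nat.card_units, Module.natCard_eq_pow_finrank (K := F), hK, Nat.card_eq_fintype_card]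
  have h1 : 1 ≤ Fintype.card F ^ 2 := Nat.one_le_pow _ _ Fintype.card_pos
  obtain ⟨k, hk⟩ := Nat.exists_eq_add_of_le h1
  have h2 : Fintype.card F ^ 4 = (Fintype.card F ^ 2) ^ 2 := by ring
  rw [h2, hk, show 1 + k - 1 = k by omega]
  have h3 : (1 + k) ^ 2 = k * (1 + k + 1) + 1 := by ring
  rw [h3, Nat.add_sub_cancel]

theorem exists_nm (c : F) (hc : c ≠ 0) : ∃ w : K, nm (fr F K) w = algebraMap F K c := by
  have hc' : algebraMap F K c ≠ 0 := by simpa using hc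
  have h1 : (Units.mk0 _ hc') ^ (Fintype.card F ^ 2 - 1) = 1 := by
    apply Units.ext
    rw [Units.val_pow_eq_pow_val, Units.val_mk0, Units.val_one, ← map_pow]
    have h2 : c ^ (Fintype.card F - 1) = 1 := FiniteField.pow_card_sub_one_eq_one c hc
    have h3 : Fintype.card F - 1 ∣ Fintype.card F ^ 2 - 1 := by
      simpa only [_root_.one_pow] using Nat.sub_dvd_pow_sub_pow (Fintype.card F) 1 2
    obtain ⟨k, hk⟩ := h3
    rw [hk, pow_mul, h2, one_pow, map_one]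
  obtain ⟨y, hy⟩ := exists_root (card_units_K hK) h1
  refine ⟨(y : K), ?_⟩
  rw [nm_eq, ← Units.val_pow_eq_pow_val, hy, Units.val_mk0]

theorem exists_half (h2 : (2 : F) ≠ 0) : ∃ a : K, 2 * (a * a) = 1 ∧ fr F K (fr F K a) = a := by
  have hodd : Fintype.card F % 2 = 1 := by
    rcases Nat.mod_two_eq_zero_or_one (Fintype.card F) with h | h
    · exfalso
      have h3 := FiniteField.even_card_iff_char_two.2 h
      apply h2
      have h4 : ((ringChar F : ℕ) : F) = 0 := ringChar.Nat.cast_ringChar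
      rw [h3] at h4
      exact_mod_cast h4
    · exact h
  have h20 : (2 : K) ≠ 0 := by
    have h3 : algebraMap F K 2 ≠ 0 := by
      rw [Ne, map_eq_zero]
      exact h2
    rwa [map_ofNat] at h3
  have hc' : (2 : K)⁻¹ ≠ 0 := inv_ne_zero h20
  -- `(q² - 1) / 2 = (q - 1) (q + 1) / 2`
  obtain ⟨k, hk⟩ : ∃ k, Fintype.card F = 2 * k + 1 := ⟨Fintype.card F / 2, by omega⟩
  have hm : Nat.card Kˣ = ((Fintype.card F - 1) * (k + 1)) * (2 * (Fintype.card F ^ 2 + 1)) := by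
    rw [card_units_K hK]
    have h3 : Fintype.card F ^ 2 - 1 = (Fintype.card F - 1) * (k + 1) * 2 := by
      rw [hk]
      have : (2 * k + 1) ^ 2 = (2 * k) * (k + 1) * 2 + 1 := by ring
      rw [this, Nat.add_sub_cancel, Nat.add_sub_cancel]
    rw [h3]; ring
  have h1 : (Units.mk0 _ hc') ^ ((Fintype.card F - 1) * (k + 1)) = 1 := by
    apply Units.ext
    rw [Units.val_pow_eq_pow_val, Units.val_mk0, Units.val_one, pow_mul]
    have h3 : (2 : K)⁻¹ ^ (Fintype.card F - 1) = 1 := by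
      have h4 : (2 : F)⁻¹ ^ (Fintype.card F - 1) = 1 :=
        FiniteField.pow_card_sub_one_eq_one _ (inv_ne_zero h2)
      have h5 := congrArg (algebraMap F K) h4
      rwa [map_pow, map_inv₀, map_ofNat, map_one] at h5
    rw [h3, one_pow]
  obtain ⟨y, hy⟩ := exists_root hm h1
  refine ⟨(y : K) ^ (Fintype.card F ^ 2 + 1), ?_, ?_⟩
  · have h3 : (y : K) ^ (Fintype.card F ^ 2 + 1) * (y : K) ^ (Fintype.card F ^ 2 + 1) =
        ((y ^ (2 * (Fintype.card F ^ 2 + 1)) : Kˣ) : K) := by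
      rw [Units.val_pow_eq_pow_val, ← pow_add]
      congr 1
      ring
    rw [h3, hy, Units.val_mk0, mul_inv_cancel₀ h20]
  · rw [fr_fr, ← pow_mul]
    have h3 : (Fintype.card F ^ 2 + 1) * Fintype.card F ^ 2 = Nat.card Kˣ + (Fintype.card F ^ 2 + 1) := by
      rw [card_units_K hK]
      have h1 : 1 ≤ Fintype.card F ^ 2 := Nat.one_le_pow _ _ Fintype.card_pos
      obtain ⟨j, hj⟩ := Nat.exists_eq_add_of_le h1
      rw [hj, show 1 + j - 1 = j by omega]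
      ring
    have h4 : (y : K) ^ Nat.card Kˣ = 1 := by
      rw [← Units.val_pow_eq_pow_val, pow_card_eq_one', Units.val_one]
    rw [h3, pow_add, h4, one_mul]

theorem exists_zeta {p : ℕ} [Fact p.Prime] (hp : p ∣ Fintype.card F ^ 2 + 1) :
    ∃ z : K, z ^ p = 1 ∧ z ≠ 1 := by
  have h1 : p ∣ Nat.card Kˣ := by
    rw [card_units_K hK]
    exact Dvd.dvd.mul_left hp _
  obtain ⟨x, hx⟩ := exists_prime_orderOf_dvd_card' p h1
  refine ⟨(x : K), ?_, fun h => ?_⟩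
  · rw [← Units.val_pow_eq_pow_val, ← hx, pow_orderOf_eq_one, Units.val_one]
  · have h2 : x = 1 := Units.ext h
    rw [h2, orderOf_one] at hx
    exact (Fact.out : p.Prime).one_lt.ne hx

/-- **the model** -/
theorem exists_model : ∃ (Q₁ : QuadraticForm F K) (ψ : (K × K) ≃ₗ[F] (Fin 4 ⊕ Fin 4 → F)),
    (∀ x, algebraMap F K (Q₁ x) = nm (fr F K) x + fr F K (nm (fr F K) x)) ∧
      ∀ w, plusForm 4 F (ψ w) = Q₁ w.1 + Q₁ w.2 := by
  have hfd : FiniteDimensional F K := Module.Finite.of_finite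
  obtain ⟨Q₁, hQ, hnd⟩ := (quart' hK).exists_form
  obtain ⟨w, hw⟩ := exists_nm hK (-1 : F) (by simp)
  have hpol : ∀ a b : K × K, polar (Q₁.prod Q₁) a b = polar Q₁ a.1 b.1 + polar Q₁ a.2 b.2 := by
    intro a b
    simp only [polar, QuadraticMap.prod_apply, Prod.fst_add, Prod.snd_add]
    abel
  have hnd' : Nondeg (Q₁.prod Q₁) := by
    intro a ha
    refine Prod.ext (hnd _ fun y => ?_) (hnd _ fun y => ?_)
    · have h1 := ha (y, 0)
      rwa [hpol, polar_zero_right, add_zero] at h1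
    · have h1 := ha (0, y)
      rwa [hpol, polar_zero_right, zero_add] at h1
  have hpl : Pl (Q₁.prod Q₁) := by
    let f : K →ₗ[F] (K × K) := LinearMap.prod LinearMap.id (LinearMap.mulLeft F w)
    have hf : Function.Injective f := fun a b h => congrArg Prod.fst h
    refine ⟨LinearMap.range f, ?_, ?_⟩
    · rintro _ ⟨v, rfl⟩
      apply (algebraMap F K).injective
      rw [QuadraticMap.prod_apply, map_add, map_zero]
      change algebraMap F K (Q₁ v) + algebraMap F K (Q₁ (w * v)) = 0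
      rw [hQ, hQ, nm_mul, hw, map_mul, map_neg, map_neg, map_one, map_one]
      ring
    · rw [LinearMap.finrank_range_of_inj hf, Module.finrank_prod, hK]
  obtain ⟨ψ, hψ⟩ := exists_psi (Q₁.prod Q₁) hnd' (by rw [Module.finrank_prod, hK]) hpl
  exact ⟨Q₁, ψ, hQ, fun v => by rw [hψ, QuadraticMap.prod_apply]⟩

end

end Cfsg.Agent.H587.KB8
end

private theorem dce_e77110c44f01 : _root_.True := by
  try have : _root_.True := by simp only [_root_.Cfsg.Agent.H587.KB8.nm.eq_1]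
  try have : _root_.True := by simp only [_root_.Cfsg.Agent.H587.KB8.Mdl.cA.eq_1]
  try have : _root_.True := by simp only [_root_.DistribMulAction.toModuleAut.congr_simp]
  exact _root_.True.intro
end

-- part: H587/KB8/Two
section
prune_inst 0x431107d257562120000042016e2201ee2bb00042000488c000ca5050205894c6a08c2a860ab002517522280050035002003000020420000000a000400011d01a09882460073c1a10ce6009f000180000000000000000000000000000000000000000000000
set_option linter.all false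
open scoped Cfsg.Agent.FastGrp

/-!
# `5 (p - 1) + 1 ≤ k(B₀(PΩ₈⁺(q)))` for `p ∣ q² - 1` (helper587, S4822 KB8)
-/

set_option autoImplicit false
set_option linter.unusedSectionVars false

open QuadraticMap Module Cfsg Cfsg.Agent.LieClassical.OrthCore Cfsg.Agent.LieClassical.OrthTrans
open Cfsg.Agent.LieClassical.OrthFinite Cfsg.Agent.ClassicalGeometry Cfsg.Agent.H508.KB
open Cfsg.Agent.ClassicalGeometry.OrthAut1 Cfsg.Agent.H932

namespace Cfsg.Agent.H587.KB8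

section abs

variable {F V : Type*} [Field F] [AddCommGroup V] [Module F V] {z : V ≃ₗ[F] V} {p : ℕ} [Fact p.Prime]

theorem fix_zero (hz : z ^ p = 1) (hz1 : z ≠ 1) (hpF : (p : F) ≠ 0) {c : F}
    (hc : ∀ v, z v + z⁻¹ v = c • v) {v : V} (hv : z v = v) : v = 0 := by
  by_contra h0
  have hv' : z⁻¹ v = v := by
    calc z⁻¹ v = z⁻¹ (z v) := by rw [hv]
      _ = v := z.symm_apply_apply v
  have h1 : c = 2 := by
    have h2 := hc v
    rw [hv, hv', ← two_smul F v] at h2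
    exact (smul_left_injective F h0 h2).symm
  apply hz1
  ext w
  set u := z w - w with hu
  have h3 : z (z w) = (2 : F) • z w - w := by
    have h4 := hc (z w)
    rw [h1] at h4
    have h5 : z⁻¹ (z w) = w := z.symm_apply_apply w
    rw [h5] at h4
    rw [← h4]
    abel
  have hzu : z u = u := by
    rw [hu, map_sub, h3, two_smul]
    abel
  have hpow : ∀ n : ℕ, (z ^ n) w = w + n • u := by
    intro n
    induction n with
    | zero => simp
    | succ n ih =>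
      rw [pow_succ', LinearEquiv.mul_apply, ih, map_add, map_nsmul, hzu, succ_nsmul, hu]
      abel
  have h6 := hpow p
  rw [hz] at h6
  have h7 : p • u = 0 := by
    have h8 : w = w + p • u := h6
    exact left_eq_add.1 h8
  rw [← Nat.cast_smul_eq_nsmul F] at h7
  have h8 := (smul_eq_zero.1 h7).resolve_left hpF
  change z w = w
  exact sub_eq_zero.1 h8

theorem pow_fix_zero (hz : z ^ p = 1) (hz1 : z ≠ 1) (hpF : (p : F) ≠ 0) {c : F}
    (hc : ∀ v, z v + z⁻¹ v = c • v) {m : ℕ} (hm0 : 0 < m) (hm : m < p) {v : V} (hv : (z ^ m) v = v) : v = 0 := by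
  apply fix_zero hz hz1 hpF hc
  have hco : Nat.Coprime (orderOf z) m :=
    Nat.Coprime.coprime_dvd_left (orderOf_dvd_of_pow_eq_one hz)
      (Nat.coprime_of_lt_prime hm0.ne' hm (Fact.out : p.Prime))
  obtain ⟨n, hn⟩ := exists_pow_eq_self_of_coprime hco.symm
  have h4 : ∀ n : ℕ, ((z ^ m) ^ n) v = v := by
    intro n
    induction n with
    | zero => rfl
    | succ n ih => rw [pow_succ, LinearEquiv.mul_apply, hv, ih]
  have h5 := h4 n
  rwa [hn] at h5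

theorem c_inj_aux [Nontrivial V] (hz : z ^ p = 1) (hz1 : z ≠ 1) (hpF : (p : F) ≠ 0) {c : ℕ → F}
    (hc : ∀ k v, (z ^ k) v + (z ^ k)⁻¹ v = c k • v) {k l : ℕ} (hk : 2 * k < p) (hlk : l < k) (h : c k = c l) :
    False := by
  have hc1 : ∀ v, z v + z⁻¹ v = c 1 • v := fun v => by
    have := hc 1 v
    rwa [pow_one] at this
  obtain ⟨v, hv⟩ := exists_ne (0 : V)
  apply hv
  -- `w = z ^ k v - z ^ (- l) v`
  set w := (z ^ k) v - (z ^ l)⁻¹ v with hw
  have hinv : ∀ (n : ℕ) (x : V), (z ^ n) ((z ^ n)⁻¹ x) = x := fun n x => (z ^ n).apply_symm_apply x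
  have hinv' : ∀ (n : ℕ) (x : V), (z ^ n)⁻¹ ((z ^ n) x) = x := fun n x => (z ^ n).symm_apply_apply x
  have hcomm : ∀ (m n : ℕ) (x : V), (z ^ m) ((z ^ n) x) = (z ^ n) ((z ^ m) x) := fun m n x => by
    rw [← LinearEquiv.mul_apply, ← LinearEquiv.mul_apply, ← pow_add, ← pow_add, add_comm]
  have h1 : (z ^ k) w = (z ^ l) w := by
    have e1 : (z ^ k) v + (z ^ k)⁻¹ v = (z ^ l) v + (z ^ l)⁻¹ v := by rw [hc, hc, h]
    have e2 := congrArg (z ^ k) e1
    rw [map_add, map_add, hinv] at e2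
    rw [hw, map_sub, map_sub, hinv, ← hcomm k l v]
    rw [sub_eq_sub_iff_add_eq_add, ← e2]
  have h2 : (z ^ (k - l)) w = w := by
    apply (z ^ l).injective
    rw [← LinearEquiv.mul_apply, ← pow_add, show l + (k - l) = k by omega]
    exact h1
  have h3 : w = 0 := pow_fix_zero hz hz1 hpF hc1 (by omega) (by omega) h2
  have h4 : (z ^ (l + k)) v = v := by
    have h5 : (z ^ k) v = (z ^ l)⁻¹ v := sub_eq_zero.1 h3
    rw [pow_add, LinearEquiv.mul_apply, h5, hinv]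
  exact pow_fix_zero hz hz1 hpF hc1 (by omega) (by omega) h4

theorem c_inj [Nontrivial V] (hz : z ^ p = 1) (hz1 : z ≠ 1) (hpF : (p : F) ≠ 0) {c : ℕ → F}
    (hc : ∀ k v, (z ^ k) v + (z ^ k)⁻¹ v = c k • v) {k l : ℕ} (hk : 2 * k < p) (hl : 2 * l < p) (h : c k = c l) :
    k = l := by
  rcases lt_trichotomy k l with h1 | h1 | h1
  · exact (c_inj_aux hz hz1 hpF hc hl h1 h.symm).elim
  · exact h1
  · exact (c_inj_aux hz hz1 hpF hc hk h1 h).elim

end abs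

/-! ### the plane -/

section plane

variable {F : Type*} [Field F] (g : Matrix.SpecialLinearGroup (Fin 2) F)

/-- `det (v, g w)` -/
def bl : LinearMap.BilinForm F (Fin 2 → F) :=
  LinearMap.mk₂ F (fun v w => v 0 * (g.1 1 0 * w 0 + g.1 1 1 * w 1) - v 1 * (g.1 0 0 * w 0 + g.1 0 1 * w 1))
    (fun v v' w => by simp only [Pi.add_apply]; ring) (fun a v w => by simp only [Pi.smul_apply, smul_eq_mul]; ring)
    (fun v w w' => by simp only [Pi.add_apply]; ring) (fun a v w => by simp only [Pi.smul_apply, smul_eq_mul]; ring)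

theorem bl_apply (v w : Fin 2 → F) : bl g v w =
    v 0 * (g.1 1 0 * w 0 + g.1 1 1 * w 1) - v 1 * (g.1 0 0 * w 0 + g.1 0 1 * w 1) := rfl

theorem lin_apply (v : Fin 2 → F) (i : Fin 2) :
    Matrix.SpecialLinearGroup.toLin' g v i = g.1 i 0 * v 0 + g.1 i 1 * v 1 := by
  rw [Matrix.SpecialLinearGroup.toLin'_apply, Matrix.toLin'_apply, Matrix.mulVec, dotProduct, Fin.sum_univ_two]

theorem det_eq : g.1 0 0 * g.1 1 1 - g.1 0 1 * g.1 1 0 = 1 := by
  rw [← Matrix.det_fin_two]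
  exact g.2

theorem bl_inv (v w : Fin 2 → F) :
    bl g (Matrix.SpecialLinearGroup.toLin' g v) (Matrix.SpecialLinearGroup.toLin' g w) = bl g v w := by
  rw [bl_apply, bl_apply, lin_apply, lin_apply, lin_apply, lin_apply]
  have h := det_eq g
  linear_combination (v 0 * (g.1 1 0 * w 0 + g.1 1 1 * w 1) - v 1 * (g.1 0 0 * w 0 + g.1 0 1 * w 1)) * h

theorem add_inv (v : Fin 2 → F) :
    Matrix.SpecialLinearGroup.toLin' g v + (Matrix.SpecialLinearGroup.toLin' g)⁻¹ v = (g.1 0 0 + g.1 1 1) • v := by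
  rw [← map_inv]
  ext i
  rw [Pi.add_apply, Pi.smul_apply, lin_apply, lin_apply, Matrix.SpecialLinearGroup.SL2_inv_expl]
  (revert i; simp only [_root_.Fin.forall_fin_succ, Fin.isValue, _root_.Matrix.cons_val', _root_.Matrix.cons_val_zero, _root_.Matrix.cons_val_fin_one, _root_.Matrix.cons_val_one, _root_.smul_eq_mul, _root_.neg_mul, _root_.Matrix.cons_val_succ, _root_.Fin.succ_zero_eq_one, _root_.IsEmpty.forall_iff, _root_.and_true]) <;> (repeat' with_reducible apply And.intro) <;> ring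

theorem nondeg_bl {p : ℕ} [Fact p.Prime] (hp2 : p ≠ 2) (hg : g ^ p = 1) (hg1 : g ≠ 1) (hpF : (p : F) ≠ 0) :
    Nondeg (bl g).toQuadraticMap := by
  have hp : p.Prime := Fact.out
  intro v hv
  have hz : (Matrix.SpecialLinearGroup.toLin' g) ^ p = 1 := by rw [← map_pow, hg, map_one]
  have hz1 : Matrix.SpecialLinearGroup.toLin' g ≠ 1 := by
    intro h
    apply hg1
    apply Subtype.ext
    ext i j
    have h1 := congrFun (DFunLike.congr_fun h (Pi.single j 1)) i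
    rw [lin_apply] at h1
    change _ = (Pi.single j 1 : Fin 2 → F) i at h1
    fin_cases i <;> fin_cases j <;> simpa [Pi.single_apply] using h1
  -- `polar (v, w) = det (v, (g - g⁻¹) w)`
  have hpol : ∀ w, polar (bl g).toQuadraticMap v w = bl g v w + bl g w v := by
    intro w
    simp only [polar, LinearMap.BilinMap.toQuadraticMap_apply, map_add, LinearMap.add_apply]
    ring
  have h1 := hv (Pi.single 0 1)
  have h2 := hv (Pi.single 1 1)
  rw [hpol, bl_apply, bl_apply] at h1 h2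
  simp only [Pi.single_apply, Fin.isValue, if_true, if_false, one_ne_zero, zero_ne_one, mul_one, mul_zero, add_zero,
    zero_add, one_mul, zero_mul, sub_zero, zero_sub] at h1 h2
  -- `g² v = v`
  refine pow_fix_zero hz hz1 hpF (add_inv g) (m := 2) (by norm_num) (by have := hp.two_le; omega) ?_
  have h3 := det_eq g
  rw [pow_two, LinearEquiv.mul_apply]
  ext i
  fin_cases i
  · simp only [Fin.zero_eta, lin_apply]
    linear_combination v 0 * h3 - g.1 0 0 * h2 + g.1 0 1 * h1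
  · simp only [Fin.mk_one, lin_apply]
    linear_combination v 1 * h3 - g.1 1 0 * h2 + g.1 1 1 * h1

theorem bl_inv_pow (k : ℕ) (v w : Fin 2 → F) :
    bl g (Matrix.SpecialLinearGroup.toLin' (g ^ k) v) (Matrix.SpecialLinearGroup.toLin' (g ^ k) w) = bl g v w := by
  induction k with
  | zero => rw [pow_zero, map_one]; rfl
  | succ k ih =>
    rw [pow_succ', map_mul, LinearEquiv.mul_apply, LinearEquiv.mul_apply, bl_inv, ih]

end plane

/-! ### four planes -/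

section four

variable {F : Type} [Field F] (g : Matrix.SpecialLinearGroup (Fin 2) F)

/-- the form on four planes -/
noncomputable def qW : QuadraticForm F (Fin 4 → (Fin 2 → F)) := QuadraticMap.pi fun _ => (bl g).toQuadraticMap

theorem qW_apply (w : Fin 4 → (Fin 2 → F)) : qW g w = ∑ i, (bl g).toQuadraticMap (w i) := QuadraticMap.pi_apply _ _

theorem nondeg_qW (h : Nondeg (bl g).toQuadraticMap) : Nondeg (qW g) := by
  intro v hv
  ext i : 1
  apply h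
  intro y
  have h1 := hv (Pi.single i y)
  have h2 : polar (qW g) v (Pi.single i y) =
      ∑ j, polar (bl g).toQuadraticMap (v j) ((Pi.single i y : Fin 4 → (Fin 2 → F)) j) := by
    simp only [polar, qW_apply, Pi.add_apply, Finset.sum_sub_distrib]
  rw [h2, Finset.sum_eq_single i] at h1
  · rwa [Pi.single_eq_same] at h1
  · intro j _ hj
    rw [Pi.single_eq_of_ne hj, polar_zero_right]
  · intro h; exact (h (Finset.mem_univ _)).elim

omit g in
theorem finrank_WW : finrank F (Fin 4 → (Fin 2 → F)) = 8 := by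
  rw [Module.finrank_pi_fintype]
  simp

theorem pl_qW [Fintype F] : Pl (qW g) := by
  obtain ⟨r, hch, n, hr, hc⟩ := FiniteField.card' F
  have : NeZero r := ⟨hr.ne_zero⟩
  obtain ⟨a, b, hab⟩ := CharP.sq_add_sq F r (-1)
  push_cast at hab
  let f : ((Fin 2 → F) × (Fin 2 → F)) →ₗ[F] (Fin 4 → (Fin 2 → F)) :=
    { toFun := fun u => ![u.1, u.2, (a : F) • u.1 - (b : F) • u.2, (b : F) • u.1 + (a : F) • u.2]
      map_add' := fun u v => by
        ext i j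
        (revert i; simp only [_root_.Fin.forall_fin_succ, _root_.Nat.succ_eq_add_one, Nat.reduceAdd, _root_.Prod.fst_add, _root_.Prod.snd_add, _root_.smul_add, _root_.Matrix.cons_val', _root_.Pi.add_apply, _root_.Pi.sub_apply, _root_.Pi.smul_apply, _root_.smul_eq_mul, _root_.Matrix.cons_val_fin_one, Fin.isValue, _root_.Matrix.cons_val_zero, _root_.Matrix.cons_val_succ, _root_.forall_const, _root_.true_and]) <;> (repeat' with_reducible apply And.intro) <;> ring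
      map_smul' := fun c u => by
        ext i j
        (revert i; simp only [_root_.Fin.forall_fin_succ, _root_.Nat.succ_eq_add_one, Nat.reduceAdd, _root_.Prod.smul_fst, _root_.Prod.smul_snd, _root_.Matrix.cons_val', _root_.Pi.smul_apply, _root_.smul_eq_mul, _root_.Pi.sub_apply, _root_.Pi.add_apply, _root_.Matrix.cons_val_fin_one, _root_.RingHom.id_apply, Fin.isValue, _root_.Matrix.cons_val_zero, _root_.Matrix.cons_val_succ, _root_.forall_const, _root_.true_and]) <;> (repeat' with_reducible apply And.intro) <;> ring }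
  have hf0 : ∀ u, f u 0 = u.1 := fun u => rfl
  have hf1 : ∀ u, f u 1 = u.2 := fun u => rfl
  have hf2 : ∀ u, f u 2 = (a : F) • u.1 - (b : F) • u.2 := fun u => rfl
  have hf3 : ∀ u, f u 3 = (b : F) • u.1 + (a : F) • u.2 := fun u => rfl
  have hf : Function.Injective f := fun u v h => by
    refine Prod.ext ?_ ?_
    · rw [← hf0, ← hf0, h]
    · rw [← hf1, ← hf1, h]
  refine ⟨LinearMap.range f, ?_, ?_⟩
  · rintro _ ⟨u, rfl⟩
    rw [qW_apply, Fin.sum_univ_four, hf0, hf1, hf2, hf3]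
    simp only [LinearMap.BilinMap.toQuadraticMap_apply, map_sub, map_add, LinearMap.sub_apply, LinearMap.add_apply,
      map_smul, LinearMap.smul_apply, smul_eq_mul]
    linear_combination (bl g u.1 u.1 + bl g u.2 u.2) * hab
  · rw [LinearMap.finrank_range_of_inj hf, finrank_WW, Module.finrank_prod, Module.finrank_fin_fun]

/-- diagonal maps -/
noncomputable def dz (f : Fin 4 → ℕ) : (Fin 4 → (Fin 2 → F)) ≃ₗ[F] (Fin 4 → (Fin 2 → F)) :=
  LinearEquiv.piCongrRight fun i => Matrix.SpecialLinearGroup.toLin' (g ^ f i)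

theorem dz_apply (f : Fin 4 → ℕ) (w : Fin 4 → (Fin 2 → F)) (i : Fin 4) :
    dz g f w i = Matrix.SpecialLinearGroup.toLin' (g ^ f i) (w i) := rfl

theorem dz_inv_apply (f : Fin 4 → ℕ) (w : Fin 4 → (Fin 2 → F)) (i : Fin 4) :
    (dz g f)⁻¹ w i = (Matrix.SpecialLinearGroup.toLin' (g ^ f i))⁻¹ (w i) := rfl

theorem dz_pow_apply (f : Fin 4 → ℕ) (n : ℕ) (w : Fin 4 → (Fin 2 → F)) (i : Fin 4) :
    (dz g f ^ n) w i = Matrix.SpecialLinearGroup.toLin' ((g ^ f i) ^ n) (w i) := by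
  induction n with
  | zero => rw [pow_zero, pow_zero, map_one]; rfl
  | succ n ih => rw [pow_succ', pow_succ', LinearEquiv.mul_apply, dz_apply, ih, map_mul, LinearEquiv.mul_apply]

theorem dz_pow {p : ℕ} (hg : g ^ p = 1) (f : Fin 4 → ℕ) : dz g f ^ p = 1 := by
  ext1 w
  ext1 i
  rw [dz_pow_apply, ← pow_mul, mul_comm, pow_mul, hg, one_pow, map_one]
  rfl

theorem qW_dz (f : Fin 4 → ℕ) (w : Fin 4 → (Fin 2 → F)) : qW g (dz g f w) = qW g w := by
  rw [qW_apply, qW_apply]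
  refine Finset.sum_congr rfl fun i _ => ?_
  rw [dz_apply, LinearMap.BilinMap.toQuadraticMap_apply, LinearMap.BilinMap.toQuadraticMap_apply, bl_inv_pow]

/-- the trace -/
def tr (k : ℕ) : F := (g ^ k).1 0 0 + (g ^ k).1 1 1

theorem add_inv_pow (k : ℕ) (v : Fin 2 → F) : Matrix.SpecialLinearGroup.toLin' (g ^ k) v +
    (Matrix.SpecialLinearGroup.toLin' (g ^ k))⁻¹ v = tr g k • v := add_inv (g ^ k) v

/-- eigenvalues of `x + x⁻¹` -/
def Ev {V : Type*} [AddCommGroup V] [Module F V] (x : V ≃ₗ[F] V) (c : F) : Prop :=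
  ∃ v : V, v ≠ 0 ∧ x v + x⁻¹ v = c • v

theorem Ev.conj {V : Type*} [AddCommGroup V] [Module F V] {x y h : V ≃ₗ[F] V} {c : F} (he : Ev x c)
    (hh : h * x * h⁻¹ = y) : Ev y c := by
  obtain ⟨v, h0, h1⟩ := he
  refine ⟨h v, fun h2 => h0 (h.injective (by rw [h2, map_zero])), ?_⟩
  have e : h⁻¹ (h v) = v := h.symm_apply_apply v
  have h3 : y (h v) = h (x v) := by
    rw [← hh, LinearEquiv.mul_apply, LinearEquiv.mul_apply, e]
  have h4 : y⁻¹ (h v) = h (x⁻¹ v) := by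
    have : y⁻¹ = h * x⁻¹ * h⁻¹ := by rw [← hh]; group
    rw [this, LinearEquiv.mul_apply, LinearEquiv.mul_apply, e]
  rw [h3, h4, ← map_add, h1, map_smul]

variable {V : Type*} [AddCommGroup V] [Module F V] (ψ : (Fin 4 → (Fin 2 → F)) ≃ₗ[F] V)

theorem ev_dz (f : Fin 4 → ℕ) (c : F) : Ev (cj ψ (dz g f)) c ↔ ∃ i, c = tr g (f i) := by
  constructor
  · rintro ⟨v, h0, h1⟩
    obtain ⟨w, rfl⟩ := ψ.surjective v
    rw [← map_inv, cj_apply, cj_apply, ← map_add, ← map_smul] at h1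
    have h2 := ψ.injective h1
    obtain ⟨i, hi⟩ : ∃ i, w i ≠ 0 := by
      by_contra hno
      push Not at hno
      apply h0
      rw [show w = 0 from funext hno, map_zero]
    refine ⟨i, ?_⟩
    have h3 := congrFun h2 i
    rw [Pi.add_apply, Pi.smul_apply, dz_apply, dz_inv_apply, add_inv_pow] at h3
    exact (smul_left_injective F hi h3).symm
  · rintro ⟨i, rfl⟩
    have h0 : (Pi.single 0 1 : Fin 2 → F) ≠ 0 := fun h => (one_ne_zero : (1 : F) ≠ 0) (by simpa using congrFun h 0)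
    refine ⟨ψ (Pi.single i (Pi.single 0 1)), fun h => h0 ?_, ?_⟩
    · rw [LinearEquiv.map_eq_zero_iff] at h
      simpa using congrFun h i
    · rw [← map_inv, cj_apply, cj_apply, ← map_add, ← map_smul]
      congr 1
      ext1 j
      rw [Pi.add_apply, Pi.smul_apply, dz_apply, dz_inv_apply, add_inv_pow]
      by_cases hj : j = i
      · rw [hj]
      · rw [Pi.single_eq_of_ne hj, smul_zero, smul_zero]

end four

/-! ### counting -/

theorem exists_range {n : ℕ} {s : Finset (Fin n)} (h0 : s.Nonempty) (h4 : s.card ≤ 4) :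
    ∃ f : Fin 4 → Fin n, ∀ x, x ∈ s ↔ ∃ i, f i = x := by
  have h1 : Fintype.card s ≤ Fintype.card (Fin 4) := by
    rw [Fintype.card_coe, Fintype.card_fin]; exact h4
  obtain ⟨e⟩ := Function.Embedding.nonempty_of_card_le h1
  have : Nonempty s := h0.to_subtype
  refine ⟨fun i => (Function.invFun e i).1, fun x => ⟨fun hx => ⟨e ⟨x, hx⟩, ?_⟩, ?_⟩⟩
  · change ((Function.invFun e (e ⟨x, hx⟩) : s) : Fin n) = x
    rw [Function.leftInverse_invFun e.injective]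
  · rintro ⟨i, rfl⟩
    exact (Function.invFun e i).2

theorem choose_bound (n : ℕ) (hn : 6 ≤ n) :
    10 * n ≤ n.choose 1 + n.choose 2 + n.choose 3 + n.choose 4 + 9 := by
  induction n, hn using Nat.le_induction with
  | base => decide
  | succ n hn ih =>
    have e2 : (n + 1).choose 2 = n.choose 1 + n.choose 2 := Nat.choose_succ_succ' n 1
    have e3 : (n + 1).choose 3 = n.choose 2 + n.choose 3 := Nat.choose_succ_succ' n 2
    have e4 : (n + 1).choose 4 = n.choose 3 + n.choose 4 := Nat.choose_succ_succ' n 3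
    have h2 : 15 ≤ n.choose 2 := by
      have := Nat.choose_le_choose 2 hn
      exact le_trans (by decide) this
    rw [e2, e3, e4, Nat.choose_one_right, Nat.choose_one_right]
    rw [Nat.choose_one_right] at ih
    omega

/-- subsets with at most four elements -/
def TT (n : ℕ) : Finset (Finset (Fin n)) :=
  (Finset.range 4).biUnion fun k => Finset.powersetCard (k + 1) Finset.univ

theorem mem_TT {n : ℕ} {s : Finset (Fin n)} (h : s ∈ TT n) : s.Nonempty ∧ s.card ≤ 4 := by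
  obtain ⟨k, hk, h1⟩ := Finset.mem_biUnion.1 h
  rw [Finset.mem_powersetCard] at h1
  rw [Finset.mem_range] at hk
  constructor
  · rw [← Finset.card_pos]; omega
  · omega

theorem card_TT (n : ℕ) : (TT n).card = n.choose 1 + n.choose 2 + n.choose 3 + n.choose 4 := by
  rw [TT, Finset.card_biUnion]
  · simp only [Finset.card_powersetCard, Finset.card_univ, Fintype.card_fin, Finset.sum_range_succ,
      Finset.sum_range_zero, zero_add]
  · intro i _ j _ hij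
    exact Finset.pairwise_disjoint_powersetCard Finset.univ (by simpa using hij)

/-- **the bound for `p ∣ q² - 1`** -/
theorem two_final {F : Type} [Field F] [Fintype F] {p : ℕ} [Fact p.Prime] (h11 : 11 ≤ p)
    (hp : p ∣ Fintype.card F ^ 2 - 1) (hpF : (p : F) ≠ 0) {M : Ideal AlgInt} (hM : IsPModular p M) :
    5 * (p - 1) + 1 ≤ kB M (P (LieClassical.QuadForms.plusForm 4 F)) := by
  have hpp : p.Prime := Fact.out
  have hp2 : p ≠ 2 := by omega
  have hodd : Odd p := hpp.odd_of_ne_two hp2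
  -- the element of order `p`
  obtain ⟨g, hg⟩ := exists_prime_orderOf_dvd_card' (G := Matrix.SpecialLinearGroup (Fin 2) F) p (by
    rw [Cfsg.Agent.ClassicalGeometry.PSL2Basic.card_SL2]; exact Dvd.dvd.mul_left hp _)
  have hgp : g ^ p = 1 := by rw [← hg, pow_orderOf_eq_one]
  have hg1 : g ≠ 1 := by
    rintro rfl
    rw [orderOf_one] at hg
    exact hpp.one_lt.ne hg
  have hz : (Matrix.SpecialLinearGroup.toLin' g) ^ p = 1 := by rw [← map_pow, hgp, map_one]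
  have hz1 : Matrix.SpecialLinearGroup.toLin' g ≠ 1 := by
    intro h
    apply hg1
    apply Subtype.ext
    ext i j
    have h1 := congrFun (DFunLike.congr_fun h (Pi.single j 1)) i
    rw [lin_apply] at h1
    change _ = (Pi.single j 1 : Fin 2 → F) i at h1
    fin_cases i <;> fin_cases j <;> simpa [Pi.single_apply] using h1
  -- the model
  obtain ⟨ψ, hψ⟩ := exists_psi (qW g) (nondeg_qW g (nondeg_bl g hp2 hgp hg1 hpF)) finrank_WW (pl_qW g)
  rw [Cfsg.Agent.AutOrth.Main.plusForm_eq] at hψ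
  have hG : _root_.Cfsg.Agent.LieClassical.OrthTrans.Good (LieClassical.QuadForms.plusForm 4 F) := Cfsg.Agent.AutOrth.Main.good_plus (by norm_num)
  have hfinV : Finite ((Fin 4 ⊕ Fin 4 → F) ≃ₗ[F] (Fin 4 ⊕ Fin 4 → F)) :=
    Finite.of_injective (fun g : (Fin 4 ⊕ Fin 4 → F) ≃ₗ[F] (Fin 4 ⊕ Fin 4 → F) =>
      (g : (Fin 4 ⊕ Fin 4 → F) → (Fin 4 ⊕ Fin 4 → F))) DFunLike.coe_injective
  have hE : ∀ f : Fin 4 → ℕ, cj ψ (dz g f) ∈ E (LieClassical.QuadForms.plusForm 4 F) := by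
    intro f
    refine mem_E_of_odd hG (fun v => ?_) hodd (by rw [← map_pow, dz_pow g hgp, map_one])
    obtain ⟨w, rfl⟩ := ψ.surjective v
    rw [cj_apply, hψ, hψ, qW_dz]
  -- the family
  obtain ⟨h, hh⟩ := hodd
  have hch : ∀ s : ↥(TT (h + 1)), ∃ f : Fin 4 → Fin (h + 1), ∀ x, x ∈ s.1 ↔ ∃ i, f i = x := fun s =>
    exists_range (mem_TT s.2).1 (mem_TT s.2).2
  choose f hf using hch
  have hcinj : ∀ a b : Fin (h + 1), tr g (a : ℕ) = tr g (b : ℕ) → a = b := by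
    intro a b hab
    apply Fin.ext
    have hnt : Nontrivial (Fin 2 → F) := inferInstance
    refine c_inj (z := Matrix.SpecialLinearGroup.toLin' g) hz hz1 hpF (c := tr g) (fun k v => ?_) ?_ ?_ hab
    · rw [← map_pow]
      exact add_inv_pow g k v
    · have := a.2; omega
    · have := b.2; omega
  have hfam := family_le (G := ↥(E (LieClassical.QuadForms.plusForm 4 F))) hM (ι := ↥(TT (h + 1)))
    (fun s => ⟨cj ψ (dz g fun i => (f s i : ℕ)), hE _⟩) (fun s => Subtype.ext (by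
      change cj ψ (dz g fun i => (f s i : ℕ)) ^ p = 1
      rw [← map_pow, dz_pow g hgp, map_one])) (fun s t hst => ?_) (fun _ => 1) (fun s => one_le hM _)
  · rw [kB_P hM hG hp2]
    refine le_trans ?_ hfam
    rw [Finset.sum_const, Finset.card_univ, Fintype.card_coe, smul_eq_mul, mul_one, card_TT]
    have := choose_bound (h + 1) (by omega)
    omega
  · obtain ⟨c, hc⟩ := isConj_iff.1 hst
    have hc' : (c : (Fin 4 ⊕ Fin 4 → F) ≃ₗ[F] (Fin 4 ⊕ Fin 4 → F)) * cj ψ (dz g fun i => (f s i : ℕ)) *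
        (c : (Fin 4 ⊕ Fin 4 → F) ≃ₗ[F] (Fin 4 ⊕ Fin 4 → F))⁻¹ = cj ψ (dz g fun i => (f t i : ℕ)) :=
      congrArg Subtype.val hc
    have hc'' : (c : (Fin 4 ⊕ Fin 4 → F) ≃ₗ[F] (Fin 4 ⊕ Fin 4 → F))⁻¹ * cj ψ (dz g fun i => (f t i : ℕ)) *
        ((c : (Fin 4 ⊕ Fin 4 → F) ≃ₗ[F] (Fin 4 ⊕ Fin 4 → F))⁻¹)⁻¹ = cj ψ (dz g fun i => (f s i : ℕ)) := by
      rw [← hc']; group
    apply Subtype.ext
    ext x
    rw [hf s, hf t]
    constructor
    · rintro ⟨i, rfl⟩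
      have h1 : Ev (cj ψ (dz g fun i => (f s i : ℕ))) (tr g (f s i : ℕ)) := (ev_dz g ψ _ _).2 ⟨i, rfl⟩
      obtain ⟨j, hj⟩ := (ev_dz g ψ _ _).1 (h1.conj hc')
      exact ⟨j, (hcinj _ _ hj).symm⟩
    · rintro ⟨i, rfl⟩
      have h1 : Ev (cj ψ (dz g fun i => (f t i : ℕ))) (tr g (f t i : ℕ)) := (ev_dz g ψ _ _).2 ⟨i, rfl⟩
      obtain ⟨j, hj⟩ := (ev_dz g ψ _ _).1 (h1.conj hc'')
      exact ⟨j, (hcinj _ _ hj).symm⟩

end Cfsg.Agent.H587.KB8

private theorem dce_39b2326b8d0c : _root_.True := by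
  try have : _root_.True := by simp only [_root_.Cfsg.Agent.H587.KB8.TT.eq_1]
  exact _root_.True.intro
end

-- part: H587/KB8/FourEnd
section
prune_inst 0x420507c456062120000042082a32002a41d00008000208c008c850e440b09014a08808940078031074022a0800004002003000020420000000a000400000500009882160070d10c08c60099000104000000000000000000000000000000000000000000000
set_option linter.all false
open scoped Cfsg.Agent.FastGrp

-- part: H587/KB8/FourBd
section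
/-!
# The lower bound for `k(B₀(Ω₈⁺(q)))`, `p ∣ q² + 1` (helper587, S4822 KB8)
-/

set_option autoImplicit false
set_option linter.unusedSectionVars false
set_option linter.unusedSimpArgs false

open QuadraticMap Module Cfsg Cfsg.Agent.LieClassical.OrthCore Cfsg.Agent.LieClassical.OrthTrans
open Cfsg.Agent.LieClassical.OrthFinite Cfsg.Agent.ClassicalGeometry Cfsg.Agent.H508.KB

namespace Cfsg.Agent.H587.KB8.Mdl

/-- index set of the family -/
abbrev J (H : ℕ) : Type := Unit ⊕ (Fin H ⊕ ((Fin H × Fin H) ⊕ Fin H))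

/-- the two components -/
def pr {H : ℕ} : J H → Option (Fin H) × Option (Fin H)
  | .inl _ => (none, none)
  | .inr (.inl i) => (some i, none)
  | .inr (.inr (.inl ij)) => (some (min ij.1 ij.2), some (max ij.1 ij.2))
  | .inr (.inr (.inr i)) => (some i, some i)

/-- mirrored -/
def mi {H : ℕ} : J H → Prop
  | .inl _ => False
  | .inr (.inl _) => False
  | .inr (.inr (.inl ij)) => ij.2 < ij.1
  | .inr (.inr (.inr _)) => True

instance {H : ℕ} : DecidablePred (mi (H := H))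
  | .inl _ => inferInstanceAs (Decidable False)
  | .inr (.inl _) => inferInstanceAs (Decidable False)
  | .inr (.inr (.inl ij)) => inferInstanceAs (Decidable (ij.2 < ij.1))
  | .inr (.inr (.inr _)) => inferInstanceAs (Decidable True)

/-- the ranks -/
def lo {H : ℕ} : J H → ℕ
  | .inl _ => 1
  | .inr (.inl _) => 2
  | .inr (.inr (.inl ij)) => if ij.1 = ij.2 then 2 else 1
  | .inr (.inr (.inr _)) => 2

theorem sum_lo (H : ℕ) : ∑ j : J H, lo j = 1 + (2 * H + ((H * H + H) + 2 * H)) := by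
  rw [Fintype.sum_sum_type, Fintype.sum_sum_type, Fintype.sum_sum_type]
  have h1 : ∑ a : Unit, lo (Sum.inl a : J H) = 1 := by simp [lo]
  have h2 : ∑ a : Fin H, lo (Sum.inr (Sum.inl a) : J H) = 2 * H := by simp only [lo, mul_comm, _root_.Finset.sum_const, _root_.Finset.card_univ, _root_.Fintype.card_fin, _root_.smul_eq_mul]
  have h4 : ∑ a : Fin H, lo (Sum.inr (Sum.inr (Sum.inr a)) : J H) = 2 * H := by simp only [lo, mul_comm, _root_.Finset.sum_const, _root_.Finset.card_univ, _root_.Fintype.card_fin, _root_.smul_eq_mul]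
  have h3 : ∑ a : Fin H × Fin H, lo (Sum.inr (Sum.inr (Sum.inl a)) : J H) = H * H + H := by
    have h5 : ∀ a : Fin H × Fin H, lo (Sum.inr (Sum.inr (Sum.inl a)) : J H) = 1 + if a.1 = a.2 then 1 else 0 := by
      intro a
      change (if a.1 = a.2 then 2 else 1) = _
      split_ifs <;> rfl
    simp only [h5]
    rw [Finset.sum_add_distrib, Fintype.sum_prod_type (f := fun a : Fin H × Fin H => if a.1 = a.2 then 1 else 0)]
    simp only [_root_.Finset.sum_const, _root_.Finset.card_univ, _root_.Fintype.card_prod, _root_.Fintype.card_fin, _root_.smul_eq_mul, _root_.mul_one, _root_.Finset.sum_ite_eq, _root_.Finset.mem_univ, ↓ _root_.reduceIte, _root_.Nat.add_left_cancel_iff]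
  rw [h1, h2, h3, h4]

/-- **separation of the indices** -/
theorem eq_of_pr {H : ℕ} {j j' : J H} (h1 : (pr j).1 = (pr j').1 ∨ (pr j).1 = (pr j').2)
    (h2 : (pr j).2 = (pr j').1 ∨ (pr j).2 = (pr j').2) (h3 : (pr j').1 = (pr j).1 ∨ (pr j').1 = (pr j).2)
    (h4 : (pr j').2 = (pr j).1 ∨ (pr j').2 = (pr j).2) :
    j = j' ∨ ((pr j).1 ≠ none ∧ (pr j).2 ≠ none ∧ pr j = pr j' ∧ (mi j ↔ ¬ mi j')) := by
  rcases j with _ | i | ⟨i, k⟩ | i <;> rcases j' with _ | i' | ⟨i', k'⟩ | i' <;>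
    simp only [pr, mi, reduceCtorEq, Option.some.injEq, or_self, or_false, false_or, Prod.mk.injEq, Sum.inr.injEq,
      Sum.inl.injEq, ne_eq, not_false_eq_true, true_and, not_true_eq_false, not_lt] at h1 h2 h3 h4 ⊢
  all_goals first
    | exact Or.inl h1
    | (simp only [Fin.ext_iff, Fin.coe_min, Fin.coe_max, Fin.lt_def, iff_false, true_iff] at h1 h2 h3 h4 ⊢; omega)

section

/-- the values -/
def vl {K : Type*} [Field K] {H : ℕ} (a : Fin H → Kˣ) (o : Option (Fin H)) : Kˣ := o.elim 1 a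

theorem vl_conj {F K : Type*} [Field F] [Field K] [Algebra F K] [FiniteDimensional F K] {H : ℕ} {a : Fin H → Kˣ}
    (ha1 : ∀ i, a i ≠ 1) (hcl : ∀ i j, IsConjRoot F (a i : K) (a j : K) → i = j) {o o' : Option (Fin H)}
    (h : IsConjRoot F (vl a o : K) (vl a o' : K)) : o = o' := by
  have key : ∀ x : Kˣ, IsConjRoot F ((1 : Kˣ) : K) (x : K) → x = 1 := by
    intro x hx
    have h1 : minpoly F ((1 : Kˣ) : K) = minpoly F (x : K) := hx
    have h2 := minpoly.aeval F (x : K)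
    rw [← h1, Units.val_one, minpoly.one, map_sub, Polynomial.aeval_X, map_one, sub_eq_zero] at h2
    exact Units.ext h2
  rcases o with _ | i <;> rcases o' with _ | i'
  · rfl
  · exact absurd (key _ h) (ha1 i')
  · exact absurd (key _ h.symm) (ha1 i)
  · rw [hcl i i' h]

variable {F : Type} [Field F] [Finite F] {K : Type} [Field K] [Algebra F K] [FiniteDimensional F K] {φ : K ≃ₐ[F] K}
  {ι : Type} [Fintype ι] [DecidableEq ι] {Q : QuadraticForm F (ι → F)} {Q₁ : QuadraticForm F K}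
  {ψ : (K × K) ≃ₗ[F] (ι → F)} {p : ℕ} [Fact p.Prime] {M : Ideal AlgInt}

/-- conjugation by a reflection -/
def cr {v : ι → F} (hv : Q v ≠ 0) : ↥(E Q) →* ↥(E Q) where
  toFun g := ⟨refl Q v hv * g.1 * (refl Q v hv)⁻¹, conj_mem_E (refl_mem_O hv) g.2⟩
  map_one' := by
    apply Subtype.ext
    change refl Q v hv * 1 * (refl Q v hv)⁻¹ = 1
    group
  map_mul' g g' := by
    apply Subtype.ext
    change refl Q v hv * (g.1 * g'.1) * (refl Q v hv)⁻¹ =
      (refl Q v hv * g.1 * (refl Q v hv)⁻¹) * (refl Q v hv * g'.1 * (refl Q v hv)⁻¹)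
    group

theorem cr_ne {v : ι → F} (hv : Q v ≠ 0) {g : ↥(E Q)} (hg : g ≠ 1) : cr hv g ≠ 1 := by
  intro h
  apply hg
  apply Subtype.ext
  have h1 : refl Q v hv * g.1 * (refl Q v hv)⁻¹ = 1 := congrArg Subtype.val h
  have h2 : g.1 = 1 := by
    rw [mul_inv_eq_one] at h1
    exact mul_left_cancel (h1.trans (mul_one _).symm)
  exact h2

theorem two_le_cr [Finite ↥(E Q)] (hM : IsPModular p M) (hp2 : p ≠ 2) {v : ι → F} (hv : Q v ≠ 0) {x y c : ↥(E Q)}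
    (hxy : Commute x y) (hxc : Commute x c) (hy : y ^ p = 1) (hy1 : y ≠ 1) (hc : c ^ 4 = 1) (hcy : c * y * c⁻¹ = y⁻¹) :
    2 ≤ blockRank p (principalBlock M ↥(Subgroup.centralizer ({cr hv x} : Set ↥(E Q)))) := by
  refine two_le hM hp2 (hxy.map (cr hv)) (hxc.map (cr hv)) ?_ (cr_ne hv hy1) ?_ ?_
  · rw [← map_pow, hy, map_one]
  · rw [← map_pow, hc, map_one]
  · rw [← map_inv, ← map_mul, ← map_mul, hcy, map_inv]

/-- **the bound** -/
theorem four_bound (h : Mdl φ Q Q₁ ψ) (hM : IsPModular p M) (hp2 : p ≠ 2)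
    (hd : Cfsg.Agent.H200.LinFix.Ordd p (Nat.card F) 4) (hQ : (polarBilin Q).Nondegenerate) (hι : Fintype.card ι = 8)
    (hnm : ∀ z : Kˣ, z ^ p = 1 → nm φ (z : K) = 1) (hsw : cj ψ (sw F K) ∈ E Q) {H : ℕ} (a : Fin H → Kˣ)
    (ha : ∀ i, a i ^ p = 1) (ha1 : ∀ i, a i ≠ 1) (hcl : ∀ i j, IsConjRoot F (a i : K) (a j : K) → i = j) (z : Kˣ)
    (hz : z ^ p = 1) (hz1 : z ≠ 1) : 1 + (2 * H + ((H * H + H) + 2 * H)) ≤ kB M ↥(E Q) := by
  have hfinV : Finite ((ι → F) ≃ₗ[F] (ι → F)) :=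
    Finite.of_injective (fun g : (ι → F) ≃ₗ[F] (ι → F) => (g : (ι → F) → (ι → F))) DFunLike.coe_injective
  have hfinE : Finite ↥(E Q) := inferInstance
  have hpo : Odd p := (Fact.out : p.Prime).odd_of_ne_two hp2
  -- a reflection
  obtain ⟨x₀, y₀, hxy⟩ := h.good.exists_hyp
  have hv : Q (x₀ + y₀) ≠ 0 := by
    rw [Q_add, hxy.left, hxy.right, hxy.pair]
    simp
  -- the elements
  have hmem : ∀ b : Kˣ × Kˣ, b ^ p = 1 → cj ψ (dg b) ∈ E Q := fun b hb =>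
    h.dg_mem_E (hnm _ (congrArg Prod.fst hb)) (hnm _ (congrArg Prod.snd hb)) hpo hb
  have hvl : ∀ o, vl a o ^ p = 1 := by
    rintro (_ | i)
    · exact one_pow p
    · exact ha i
  have hvl2 : ∀ o : Option (Fin H) × Option (Fin H), (vl a o.1, vl a o.2) ^ p = 1 := fun o =>
    Prod.ext (hvl o.1) (hvl o.2)
  set X : Option (Fin H) × Option (Fin H) → ↥(E Q) := fun o => ⟨cj ψ (dg (vl a o.1, vl a o.2)), hmem _ (hvl2 o)⟩
    with hX
  have hXv : ∀ o, (X o).1 = cj ψ (dg (vl a o.1, vl a o.2)) := fun o => rfl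
  set f : J H → ↥(E Q) := fun j => if mi j then cr hv (X (pr j)) else X (pr j) with hf
  have hsupp : ∀ (j : J H) (k : K), Supp (f j).1 k ↔ Supp (X (pr j)).1 k := by
    intro j k
    by_cases hj : mi j
    · have h1 : (f j).1 = refl Q (x₀ + y₀) hv * (X (pr j)).1 * (refl Q (x₀ + y₀) hv)⁻¹ := by
        simp only [hf, if_pos hj]; rfl
      exact supp_conj_iff h1.symm
    · have h1 : (f j).1 = (X (pr j)).1 := by simp only [hf, if_neg hj]
      rw [h1]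
  -- conjugate elements have the same components
  have hcomp : ∀ j j' : J H, IsConj (f j) (f j') → ((pr j).1 = (pr j').1 ∨ (pr j).1 = (pr j').2) ∧
      ((pr j).2 = (pr j').1 ∨ (pr j).2 = (pr j').2) := by
    intro j j' hjj
    obtain ⟨g, hg⟩ := isConj_iff.1 hjj
    have hg' : g.1 * (f j).1 * g.1⁻¹ = (f j').1 := congrArg Subtype.val hg
    have h1 : ∀ k : K, Supp (X (pr j)).1 k → Supp (X (pr j')).1 k := fun k hk =>
      (hsupp j' k).1 (((hsupp j k).2 hk).conj hg')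
    constructor
    · have h2 := supp_dg (h1 _ (supp_fst (vl a (pr j).1, vl a (pr j).2)))
      exact h2.imp (vl_conj ha1 hcl) (vl_conj ha1 hcl)
    · have h2 := supp_dg (h1 _ (supp_snd (vl a (pr j).1, vl a (pr j).2)))
      exact h2.imp (vl_conj ha1 hcl) (vl_conj ha1 hcl)
  have hinj : ∀ j j' : J H, IsConj (f j) (f j') → j = j' := by
    intro j j' hjj
    obtain ⟨h1, h2⟩ := hcomp j j' hjj
    obtain ⟨h3, h4⟩ := hcomp j' j hjj.symm
    rcases eq_of_pr h1 h2 h3 h4 with h5 | ⟨h5, h6, h7, h8⟩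
    · exact h5
    exfalso
    have hne : ∀ o : Option (Fin H), o ≠ none → vl a o ≠ 1 := by
      rintro (_ | i) ho
      · exact absurd rfl ho
      · exact ha1 i
    have key : ∀ g : ↥(E Q), g.1 * (X (pr j)).1 * g.1⁻¹ =
        refl Q (x₀ + y₀) hv * (X (pr j)).1 * (refl Q (x₀ + y₀) hv)⁻¹ → False := fun g hg =>
      h.not_conj hd hQ hι (hvl2 (pr j)) (hne _ h5) (hne _ h6) hv g.2 hg
    obtain ⟨g, hg⟩ := isConj_iff.1 hjj
    obtain ⟨g', hg'⟩ := isConj_iff.1 hjj.symm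
    by_cases hj : mi j
    · have hj' : ¬ mi j' := h8.1 hj
      have e1 : f j = cr hv (X (pr j)) := by simp only [hf, if_pos hj]
      have e2 : f j' = X (pr j) := by simp only [hf, if_neg hj', h7]
      rw [e1, e2] at hg'
      exact key g' (congrArg Subtype.val hg')
    · have hj' : mi j' := by
        by_contra h9
        exact hj (h8.2 h9)
      have e1 : f j = X (pr j) := by simp only [hf, if_neg hj]
      have e2 : f j' = cr hv (X (pr j)) := by simp only [hf, if_pos hj', h7]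
      rw [e1, e2] at hg
      exact key g (congrArg Subtype.val hg)
  -- the ranks
  have hzz : ((z, z⁻¹) : Kˣ × Kˣ) ^ p = 1 := Prod.ext hz (by
    change z⁻¹ ^ p = 1
    rw [inv_pow, hz, inv_one])
  have h1z : ((1, z) : Kˣ × Kˣ) ^ p = 1 := Prod.ext (one_pow p) hz
  set Y : ↥(E Q) := ⟨cj ψ (dg (z, z⁻¹)), hmem _ hzz⟩ with hY
  set Y' : ↥(E Q) := ⟨cj ψ (dg (1, z)), hmem _ h1z⟩ with hY'
  have hdgp : ∀ (b : Kˣ × Kˣ), b ^ p = 1 → ∀ hb, (⟨cj ψ (dg b), hb⟩ : ↥(E Q)) ^ p = 1 := fun b hb1 hb =>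
    Subtype.ext (by
      change (cj ψ (dg b)) ^ p = 1
      rw [← map_pow, ← map_pow, hb1, map_one, map_one])
  have hdgc : ∀ (b b' : Kˣ × Kˣ) (hb hb'), Commute (⟨cj ψ (dg b), hb⟩ : ↥(E Q)) ⟨cj ψ (dg b'), hb'⟩ :=
    fun b b' hb hb' => Subtype.ext (by
      change cj ψ (dg b) * cj ψ (dg b') = cj ψ (dg b') * cj ψ (dg b)
      rw [← map_mul, ← map_mul, ← map_mul, ← map_mul, mul_comm])
  have hYne : Y ≠ 1 := by
    intro h1
    have h2 : cj ψ (dg (z, z⁻¹)) = cj ψ (dg 1) := by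
      rw [map_one, map_one]
      exact congrArg Subtype.val h1
    exact hz1 (congrArg Prod.fst (dg_injective (cj_injective ψ h2)))
  have hYne' : Y' ≠ 1 := by
    intro h1
    have h2 : cj ψ (dg (1, z)) = cj ψ (dg 1) := by
      rw [map_one, map_one]
      exact congrArg Subtype.val h1
    exact hz1 (congrArg Prod.snd (dg_injective (cj_injective ψ h2)))
  set CA : ↥(E Q) := ⟨cA φ ψ, h.cA_mem_E⟩ with hCA
  set CB : ↥(E Q) := ⟨cj ψ (sw F K), hsw⟩ with hCB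
  have hCA4 : CA ^ 4 = 1 := Subtype.ext h.cA_sq
  have hCB4 : CB ^ 4 = 1 := Subtype.ext sw_four
  have hCAY : CA * Y' * CA⁻¹ = Y'⁻¹ := Subtype.ext (by
    change cA φ ψ * cj ψ (dg (1, z)) * (cA φ ψ)⁻¹ = (cj ψ (dg (1, z)))⁻¹
    rw [h.cA_conj (hnm z hz), map_inv, map_inv])
  have hCBY : CB * Y * CB⁻¹ = Y⁻¹ := Subtype.ext (by
    change cj ψ (sw F K) * cj ψ (dg (z, z⁻¹)) * (cj ψ (sw F K))⁻¹ = (cj ψ (dg (z, z⁻¹)))⁻¹
    rw [sw_conj, ← map_inv, ← map_inv]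
    congr 2)
  have hCAX : ∀ i, Commute (X (some i, none)) CA := fun i => Subtype.ext (h.cA_comm (a i)).symm
  have hCBX : ∀ i, Commute (X (some i, some i)) CB := fun i => by
    have h1 := sw_conj (ψ := ψ) (a i, a i)
    rw [mul_inv_eq_iff_eq_mul] at h1
    exact Subtype.ext h1.symm
  have hl : ∀ j : J H, lo j ≤ blockRank p (principalBlock M ↥(Subgroup.centralizer ({f j} : Set ↥(E Q)))) := by
    rintro (_ | i | ⟨i, k⟩ | i)
    · exact one_le hM _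
    · exact two_le hM hp2 (hdgc _ _ _ _) (hCAX i) (hdgp _ h1z _) hYne' hCA4 hCAY
    · by_cases hik : i = k
      · subst hik
        have e1 : lo (Sum.inr (Sum.inr (Sum.inl (i, i))) : J H) = 2 := if_pos rfl
        have e2 : f (Sum.inr (Sum.inr (Sum.inl (i, i)))) = X (some i, some i) := by
          simp only [hf, mi, lt_irrefl, if_false, pr, min_self, max_self]
        rw [e1, e2]
        exact two_le hM hp2 (hdgc _ _ _ _) (hCBX i) (hdgp _ hzz _) hYne hCB4 hCBY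
      · have e1 : lo (Sum.inr (Sum.inr (Sum.inl (i, k))) : J H) = 1 := if_neg hik
        rw [e1]
        exact one_le hM _
    · exact two_le_cr hM hp2 hv (hdgc _ _ _ _) (hCBX i) (hdgp _ hzz _) hYne hCB4 hCBY
  have hfp : ∀ j, f j ^ p = 1 := by
    intro j
    have h1 : X (pr j) ^ p = 1 := hdgp _ (hvl2 _) _
    by_cases hj : mi j
    · simp only [hf, if_pos hj]
      rw [← map_pow, h1, map_one]
    · simp only [hf, if_neg hj]
      exact h1
  have := family_le hM f hfp hinj lo hl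
  rwa [sum_lo] at this

end

end Cfsg.Agent.H587.KB8.Mdl
end

-- part: H587/KB8/FourEnd
section
/-!
# `2 (p - 1) + 1 ≤ k(B₀(PΩ₈⁺(q)))` for `p ∣ q² + 1` (helper587, S4822 KB8)
-/

set_option autoImplicit false
set_option linter.unusedSectionVars false

open QuadraticMap Module Cfsg Cfsg.Agent.LieClassical.OrthCore Cfsg.Agent.LieClassical.OrthTrans
open Cfsg.Agent.LieClassical.OrthFinite Cfsg.Agent.ClassicalGeometry Cfsg.Agent.H508.KB
open Cfsg.Agent.ClassicalGeometry.OrthAut1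

namespace Cfsg.Agent.H587.KB8

theorem nondegenerate_of_nondeg {F V : Type*} [Field F] [AddCommGroup V] [Module F V] {Q : QuadraticForm F V}
    (h : Nondeg Q) : (polarBilin Q).Nondegenerate := by
  refine ⟨fun x hx => h x hx, fun x hx => h x fun y => ?_⟩
  rw [polar_comm]
  exact hx y

/-- **representatives of the classes of elements of order `p`** -/
theorem exists_family {F K : Type*} [Field F] [Field K] [Algebra F K] [Finite K] [FiniteDimensional F K] {d : ℕ}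
    (hK : finrank F K ≤ d) {p : ℕ} [Fact p.Prime] (z : Kˣ) (hz : z ^ p = 1) (hz1 : z ≠ 1) :
    ∃ (H : ℕ) (a : Fin H → Kˣ), (∀ i, a i ^ p = 1) ∧ (∀ i, a i ≠ 1) ∧
      (∀ i j, IsConjRoot F (a i : K) (a j : K) → i = j) ∧ p - 1 ≤ d * H := by
  classical
  have hp : p.Prime := Fact.out
  have ho : orderOf z = p := orderOf_eq_prime hz hz1
  set S : Finset Kˣ := (Finset.range (p - 1)).image fun k => z ^ (k + 1) with hS
  have hSc : S.card = p - 1 := by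
    rw [hS, Finset.card_image_of_injOn, Finset.card_range]
    intro i hi j hj hij
    rw [Finset.coe_range, Set.mem_Iio] at hi hj
    have h1 : i + 1 = j + 1 := pow_injOn_Iio_orderOf (x := z) (by rw [Set.mem_Iio, ho]; omega)
      (by rw [Set.mem_Iio, ho]; omega) hij
    omega
  have hSm : ∀ x ∈ S, x ^ p = 1 ∧ x ≠ 1 := by
    intro x hx
    obtain ⟨k, hk, rfl⟩ := Finset.mem_image.1 hx
    rw [Finset.mem_range] at hk
    refine ⟨by rw [← pow_mul, mul_comm, pow_mul, hz, one_pow], fun h => ?_⟩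
    have h1 := orderOf_dvd_of_pow_eq_one h
    rw [ho] at h1
    have := Nat.le_of_dvd (by omega) h1
    omega
  set m : Kˣ → Polynomial F := fun x => minpoly F (x : K) with hm
  have hle : S.card ≤ d * (S.image m).card := by
    refine Finset.card_le_mul_card_image S d fun P hP => ?_
    obtain ⟨y, hy, rfl⟩ := Finset.mem_image.1 hP
    have h0 : (m y).map (algebraMap F K) ≠ 0 :=
      (Polynomial.map_ne_zero_iff (algebraMap F K).injective).2 (minpoly.ne_zero (Algebra.IsIntegral.isIntegral _))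
    have h1 : (S.filter fun x => m x = m y).card ≤ ((m y).map (algebraMap F K)).roots.toFinset.card := by
      refine Finset.card_le_card_of_injOn (fun x => (x : K)) (fun x hx => ?_) (fun x _ x' _ h => Units.ext h)
      rw [Finset.mem_coe, Finset.mem_filter] at hx
      rw [Finset.mem_coe, Multiset.mem_toFinset, Polynomial.mem_roots h0, Polynomial.IsRoot,
        Polynomial.eval_map_algebraMap, ← hx.2]
      exact minpoly.aeval F (x : K)
    refine h1.trans ((Multiset.toFinset_card_le _).trans ((Polynomial.card_roots' _).trans ?_))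
    rw [Polynomial.natDegree_map]
    exact (minpoly.natDegree_le (y : K)).trans hK
  have hch : ∀ P : S.image m, ∃ x ∈ S, m x = P.1 := fun P => Finset.mem_image.1 P.2
  choose b hb hbm using hch
  refine ⟨(S.image m).card, fun i => b ((S.image m).equivFin.symm i), fun i => (hSm _ (hb _)).1,
    fun i => (hSm _ (hb _)).2, fun i j hij => ?_, by rw [← hSc]; exact hle⟩
  have h1 : m (b ((S.image m).equivFin.symm i)) = m (b ((S.image m).equivFin.symm j)) := hij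
  rw [hbm, hbm] at h1
  exact (S.image m).equivFin.symm.injective (Subtype.ext h1)

open Cfsg.Agent.H200.LinFix in
theorem ordd_four {p q : ℕ} [Fact p.Prime] (hp2 : p ≠ 2) (h : p ∣ q ^ 2 + 1) :
    Ordd p q 4 ∧ orderOf (q : ZMod p) = 4 := by
  have hp : p.Prime := Fact.out
  have h1 : (q : ZMod p) ^ 2 = -1 := by
    have h2 : ((q ^ 2 + 1 : ℕ) : ZMod p) = 0 := (ZMod.natCast_eq_zero_iff _ _).2 h
    push_cast at h2
    exact eq_neg_of_add_eq_zero_left h2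
  have hne : (-1 : ZMod p) ≠ 1 := by
    have : Fact (2 < p) := ⟨by have := hp.two_le; omega⟩
    exact ZMod.neg_one_ne_one
  have h3 : orderOf (q : ZMod p) = 2 ^ (1 + 1) := by
    apply orderOf_eq_prime_pow
    · rw [pow_one, h1]; exact hne
    · rw [show 2 ^ (1 + 1) = 2 * 2 from rfl, pow_mul, h1]; ring
  refine ⟨fun m hm => ?_, h3⟩
  rcases Nat.eq_zero_or_pos (q ^ m) with h0 | h0
  · exfalso
    have hq : q = 0 := by
      by_contra hq
      exact (Nat.pow_pos (Nat.pos_of_ne_zero hq)).ne' h0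
    rw [hq] at h
    norm_num at h
    exact hp.one_lt.ne' h
  · rw [← h3 |>.trans (by norm_num : 2 ^ (1 + 1) = 4)]
    apply orderOf_dvd_of_pow_eq_one
    have h4 : ((q ^ m - 1 : ℕ) : ZMod p) = 0 := (ZMod.natCast_eq_zero_iff _ _).2 hm
    rw [Nat.cast_sub h0, Nat.cast_pow, Nat.cast_one, sub_eq_zero] at h4
    exact h4

/-- **the bound for `p ∣ q² + 1`** -/
theorem four_final {F : Type} [Field F] [Fintype F] {p : ℕ} [Fact p.Prime] (h11 : 11 ≤ p)
    (hp : p ∣ Fintype.card F ^ 2 + 1) {M : Ideal AlgInt} (hM : IsPModular p M) :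
    2 * (p - 1) + 1 ≤ kB M (P (LieClassical.QuadForms.plusForm 4 F)) := by
  have hpp : p.Prime := Fact.out
  have hp2 : p ≠ 2 := by omega
  obtain ⟨r, hch, n, hr, hc⟩ := FiniteField.card' F
  have hfr : Fact r.Prime := ⟨hr⟩
  have hK : finrank F (FiniteField.Extension F r 4) = 4 := FiniteField.finrank_extension F r 4
  have hfd : FiniteDimensional F (FiniteField.Extension F r 4) := Module.Finite.of_finite
  obtain ⟨Q₁, ψ, hform, hiso⟩ := exists_model hK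
  rw [Cfsg.Agent.AutOrth.Main.plusForm_eq] at hiso
  have hG : _root_.Cfsg.Agent.LieClassical.OrthTrans.Good (LieClassical.QuadForms.plusForm 4 F) := Cfsg.Agent.AutOrth.Main.good_plus (by norm_num)
  have h : Mdl (fr F (FiniteField.Extension F r 4)) (LieClassical.QuadForms.plusForm 4 F) Q₁ ψ :=
    ⟨hG, hK, quart' hK, hform, hiso⟩
  have hnm : ∀ z : (FiniteField.Extension F r 4)ˣ, z ^ p = 1 →
      nm (fr F (FiniteField.Extension F r 4)) (z : FiniteField.Extension F r 4) = 1 := by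
    intro z hz
    obtain ⟨k, hk⟩ := hp
    rw [nm_eq, hk, ← Units.val_pow_eq_pow_val, pow_mul, hz, one_pow, Units.val_one]
  obtain ⟨z, hz, hz1⟩ := exists_zeta hK hp
  have hz0 : z ≠ 0 := by
    rintro rfl
    rw [zero_pow hpp.ne_zero] at hz
    exact zero_ne_one hz
  have hzu : (Units.mk0 z hz0) ^ p = 1 := Units.ext (by rw [Units.val_pow_eq_pow_val]; exact hz)
  have hzu1 : Units.mk0 z hz0 ≠ 1 := fun h1 => hz1 (congrArg Units.val h1)
  obtain ⟨H, a, ha, ha1, hcl, hH⟩ := exists_family (F := F) hK.le _ hzu hzu1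
  obtain ⟨hord, ho4⟩ := ordd_four hp2 hp
  have hQn := nondegenerate_of_nondeg hG.nondeg
  have hι : Fintype.card (Fin 4 ⊕ Fin 4) = 8 := rfl
  have hfinV : Finite ((Fin 4 ⊕ Fin 4 → F) ≃ₗ[F] (Fin 4 ⊕ Fin 4 → F)) :=
    Finite.of_injective (fun g : (Fin 4 ⊕ Fin 4 → F) ≃ₗ[F] (Fin 4 ⊕ Fin 4 → F) =>
      (g : (Fin 4 ⊕ Fin 4 → F) → (Fin 4 ⊕ Fin 4 → F))) DFunLike.coe_injective
  have hb := h.four_bound hM hp2 (by rw [Nat.card_eq_fintype_card]; exact hord) hQn hι hnm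
    (h.sw_mem_E hQn hι (exists_half hK)) a ha ha1 hcl _ hzu hzu1
  rw [kB_P hM hG hp2]
  refine le_trans ?_ hb
  -- `p ≥ 13`
  have h4 : 4 ∣ p - 1 := by
    rw [← ho4]
    refine ZMod.orderOf_dvd_card_sub_one ?_
    intro h0
    rw [h0, orderOf_zero] at ho4
    exact absurd ho4 (by norm_num)
  have h13 : 12 ≤ p - 1 := by omega
  have hH3 : 3 ≤ H := by omega
  nlinarith only [hH, h13]

end Cfsg.Agent.H587.KB8
end

private theorem dce_3dfa5398fe47 : _root_.True := by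
  try have : _root_.True := by simp only [_root_.Cfsg.Agent.H587.KB8.Mdl.mi.eq_1]
  try have : _root_.True := by simp only [_root_.Cfsg.Agent.H587.KB8.Mdl.lo.eq_2]
  try have : _root_.True := by simp only [_root_.Cfsg.Agent.H587.KB8.Mdl.mi.eq_2]
  try have : _root_.True := by simp only [_root_.Cfsg.Agent.H587.KB8.Mdl.pr.eq_3]
  try have : _root_.True := by simp only [_root_.Cfsg.Agent.H587.KB8.Mdl.mi.eq_3]
  try have : _root_.True := by simp only [_root_.Cfsg.Agent.H587.KB8.Mdl.cr.congr_simp]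
  try have : _root_.True := by simp only [_root_.Cfsg.Agent.H587.KB8.Mdl.lo.eq_4]
  try have : _root_.True := by simp only [_root_.Cfsg.Agent.H587.KB8.Mdl.pr.eq_2]
  try have : _root_.True := by simp only [_root_.Cfsg.Agent.H587.KB8.Mdl.pr.eq_1]
  try have : _root_.True := by simp only [_root_.Cfsg.Agent.H587.KB8.Mdl.pr.eq_4]
  try have : _root_.True := by simp only [_root_.Cfsg.Agent.H587.KB8.Mdl.lo.eq_1]
  try have : _root_.True := by simp only [_root_.Cfsg.Agent.H587.KB8.Mdl.mi.eq_4]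
  try have : _root_.True := by simp only [_root_.Cfsg.Agent.H587.KB8.Mdl.lo.eq_3]
  exact _root_.True.intro
end

-- part: H490/KB/Rank
section
set_option linter.all false
open scoped Cfsg.Agent.FastGrp

/-!
# S4822: `l(B₀(C))` is at least the class number of a `p'`-quotient by a subgroup containing `C(P)` (helper490)

* `card_le_rank` : `k(C / K) ≤ l(B₀(C))` if `C(P) ≤ K`, `p ∤ |C : K|`;
* `five_le_card` : `5 ≤ k(Y)` if `Y` has a central involution `z`, `8 ≤ |Y|` and every element commutes with at least four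
  elements (always true).
-/

set_option autoImplicit false

open Cfsg Subgroup Cfsg.Agent.H508.KB

namespace Cfsg.Agent.H490.KB

universe u

variable {p : ℕ} [Fact p.Prime] {M : Ideal AlgInt}

/-- characters of a `p'`-quotient `C / K` with `C(P) ≤ K` lie in the principal block -/
theorem card_le_rank {C : Type u} [Group C] [Finite C] (hM : IsPModular p M) (P : Sylow p C) (K : Subgroup C) [K.Normal]
    (hK : centralizer ((P : Subgroup C) : Set C) ≤ K) (hidx : ¬ p ∣ K.index) :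
    Nat.card (ConjClasses (C ⧸ K)) ≤ blockRank p (principalBlock M C) := by
  classical
  have := Fintype.ofFinite C
  have := Fintype.ofFinite (C ⧸ K)
  have : Finite (IrrCharacter (C ⧸ K)) := Characters.Core.finite_irr
  have := Fintype.ofFinite (IrrCharacter (C ⧸ K))
  have hli := Cfsg.Agent.H627.ExSimpleGen.linearIndependent_infl (p := p) K hidx
  have hmem : ∀ χ : IrrCharacter (C ⧸ K), H633.Principal.infl K χ ∈ principalBlock M C := by
    intro χ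
    refine S4626.result p M hM P K hidx hK _ fun n hn => ?_
    rw [H633.Principal.infl_apply, H633.Principal.infl_apply, (QuotientGroup.eq_one_iff n).2 hn, QuotientGroup.mk_one]
  have hle : Submodule.span ℂ (Set.range fun χ : IrrCharacter (C ⧸ K) =>
      pRegularPart p (H633.Principal.infl K χ : C → ℂ)) ≤
      Submodule.span ℂ ((fun χ : IrrCharacter C => pRegularPart p (χ : C → ℂ)) '' principalBlock M C) := by
    rw [Submodule.span_le]
    rintro _ ⟨χ, rfl⟩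
    exact Submodule.subset_span ⟨_, hmem χ, rfl⟩
  have hcard := finrank_span_eq_card hli
  have h1 : Nat.card (ConjClasses (C ⧸ K)) = Fintype.card (IrrCharacter (C ⧸ K)) := by
    rw [← Nat.card_eq_fintype_card, Characters.Core.card_irr]
  rw [h1, ← hcard]
  unfold blockRank
  exact Submodule.finrank_mono hle

/-- a group of order at least 8 with a central involution has at least five classes -/
theorem five_le_card {Y : Type u} [Group Y] [Finite Y] (z : Y) (hz : orderOf z = 2) (hc : ∀ y : Y, y * z = z * y)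
    (h8 : 8 ≤ Nat.card Y) : 5 ≤ Nat.card (ConjClasses Y) := by
  classical
  have := Fintype.ofFinite Y
  have hz2 : z * z = 1 := by rw [← pow_two, ← hz, pow_orderOf_eq_one]
  have hz1 : z ≠ 1 := by
    rintro rfl
    rw [orderOf_one] at hz
    exact absurd hz (by norm_num)
  have h1 := card_comm_eq_card_conjClasses_mul_card Y
  -- the number of commuting pairs
  have h2 : Nat.card { q : Y × Y // Commute q.1 q.2 } = ∑ y : Y, Nat.card (centralizer ({y} : Set Y)) := by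
    have e : { q : Y × Y // Commute q.1 q.2 } ≃ Σ y : Y, (centralizer ({y} : Set Y)) :=
      { toFun := fun q => ⟨q.1.1, ⟨q.1.2, mem_centralizer_singleton_iff.2 q.2.symm⟩⟩
        invFun := fun s => ⟨(s.1, s.2.1), (mem_centralizer_singleton_iff.1 s.2.2).symm⟩
        left_inv := fun q => rfl
        right_inv := fun s => rfl }
    rw [Nat.card_congr e, Nat.card_sigma]
  have h3 : ∀ y : Y, y ≠ 1 → y ≠ z → 4 ≤ Nat.card (centralizer ({y} : Set Y)) := by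
    intro y hy1 hyz
    have h4 : Nat.card (({1, z, y, y * z} : Finset Y)) ≤ Nat.card (centralizer ({y} : Set Y)) := by
      refine Nat.card_le_card_of_injective (fun a => ⟨a.1, ?_⟩) ?_
      · have ha := a.2
        simp only [Finset.mem_insert, Finset.mem_singleton] at ha
        rw [mem_centralizer_singleton_iff]
        rcases ha with h | h | h | h
        · rw [h, one_mul, mul_one]
        · rw [h, hc y]
        · rw [h]
        · rw [h, mul_assoc, ← hc y, ← mul_assoc]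
      · intro a b hab
        exact Subtype.ext (congrArg (fun c : (centralizer ({y} : Set Y)) => (c : Y)) hab)
    refine le_trans ?_ h4
    rw [Nat.card_eq_fintype_card, Fintype.card_coe, Finset.card_insert_of_notMem, Finset.card_insert_of_notMem,
      Finset.card_insert_of_notMem, Finset.card_singleton]
    · rw [Finset.mem_singleton]
      intro h
      exact hz1 (mul_left_cancel (a := y) (by rw [← h, mul_one]))
    · rw [Finset.mem_insert, Finset.mem_singleton, not_or]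
      refine ⟨fun h => hyz h.symm, fun h => hy1 ?_⟩
      have h5 : 1 * z = y * z := by rw [one_mul]; exact h
      exact (mul_right_cancel h5).symm
    · rw [Finset.mem_insert, Finset.mem_insert, Finset.mem_singleton, not_or, not_or]
      refine ⟨fun h => hz1 h.symm, fun h => hy1 h.symm, fun h => hyz ?_⟩
      have h5 : y * z * z = z := by rw [← h, one_mul]
      rwa [mul_assoc, hz2, mul_one] at h5
  have h4 : ∀ y : Y, (y = 1 ∨ y = z) → Nat.card (centralizer ({y} : Set Y)) = Nat.card Y := by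
    intro y hy
    have h5 : centralizer ({y} : Set Y) = ⊤ := by
      refine eq_top_iff.2 fun a _ => mem_centralizer_singleton_iff.2 ?_
      rcases hy with rfl | rfl
      · rw [mul_one, one_mul]
      · exact hc a
    rw [h5]
    exact Nat.card_congr Subgroup.topEquiv.toEquiv
  have h5 : 2 * Nat.card Y + 4 * (Nat.card Y - 2) ≤ ∑ y : Y, Nat.card (centralizer ({y} : Set Y)) := by
    have h6 := Finset.sum_filter_add_sum_filter_not Finset.univ (fun y : Y => y = 1 ∨ y = z)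
      (fun y => Nat.card (centralizer ({y} : Set Y)))
    have h7 : (Finset.univ.filter (fun y : Y => y = 1 ∨ y = z)).card = 2 := by
      have : Finset.univ.filter (fun y : Y => y = 1 ∨ y = z) = {1, z} := by
        ext y
        simp
      rw [this, Finset.card_insert_of_notMem (by rw [Finset.mem_singleton]; exact fun h => hz1 h.symm),
        Finset.card_singleton]
    have h8 : (Finset.univ.filter (fun y : Y => ¬ (y = 1 ∨ y = z))).card = Nat.card Y - 2 := by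
      have h9 := Finset.card_filter_add_card_filter_not (s := (Finset.univ : Finset Y)) (fun y : Y => y = 1 ∨ y = z)
      rw [h7, Finset.card_univ, ← Nat.card_eq_fintype_card] at h9
      omega
    rw [← h6]
    refine add_le_add ?_ ?_
    · rw [← h7, ← smul_eq_mul]
      refine Finset.card_nsmul_le_sum _ _ _ fun y hy => ?_
      rw [h4 y (Finset.mem_filter.1 hy).2]
    · rw [← h8, mul_comm, ← smul_eq_mul]
      refine Finset.card_nsmul_le_sum _ _ _ fun y hy => ?_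
      have h9 := (Finset.mem_filter.1 hy).2
      rw [not_or] at h9
      exact h3 y h9.1 h9.2
  rw [← h2, h1] at h5
  by_contra hlt
  have h6 : Nat.card (ConjClasses Y) ≤ 4 := by omega
  have h7 : Nat.card (ConjClasses Y) * Nat.card Y ≤ 4 * Nat.card Y := Nat.mul_le_mul_right _ h6
  omega

end Cfsg.Agent.H490.KB
end

-- part: H299/AO/ThreeD4
section
prune_inst 0x431507d6501621200001c2086f3203ee7df0005b2006b8c01cd270b440ec0cf6b08832f61bdb03317533aa2e5403d0060031001f9425000002e008e00411d01a09cab160271f5ac08d6009f009904000000000000000000000000000000000004000000000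
set_option linter.all false
open scoped Cfsg.Agent.FastGrp

/-!
# S4822, AO7: `AbOut` for `³D₄(q)`

* `comm_of_rel` : commutators of automorphisms, from a relation with an abelian group (the field automorphisms);
* `outComm_3D4` : commutators of automorphisms of `³D₄(q)` are inner.
-/

set_option autoImplicit false
set_option linter.unusedSectionVars false

namespace Cfsg.Agent.H299.AO

open CoxeterSystem Cfsg.Agent.ChevalleyStructure.CoxeterGeom Cfsg.Agent.Tits.Roots Cfsg.Agent.Tits.Core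
  Cfsg.Agent.Tits.Exchange Cfsg.Agent.Nodes.Reps Cfsg.Agent.Nodes.BNOf Cfsg.Agent.Nodes.StabComb
  Cfsg.Agent.Nodes.Bruhat Cfsg.Agent.Nodes.OppDec Cfsg.Agent.Nodes.RGDTwGen Cfsg.Agent.Nodes.RGDChev
  Cfsg.Agent.Nodes.RGDFold Cfsg.Agent.Nodes.RGDFoldSL
open Cfsg.Agent.KFacts.RgdOpp Cfsg.Agent.KFacts.RgdAut Cfsg.Agent.KFacts.RgdDiag Cfsg.Agent.KFacts.RgdRigid
  Cfsg.Agent.KFacts.RgdField Cfsg.Agent.KFacts.RgdTau Cfsg.Agent.KFacts.RgdNodes
open Cfsg.Lie Cfsg.Agent.ChevalleyStructure Cfsg.Agent.ChevalleyStructure.Elts Cfsg.Agent.ChevStructure.FieldMap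
open Cfsg.Agent.ChevalleyStructure.SL2Hom (up lo)
open Cfsg.Agent.KFacts.TwDFour.Out
open Cfsg.Agent.Nodes.RGDTwD4 Cfsg.Agent.Nodes.RGDTwNode.D4
open Cfsg.Agent.ParSys.Fam.D4 (hf)
open Cfsg.Agent.CpAut.RgdTwStd
open Cfsg.Agent.H69.OutCount Cfsg.Agent.H69.OutTwD4

universe u v

theorem mul_conj {Y : Type u} [Group Y] (γ : MulAut Y) (g : Y) : γ * MulAut.conj g = MulAut.conj (γ g) * γ := by
  ext x
  simp [MulAut.mul_apply, MulAut.conj_apply]

/-- Commutators of automorphisms, from a relation with an abelian group. -/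
theorem comm_of_rel {Y : Type u} [Group Y] [Finite Y] {Γ : Type v} [Group Γ] (hΓ : ∀ a b : Γ, a * b = b * a)
    {Rel : MulAut Y → Γ → Prop} (hone : Rel 1 1) (huniq : ∀ β τ τ', Rel β τ → Rel β τ' → τ = τ')
    (hmul : ∀ β τ β' τ', Rel β τ → Rel β' τ' → Rel (β * β') (τ * τ'))
    (hex : ∀ α, ∃ g τ, Rel (MulAut.conj g * α) τ) {Q : MulAut Y → Prop} (hQ : ∀ β, Rel β 1 → Q β)
    (hQc : ∀ a b β, Q β → Q (MulAut.conj a * β * MulAut.conj b)) (α β : MulAut Y) : Q (α * β * α⁻¹ * β⁻¹) := by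
  have hpow : ∀ (γ : MulAut Y) (τ : Γ) (n : ℕ), Rel γ τ → Rel (γ ^ n) (τ ^ n) := by
    intro γ τ n h
    induction n with
    | zero => rw [pow_zero, pow_zero]; exact hone
    | succ n ih => rw [pow_succ, pow_succ]; exact hmul _ _ _ _ ih h
  have hinv : ∀ (γ : MulAut Y) (τ : Γ), Rel γ τ → Rel γ⁻¹ τ⁻¹ := by
    intro γ τ h
    have h0 : 0 < orderOf γ := orderOf_pos γ
    have h1 : γ ^ (orderOf γ - 1) * γ = 1 := by
      rw [← pow_succ, Nat.sub_add_cancel h0, pow_orderOf_eq_one]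
    have h2 : τ ^ (orderOf γ - 1) * τ = 1 := by
      have h3 := hpow γ τ (orderOf γ - 1 + 1) h
      rw [pow_succ, h1] at h3
      rw [pow_succ] at h3
      exact huniq 1 _ _ h3 hone
    rw [← eq_inv_of_mul_eq_one_left h1, ← eq_inv_of_mul_eq_one_left h2]
    exact hpow γ τ _ h
  obtain ⟨a, τ, ha⟩ := hex α
  obtain ⟨b, σ, hb⟩ := hex β
  set α' := MulAut.conj a * α with hα'
  set β' := MulAut.conj b * β with hβ'
  have hα : α = MulAut.conj a⁻¹ * α' := by rw [hα', map_inv]; group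
  have hβ : β = MulAut.conj b⁻¹ * β' := by rw [hβ', map_inv]; group
  have h1 : Rel (α' * β' * α'⁻¹ * β'⁻¹) 1 := by
    have h2 := hmul _ _ _ _ (hmul _ _ _ _ (hmul _ _ _ _ ha hb) (hinv _ _ ha)) (hinv _ _ hb)
    have h3 : τ * σ * τ⁻¹ * σ⁻¹ = 1 := by rw [hΓ τ σ]; group
    rwa [h3] at h2
  have h2 := hQc (a⁻¹ * α' b⁻¹) (b⁻¹ * β' a⁻¹)⁻¹ _ (hQ _ h1)
  have e1 : α * β = MulAut.conj (a⁻¹ * α' b⁻¹) * (α' * β') := by
    rw [hα, hβ, map_mul]
    calc MulAut.conj a⁻¹ * α' * (MulAut.conj b⁻¹ * β') = MulAut.conj a⁻¹ * (α' * MulAut.conj b⁻¹) * β' := by group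
      _ = MulAut.conj a⁻¹ * (MulAut.conj (α' b⁻¹) * α') * β' := by rw [mul_conj]
      _ = _ := by group
  have e2 : β * α = MulAut.conj (b⁻¹ * β' a⁻¹) * (β' * α') := by
    rw [hα, hβ, map_mul]
    calc MulAut.conj b⁻¹ * β' * (MulAut.conj a⁻¹ * α') = MulAut.conj b⁻¹ * (β' * MulAut.conj a⁻¹) * α' := by group
      _ = MulAut.conj b⁻¹ * (MulAut.conj (β' a⁻¹) * β') * α' := by rw [mul_conj]
      _ = _ := by group
  have e3 : α * β * α⁻¹ * β⁻¹ = MulAut.conj (a⁻¹ * α' b⁻¹) * (α' * β' * α'⁻¹ * β'⁻¹) *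
      MulAut.conj (b⁻¹ * β' a⁻¹)⁻¹ := by
    have e4 : MulAut.conj (b⁻¹ * β' a⁻¹)⁻¹ = (MulAut.conj (b⁻¹ * β' a⁻¹))⁻¹ := map_inv _ _
    rw [e4]
    calc α * β * α⁻¹ * β⁻¹ = (α * β) * (β * α)⁻¹ := by group
      _ = _ := by
        rw [e1, e2, mul_inv_rev, mul_inv_rev]
        simp only [mul_assoc]
  rw [e3]
  exact h2

/-- **`Out(³D₄(q))` is abelian.** -/
theorem outComm_3D4 {K : Type u} [Field K] [Fintype K] {q : ℕ} (hq : IsPrimePow q) (hK : Fintype.card K = q ^ 3)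
    (p : ℕ) [Fact p.Prime] [CharP K p] : OutComm ↥(twistedD4 K q) := by
  obtain ⟨φ, hφ⟩ := D4Fixed.exists_frob hq hK
  let cs : CoxeterSystem CoxeterMatrix.G₂ CoxeterMatrix.G₂.Group := CoxeterMatrix.G₂.toCoxeterSystem
  have hfin : Finite CoxeterMatrix.G₂.Group := finiteW cs
  have R := Cfsg.Agent.Nodes.RGDTwD4.rgd cs hK hφ p
  have hG1 : RGD.Sup (X φ q) {x | IsRoot cs isCartan x} = ⊤ := G1_eq_top cs hK hφ
  have hT := card_T hq hK
  -- the kernel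
  have h2 : Nat.card {β : MulAut ↥(twistedD4 K q) // DTau hφ hK β 1} ≤ Nat.card ↥(T K q) := by
    refine le_trans (card_scalar_le R hG1 (coordD hφ hK) (Q := fun β => DTau hφ hK β 1) fun β S => ⟨S.diag, fun i => ?_⟩) ?_
    · have hS : NTau (T K q) (X φ q) (chD hφ hK) β 1 := ⟨S.diag, fun i t ht => Subtype.ext (S.char i t ht)⟩
      obtain ⟨c, hc, e⟩ := NTau.semi (coordD hφ hK) hS i
      exact ⟨c, hc, fun a => e a⟩
    · rw [hT, Fin.prod_univ_two, mul_comm]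
      have e1 : Nat.card (KD φ 1) = q ^ 3 := by
        rw [F3_eq_top hK hφ, ← hK, ← Nat.card_eq_fintype_card]
        exact Nat.card_congr Subfield.topEquiv.toEquiv
      have e0 : Nat.card (KD φ 0) - 1 = q - 1 := by
        rw [← D4H1.card_fixed hq.one_lt hK hφ, ← Nat.card_units]
        have key : ∀ b : (KD φ 0), φ (b : K) = b := fun b => (mem_Fx.1 b.2)
        refine Nat.card_congr
          { toFun := fun b => ⟨Units.map (KD φ 0).subtype.toMonoidHom b, key b⟩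
            invFun := fun b => Units.mk0 ⟨(b.1 : K), mem_Fx.2 b.2⟩ (fun h => b.1.ne_zero (congrArg Subtype.val h))
            left_inv := fun b => Units.ext rfl
            right_inv := fun b => Subtype.ext (Units.ext rfl) }
      rw [e0, e1]
  let ι : ↥(T K q) → {β : MulAut ↥(twistedD4 K q) // DTau hφ hK β 1} := fun t =>
    ⟨MulAut.conj t.1, dtau_conj hφ hK cs p t.2⟩
  have hinj : Function.Injective ι := by
    intro s t hst
    have h4 : MulAut.conj s.1 = MulAut.conj t.1 := congrArg Subtype.val hst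
    apply Subtype.ext
    have h5 : s.1⁻¹ * t.1 ∈ Subgroup.center ↥(twistedD4 K q) := by
      rw [Subgroup.mem_center_iff]
      intro y
      have h6 := DFunLike.congr_fun h4 y
      rw [MulAut.conj_apply, MulAut.conj_apply] at h6
      have h7 : y * (s.1⁻¹ * t.1) = s.1⁻¹ * (s.1 * y * s.1⁻¹) * t.1 := by group
      rw [h7, h6]; group
    rw [center_eq_bot hq hK, Subgroup.mem_bot] at h5
    exact inv_mul_eq_one.1 h5
  have hsurj : Function.Surjective ι := by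
    have := Fintype.ofFinite ↥(T K q)
    have := Fintype.ofFinite {β : MulAut ↥(twistedD4 K q) // DTau hφ hK β 1}
    refine ((Fintype.bijective_iff_injective_and_card ι).2 ⟨hinj, ?_⟩).2
    rw [← Nat.card_eq_fintype_card, ← Nat.card_eq_fintype_card]
    exact le_antisymm (Nat.card_le_card_of_injective _ hinj) h2
  have key := comm_of_rel (Γ := K ≃+* K) (fun a b => Cfsg.Agent.Lib.AutSL2Out.ringEquiv_comm a b)
    (Rel := DTau hφ hK) (DTau.one hφ hK)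
    (fun β τ τ' S S' => S.unique hφ hK S') (fun β τ β' τ' S S' => S.mul hφ hK S')
    (fun α => by
      obtain ⟨g, σ, D⟩ := exists_diag_conj R hG1 α
      have hσ : σ = 1 := by
        apply perm_G2 σ
        intro h3
        have h4 := Diag.card_eq D 0
        rw [h3] at h4
        exact card_ne hφ hK hq.one_lt h4
      subst hσ
      obtain ⟨τ, S⟩ := exists_dtau hφ hK cs p D
      exact ⟨g, τ, S⟩)
    (Q := fun γ => ∃ s, γ = MulAut.conj s)
    (fun β S => by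
      obtain ⟨t, ht⟩ := hsurj ⟨β, S⟩
      exact ⟨t.1, (congrArg Subtype.val ht).symm⟩)
    (by
      rintro a b _ ⟨s, rfl⟩
      exact ⟨a * s * b, by rw [map_mul, map_mul]⟩)
  intro α β
  obtain ⟨s, hs⟩ := key α β
  exact ⟨s, fun x => by rw [hs, MulAut.conj_apply]⟩

theorem ab_3D4 (p : ℕ) [Fact p.Prime] (S : Type u) [Group S] {K : Type} [Field K] [Fintype K] {r : ℕ} [Fact r.Prime]
    [CharP K r] {q : ℕ} (hq : IsPrimePow q) (hK : Fintype.card K = q ^ 3) (e : S ≃* twistedD4 K q) :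
    Cfsg.Agent.H508.KB.AbOut p S :=
  (OutComm.congr e (outComm_3D4 hq hK r)).abOut p

end Cfsg.Agent.H299.AO
end

-- part: H299/AO/Lift
section
prune_inst 0x42150346500621200001c208651203ee78f0005b2006b8c01dd670a4406869f6b28812f61f5a03b17533aae65203d0060030000f9425800000e000e00411d01a088aa5602f3c9a10ce6009f80b984000000000000000000000000000000041004000000000
set_option linter.all false
open scoped Cfsg.Agent.FastGrp

/-!
# S4822, AO7: centralizers of toral Sylow subgroups cover the diagonal automorphisms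

* `exists_not_mem` : a twisted torus is not contained in the image of the finite group (the proof of helper129's
  `not_mem_range'`);
* `exists_pow_of_split` : the fixed points modulo the finite group are cyclic of prime order;
* `exists_cen` : some fixed point centralises the toral Sylow subgroup and does not lie in the finite group;
* `act_inner` : all fixed points act on the Sylow subgroup as elements of the finite group.
-/

set_option autoImplicit false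
set_option linter.unusedSectionVars false

namespace Cfsg.Agent.H299.AO

open CoxeterSystem Cfsg Cfsg.Lie Cfsg.Lie.ChevalleyDatum
open Cfsg.Agent.ChevalleyStructure Cfsg.Agent.ChevalleyStructure.Elts Cfsg.Agent.ChevalleyStructure.CoxeterGeom
  Cfsg.Agent.ChevalleyStructure.CoxeterGeomTypes Cfsg.Agent.ChevalleyStructure.NPerm
open Cfsg.Agent.Tits.Roots Cfsg.Agent.Tits.Core Cfsg.Agent.Nodes Cfsg.Agent.Nodes.Reps Cfsg.Agent.Nodes.BNOf
  Cfsg.Agent.Nodes.RGDChev Cfsg.Agent.Nodes.Bruhat Cfsg.Agent.Nodes.SubComb Cfsg.Agent.Nodes.Coroot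
open Cfsg.Agent.KFacts.RgdField Cfsg.Agent.KFacts.RgdChevCoord Cfsg.Agent.BpExc.TorCent Cfsg.Agent.BpExc.TorChev
open Cfsg.Agent.GpExc.Field Cfsg.Agent.BpExc.Tow Cfsg.Agent.BpExc.TowChev Cfsg.Agent.BpExc.Fr
  Cfsg.Agent.BpExc.LangFr Cfsg.Agent.LangThm Cfsg.Agent.BpExc Cfsg.Agent.H129.TorusChar Cfsg.Agent.H129.TorusCent
  Cfsg.Agent.H129.TorusTw Cfsg.Agent.H129.TorusMain Cfsg.Agent.H129.TorusUntw Cfsg.Agent.H129.TorAct
  Cfsg.Agent.H129.WData Cfsg.Agent.H129.StCover Cfsg.Agent.H129.StTw Cfsg.Agent.BpExc.EmbInst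
open Cfsg.Agent.ChevalleyStructure.StBasic Cfsg.Agent.ChevalleyStructure.StTheta
open Cfsg.Agent.H795.Reduce Cfsg.Agent.H795.Core

universe u v

section Main

variable {D : ChevalleyDatum} {l : ℕ} {M : CoxeterMatrix (Fin l)} (hp : IsType D l M) {k : Type u} [Field k]
  [IsAlgClosed k] {W : Type*} [Group W] (cs : CoxeterSystem M W)
  {Φ : (Fin D.rank → kˣ) →* D.SteinbergGroup k} (hΦ : IsPhi Φ)

include hp cs hΦ in
/-- **A twisted torus is not contained in the image of the finite group** (`Ψ` lifts `σ` to the Steinberg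
group and is trivial on its centre, which is not trivial; the elements of the finite group lift to fixed elements). -/
theorem exists_not_mem {G0 : Type*} [Group G0] (e0 : G0 →* ↥(D.group k)) (σ : MulAut ↥(D.group k))
    (Ψ : D.SteinbergGroup k →* D.SteinbergGroup k) (hθΨ : ∀ x, theta hp.inList k (Ψ x) = σ (theta hp.inList k x))
    {P : Matrix (Fin D.rank) (Fin D.rank) ℤ} {q : ℕ} (hq2 : 2 ≤ q)
    (hΨ : ∀ b, Ψ (Φ b) = Φ (mAct P (fun i => b i ^ q)))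
    (hcen : ∀ κ ∈ Subgroup.center (D.SteinbergGroup k), Ψ κ = κ)
    (hlift : ∀ x : G0, ∃ x', Ψ x' = x' ∧ theta hp.inList k x' = e0 x)
    {c : Fin D.rank → kˣ} (hc : ∀ s < D.nroots, ∏ i : Fin D.rank, c i ^ D.cartan i s = 1) (hc1 : c ≠ 1)
    {hN : NSys M (TT D k) (nc hp k)} {w : W} {n z : ↥(D.group k)} (hn : Rp cs hN w n)
    (hz : n = z⁻¹ * σ z) :
    ∃ s ∈ TT D k, n * σ s * n⁻¹ = s ∧ z * s * z⁻¹ ∉ e0.range := by
  have hD := hp.inList
  -- the representative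
  obtain ⟨ω, rfl⟩ := cs.wordProd_surjective w
  have hrp : Rp cs hN (cs.wordProd ω) (theta hD k (nW D k ω)) := by
    clear hn
    induction ω with
    | nil =>
      rw [wordProd_nil]
      have : theta hD k (nW D k ([] : List (Fin l))) = 1 := by simp [nW]
      rw [this]
      exact rp_one
    | cons i ω ih =>
      rw [wordProd_cons, nW_cons, map_mul, theta_stn_simple hp]
      exact (rp_simple cs hN i).mul ih
  have ht0 : (theta hD k (nW D k ω))⁻¹ * n ∈ TT D k := hrp.unique hn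
  obtain ⟨A, hA⟩ := exists_matrix hD hΦ (lt_rank hp) ω
  -- the solution
  obtain ⟨b, hb⟩ := exists_solution (A * P) hq2 c
  rw [mAct_mul] at hb
  have hσb : Ψ (Φ b) = Φ (mAct P (fun i => b i ^ q)) := hΨ b
  have hτ : nW D k ω * Ψ (Φ b) * (nW D k ω)⁻¹ = Φ b * Φ c := by
    rw [hσb, hA, hb, map_mul]
  have hcc : Φ c ∈ Subgroup.center (D.SteinbergGroup k) := (hΦ.mem_iff c).2 hc
  have hθc : theta hD k (Φ c) = 1 := by
    rw [← MonoidHom.mem_ker, ker_theta hD]; exact hcc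
  -- the element `s`
  have hs : theta hD k (Φ b) ∈ TT D k := theta_phi_mem hD hΦ b
  have hσs : σ (theta hD k (Φ b)) ∈ TT D k := by
    rw [← hθΨ, hσb]
    exact theta_phi_mem hD hΦ _
  have hns : n * σ (theta hD k (Φ b)) * n⁻¹ = theta hD k (Φ b) := by
    have h1 := congrArg (theta hD k) hτ
    rw [map_mul, map_mul, map_inv, map_mul, hθc, mul_one, hθΨ] at h1
    have h2 : n = theta hD k (nW D k ω) * ((theta hD k (nW D k ω))⁻¹ * n) := by group
    have h3 := Cfsg.Agent.BpExc.TorChev.TT_comm hp _ ht0 _ hσs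
    rw [h2]
    calc theta hD k (nW D k ω) * ((theta hD k (nW D k ω))⁻¹ * n) * σ (theta hD k (Φ b)) *
          (theta hD k (nW D k ω) * ((theta hD k (nW D k ω))⁻¹ * n))⁻¹
        = theta hD k (nW D k ω) * ((((theta hD k (nW D k ω))⁻¹ * n) * σ (theta hD k (Φ b))) *
          ((theta hD k (nW D k ω))⁻¹ * n)⁻¹) * (theta hD k (nW D k ω))⁻¹ := by group
      _ = theta hD k (nW D k ω) * σ (theta hD k (Φ b)) * (theta hD k (nW D k ω))⁻¹ := by
        rw [h3]; group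
      _ = _ := h1
  refine ⟨_, hs, hns, fun hzs => ?_⟩
  obtain ⟨x, hx⟩ := hzs
  obtain ⟨E, hEfix, hE⟩ := hlift x
  obtain ⟨z', rfl⟩ := theta_surjective hD z
  have hθE : theta hD k E = theta hD k (z' * Φ b * z'⁻¹) := by
    rw [hE, hx, map_mul, map_mul, map_inv]
  have key : ∀ {x y : D.SteinbergGroup k}, theta hD k x = theta hD k y →
      ∃ κ ∈ Subgroup.center (D.SteinbergGroup k), y = x * κ := by
    intro x y hxy
    refine ⟨x⁻¹ * y, ?_, by group⟩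
    rw [← ker_theta hD, MonoidHom.mem_ker, map_mul, map_inv, hxy, inv_mul_cancel]
  obtain ⟨κ, hκ, h1⟩ := key hθE
  -- the lift of `z`
  obtain ⟨a, ha⟩ := exists_theta_phi hΦ hp ht0
  have hθn : theta hD k (nW D k ω * Φ a) = theta hD k (z'⁻¹ * Ψ z') := by
    rw [map_mul, ha, map_mul, map_inv, hθΨ, ← hz]
    group
  obtain ⟨κ', hκ', h2⟩ := key hθn
  have h3 : Ψ z' = z' * (nW D k ω * Φ a * κ') := by rw [← h2]; group
  have hκc : ∀ x : D.SteinbergGroup k, κ' * x * κ'⁻¹ = x := fun x => by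
    rw [← Subgroup.mem_center_iff.1 hκ' x, mul_inv_cancel_right]
  have h4 : Ψ (z' * Φ b * z'⁻¹) = z' * (Φ b * Φ c) * z'⁻¹ := by
    rw [map_mul, map_mul, map_inv, h3, ← hτ]
    have h5 : Φ a * Ψ (Φ b) * (Φ a)⁻¹ = Ψ (Φ b) := by
      rw [hσb, ← map_mul, ← map_inv, ← map_mul]
      congr 1
      exact mul_inv_cancel_comm _ _
    calc z' * (nW D k ω * Φ a * κ') * Ψ (Φ b) * (z' * (nW D k ω * Φ a * κ'))⁻¹
        = z' * (nW D k ω * (Φ a * (κ' * Ψ (Φ b) * κ'⁻¹) * (Φ a)⁻¹) * (nW D k ω)⁻¹) * z'⁻¹ := by group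
      _ = z' * (nW D k ω * Ψ (Φ b) * (nW D k ω)⁻¹) * z'⁻¹ := by rw [hκc, h5]
  rw [h1, map_mul, hEfix, hcen κ hκ, ← h1] at h4
  have h5 : Φ c = 1 := by
    have h6 : z' * Φ b * z'⁻¹ = z' * Φ b * Φ c * z'⁻¹ := by rw [h4]; group
    have h7 := mul_right_cancel h6
    exact (mul_eq_left.1 h7.symm)
  exact hc1 (hΦ.inj (by rw [h5, map_one]))

end Main

/-! ### the index -/

/-- **The fixed points modulo the finite group have order `1` or `m`.** -/
theorem exists_pow_of_split {Y : Type*} [Group Y] {σ : MulAut Y} {G0 : Type*} [Group G0] {e0 : G0 →* Y}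
    (hnorm : ∀ t, σ t = t → ∀ x, ∃ x', e0 x' = t * e0 x * t⁻¹) {A : Subgroup Y}
    (hA : ∀ t ∈ A, σ t = t) (hfinA : Finite ↥A) (hsplit : ∀ y, σ y = y → ∃ x, ∃ t ∈ A, y = e0 x * t)
    {H : Subgroup Y} (hHA : H ≤ A) (hHR : H ≤ e0.range) {m : ℕ} (hm : m.Prime)
    (hc : Nat.card ↥A ∣ m * Nat.card ↥H) {y0 : Y} (hy0 : σ y0 = y0) (h0 : y0 ∉ e0.range) {y : Y} (hy : σ y = y) :
    ∃ (s : G0) (j : ℕ), y = e0 s * y0 ^ j := by
  classical
  let V : Subgroup Y := σ.toMonoidHom.eqLocus (MonoidHom.id _)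
  have hV : ∀ z, z ∈ V ↔ σ z = z := fun z => Iff.rfl
  let R : Subgroup ↥V := e0.range.subgroupOf V
  have hR : ∀ z : ↥V, z ∈ R ↔ ∃ x, e0 x = z := fun z => Iff.rfl
  have hRn : R.Normal := by
    refine ⟨fun z hz t => ?_⟩
    obtain ⟨x, hx⟩ := (hR z).1 hz
    obtain ⟨x', hx'⟩ := hnorm t t.2 x
    exact (hR _).2 ⟨x', by rw [hx', hx]; rfl⟩
  let π : ↥A →* ↥V ⧸ R := (QuotientGroup.mk' R).comp (Subgroup.inclusion (fun t ht => (hA t ht : t ∈ V)))
  have hπ : Function.Surjective π := by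
    intro z
    obtain ⟨z, rfl⟩ := QuotientGroup.mk_surjective z
    obtain ⟨x, t, ht, e⟩ := hsplit z z.2
    refine ⟨⟨t, ht⟩, ?_⟩
    refine QuotientGroup.eq.2 ?_
    obtain ⟨x', hx'⟩ := hnorm t⁻¹ (by rw [map_inv, hA t ht]) x
    refine (hR _).2 ⟨x', ?_⟩
    rw [hx']
    show t⁻¹ * e0 x * t⁻¹⁻¹ = t⁻¹ * (z : Y)
    rw [e, inv_inv]
    group
  have hker : H.subgroupOf A ≤ π.ker := by
    intro t ht
    rw [MonoidHom.mem_ker]
    refine (QuotientGroup.eq_one_iff _).2 ?_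
    exact (hR _).2 (hHR ht)
  have hfinV : Finite (↥V ⧸ R) := Finite.of_surjective π hπ
  have hcard : Nat.card (↥V ⧸ R) ∣ m := by
    have h1 : Nat.card (↥V ⧸ R) * Nat.card ↥π.ker = Nat.card ↥A := by
      have h2 := Subgroup.card_eq_card_quotient_mul_card_subgroup π.ker
      rw [h2, Nat.card_congr (QuotientGroup.quotientKerEquivOfSurjective π hπ).toEquiv]
    have h3 : Nat.card ↥H ∣ Nat.card ↥π.ker := by
      have h4 : Nat.card ↥(H.subgroupOf A) = Nat.card ↥H :=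
        Nat.card_congr (Subgroup.subgroupOfEquivOfLe hHA).toEquiv
      rw [← h4]
      exact Subgroup.card_dvd_of_le hker
    obtain ⟨c, hc'⟩ := h3
    have hH0 : 0 < Nat.card ↥H := by
      have : Finite ↥H := Finite.of_injective (Subgroup.inclusion hHA) (Subgroup.inclusion_injective _)
      exact Nat.card_pos
    rw [← h1, hc'] at hc
    have h5 : Nat.card (↥V ⧸ R) * c * Nat.card ↥H ∣ m * Nat.card ↥H := by
      convert hc using 1
      ring
    exact (Dvd.intro _ rfl : Nat.card (↥V ⧸ R) ∣ Nat.card (↥V ⧸ R) * c).trans (Nat.dvd_of_mul_dvd_mul_right hH0 h5)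
  have hne : (QuotientGroup.mk' R ⟨y0, hy0⟩ : ↥V ⧸ R) ≠ 1 := by
    intro h
    exact h0 ((hR _).1 ((QuotientGroup.eq_one_iff _).1 h))
  have hm' : Fact m.Prime := ⟨hm⟩
  have hcard' : Nat.card (↥V ⧸ R) = m := by
    rcases (Nat.dvd_prime hm).1 hcard with h | h
    · exfalso
      have := (Nat.card_eq_one_iff_unique.1 h).1
      exact hne (Subsingleton.elim _ _)
    · exact h
  obtain ⟨j, hj⟩ := mem_powers_of_prime_card hcard' hne (g' := QuotientGroup.mk' R ⟨y, hy⟩)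
  have hj' : QuotientGroup.mk' R (⟨y0, hy0⟩ ^ j) = QuotientGroup.mk' R ⟨y, hy⟩ := by
    rw [map_pow]; exact hj
  have h1 : (⟨y, hy⟩ : ↥V) * (⟨y0, hy0⟩ ^ j)⁻¹ ∈ R := by
    rw [← QuotientGroup.eq_one_iff]
    show QuotientGroup.mk' R _ = 1
    rw [map_mul, map_inv, hj', mul_inv_cancel]
  obtain ⟨s, hs⟩ := (hR _).1 h1
  refine ⟨s, j, ?_⟩
  rw [hs]
  show y = y * (y0 ^ j)⁻¹ * y0 ^ j
  rw [inv_mul_cancel_right]

/-- all fixed points act on the Sylow subgroups as elements of the finite group -/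
theorem act_inner {Y : Type*} [Group Y] {σ : MulAut Y} {G0 : Type*} [Group G0] [Finite G0] {e0 : G0 →* Y}
    (hfix : ∀ x, σ (e0 x) = e0 x) {p : ℕ} [Fact p.Prime] {y0 : Y}
    (hpow : ∀ y, σ y = y → ∃ (s : G0) (j : ℕ), y = e0 s * y0 ^ j) (P' : Sylow p G0)
    (hcen : ∀ x ∈ (P' : Subgroup G0), y0 * e0 x = e0 x * y0) (P : Sylow p G0) {y : Y} (hy : σ y = y) :
    ∃ s : G0, ∀ x ∈ (P : Subgroup G0), y * e0 x * y⁻¹ = e0 (s * x * s⁻¹) := by
  obtain ⟨g, hg⟩ := MulAction.exists_smul_eq G0 P' P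
  have hgP : ∀ x ∈ (P : Subgroup G0), g⁻¹ * x * g ∈ (P' : Subgroup G0) := by
    intro x hx
    rw [← hg, Sylow.coe_subgroup_smul, Subgroup.mem_pointwise_smul_iff_inv_smul_mem, ← map_inv, MulAut.smul_def,
      MulAut.conj_apply, inv_inv] at hx
    exact hx
  obtain ⟨s, j, hs⟩ := hpow (y * e0 g) (by rw [map_mul, hy, hfix])
  refine ⟨s * g⁻¹, fun x hx => ?_⟩
  have h1 : ∀ i : ℕ, y0 ^ i * e0 (g⁻¹ * x * g) * (y0 ^ i)⁻¹ = e0 (g⁻¹ * x * g) := by
    intro i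
    have h2 : Commute (y0 ^ i) (e0 (g⁻¹ * x * g)) := Commute.pow_left (hcen _ (hgP x hx)) i
    rw [h2.eq, mul_inv_cancel_right]
  have h2 : y = e0 s * y0 ^ j * (e0 g)⁻¹ := by rw [← hs]; group
  have h3 : e0 x = e0 g * e0 (g⁻¹ * x * g) * (e0 g)⁻¹ := by
    rw [← map_inv, ← map_mul, ← map_mul]
    congr 1
    group
  have h4 : y * e0 x * y⁻¹ = e0 s * (y0 ^ j * e0 (g⁻¹ * x * g) * (y0 ^ j)⁻¹) * (e0 s)⁻¹ := by
    rw [h2, h3]
    group
  rw [h4, h1, ← map_inv, ← map_mul, ← map_mul]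
  congr 1
  group

section Cen

variable {D : ChevalleyDatum} {l : ℕ} {M : CoxeterMatrix (Fin l)} (hp : IsType D l M) {k : Type u} [Field k]
  [IsAlgClosed k] (hk : LocFin k) {r e : ℕ} [Fact r.Prime] [CharP k r]
  {Φ : (Fin D.rank → kˣ) →* D.SteinbergGroup k} (hΦ : IsPhi Φ)

theorem rp_congr {Y : Type*} [Group Y] {l : ℕ} {M : CoxeterMatrix (Fin l)} {W : Type*} [Group W] {cs : CoxeterSystem M W}
    {T T' : Subgroup Y} (h : T = T') {n : Fin l → Y} {hN : NSys M T n} {w : W} {y : Y} (hr : Rp cs hN w y) :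
    ∃ hN' : NSys M T' n, Rp cs hN' w y := by
  subst h
  exact ⟨hN, hr⟩

include hk hΦ in
/-- **Some fixed point centralises the toral Sylow subgroup and does not lie in the finite group.** -/
theorem exists_cen {G0 : Type v} [Group G0] [Finite G0] {e0 : G0 →* ↥(D.group k)} {σ : MulAut ↥(D.group k)}
    {g : (Fin l → ℤ) ≃+ (Fin l → ℤ)} {p : ℕ} [Fact p.Prime] (hset : Setup hp p r e e0 σ g)
    (Ψ : D.SteinbergGroup k →* D.SteinbergGroup k) (hθΨ : ∀ x, theta hp.inList k (Ψ x) = σ (theta hp.inList k x))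
    {Pm : Matrix (Fin D.rank) (Fin D.rank) ℤ} {q : ℕ} (hq2 : 2 ≤ q)
    (hΨ : ∀ b, Ψ (Φ b) = Φ (mAct Pm (fun i => b i ^ q)))
    (hcen : ∀ κ ∈ Subgroup.center (D.SteinbergGroup k), Ψ κ = κ)
    (hlift : ∀ x : G0, ∃ x', Ψ x' = x' ∧ theta hp.inList k x' = e0 x)
    {c : Fin D.rank → kˣ} (hc : ∀ s < D.nroots, ∏ i : Fin D.rank, c i ^ D.cartan i s = 1) (hc1 : c ≠ 1)
    (S : Sylow p G0) (htor : ∃ z : ↥(D.group k), ∀ x ∈ (S : Subgroup G0), z * e0 x * z⁻¹ ∈ TT D k) :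
    ∃ (P : Sylow p G0) (y0 : ↥(D.group k)), σ y0 = y0 ∧ y0 ∉ e0.range ∧
      ∀ x ∈ (P : Subgroup G0), y0 * e0 x = e0 x * y0 := by
  obtain ⟨y, a, w, h1, h2, h3, h4, h5⟩ := exists_frame hp hk r hset.inj hset.e_pos hset.frob hset.fr hset.fix
    (p := p) hset.p_mem S htor
  obtain ⟨hN, h5⟩ := rp_congr (TL_eq hp hk) h5
  obtain ⟨s, hs, hns, hnot⟩ := exists_not_mem hp M.toCoxeterSystem hΦ e0 σ Ψ hθΨ hq2 hΨ hcen hlift hc hc1 h5 rfl
  refine ⟨a • S, y * s * y⁻¹, ?_, hnot, fun x hx => ?_⟩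
  · rw [map_mul, map_mul, map_inv]
    have h6 : σ s = (y⁻¹ * σ y)⁻¹ * s * (y⁻¹ * σ y) := by
      conv_rhs => rw [← hns]
      group
    rw [h6]
    group
  · have hx' : a⁻¹ * x * a ∈ (S : Subgroup G0) := by
      rw [Sylow.coe_subgroup_smul, Subgroup.mem_pointwise_smul_iff_inv_smul_mem, ← map_inv, MulAut.smul_def,
        MulAut.conj_apply, inv_inv] at hx
      exact hx
    have h6 := h1 _ hx'
    rw [cf_apply] at h6
    have h7 : a * (a⁻¹ * x * a) * a⁻¹ = x := by group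
    rw [h7] at h6
    have h8 := TT_comm hp _ hs _ h6
    calc y * s * y⁻¹ * e0 x = y * (s * (y⁻¹ * e0 x * y)) * y⁻¹ := by group
      _ = y * ((y⁻¹ * e0 x * y) * s) * y⁻¹ := by rw [h8]
      _ = _ := by group

end Cen

end Cfsg.Agent.H299.AO
end

-- part: H936/KE/TE6Data
section
set_option linter.all false
open scoped Cfsg.Agent.FastGrp

-- part: H936/KE/Pair
section
/-!
# Functionals with coefficients in `ℤ[q]`, `q ^ 2 = s + t q` (S4822, KE; helper936)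

`ev q (u, v) = u + v q` modulo `p`, `evv q A` the functional on the root lattice with values `ev q (A i)` on the simple
roots. Power sums of the root values, and the number of the roots with value `0`.
-/

set_option autoImplicit false
set_option linter.unusedSectionVars false

namespace Cfsg.Agent.H936.KE

open CoxeterSystem Cfsg Cfsg.Lie Cfsg.Lie.ChevalleyDatum
open Cfsg.Agent.ChevalleyStructure Cfsg.Agent.ChevalleyStructure.Elts Cfsg.Agent.ChevalleyStructure.CoxeterGeom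
  Cfsg.Agent.ChevalleyStructure.CoxeterGeomTypes Cfsg.Agent.ChevalleyStructure.NPerm
open Cfsg.Agent.Tits.Roots Cfsg.Agent.Tits.Core Cfsg.Agent.Nodes Cfsg.Agent.Nodes.Reps Cfsg.Agent.Nodes.BNOf
  Cfsg.Agent.Nodes.RGDChev Cfsg.Agent.Nodes.Bruhat
open Cfsg.Agent.KFacts.RgdField Cfsg.Agent.KFacts.RgdChevCoord Cfsg.Agent.BpExc.TorCent Cfsg.Agent.BpExc.TorChev
open Cfsg.Agent.GpExc.Field Cfsg.Agent.BpExc.Tow Cfsg.Agent.BpExc.TowChev Cfsg.Agent.BpExc.Fr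
  Cfsg.Agent.BpExc.LangFr Cfsg.Agent.H795.SetCent Cfsg.Agent.H795.Toral Cfsg.Agent.H795.Core
  Cfsg.Agent.H795.RootConn Cfsg.Agent.H795.SetTor Cfsg.Agent.H129.TorusChar Cfsg.Agent.H129.TorusUntw
  Cfsg.Agent.H129.WData Cfsg.Agent.H795.Reduce Cfsg.Agent.H795.LangT
  Cfsg.Agent.BpExc Cfsg.Agent.H210.EL Cfsg.Agent.H440.TD4

/-- multiplication in `ℤ[q]`, `q ^ 2 = s + t q` -/
def pmul (s t : ℤ) (a b : ℤ × ℤ) : ℤ × ℤ := (a.1 * b.1 + s * (a.2 * b.2), a.1 * b.2 + a.2 * b.1 + t * (a.2 * b.2))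

/-- powers in `ℤ[q]` -/
def ppow (s t : ℤ) (a : ℤ × ℤ) : ℕ → ℤ × ℤ
  | 0 => (1, 0)
  | n + 1 => pmul s t (ppow s t a n) a

/-- the norm form -/
def pnorm (s t : ℤ) (a : ℤ × ℤ) : ℤ := a.1 * a.1 + t * (a.1 * a.2) - s * (a.2 * a.2)

/-- the value in `ZMod p` -/
def ev {p : ℕ} (q : ZMod p) (a : ℤ × ℤ) : ZMod p := (a.1 : ZMod p) + (a.2 : ZMod p) * q

/-- the functional with values `ev q (A i)` on the simple roots -/
def evv {l p : ℕ} (q : ZMod p) (A : Fin l → ℤ × ℤ) : Fin l → ZMod p := fun i => ev q (A i)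

/-- the value in `ℤ[q]` of the functional -/
def plin {l : ℕ} (A : Fin l → ℤ × ℤ) (x : Fin l → ℤ) : ℤ × ℤ := (∑ n, x n * (A n).1, ∑ n, x n * (A n).2)

section ring

variable {p : ℕ} {q : ZMod p} {s t : ℤ}

theorem ev_zero : ev q (0, 0) = 0 := by
  unfold ev
  push_cast
  ring

theorem ev_one : ev q (1, 0) = 1 := by
  unfold ev
  push_cast
  ring

theorem ev_int (n : ℤ) : ev q (n, 0) = n := by
  unfold ev
  push_cast
  ring

theorem ev_add (a b : ℤ × ℤ) : ev q (a + b) = ev q a + ev q b := by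
  unfold ev
  rw [Prod.fst_add, Prod.snd_add]
  push_cast
  ring

theorem ev_sum {ι : Type*} (S : Finset ι) (f : ι → ℤ × ℤ) : ev q (∑ i ∈ S, f i) = ∑ i ∈ S, ev q (f i) := by
  classical
  induction S using Finset.induction_on with
  | empty => rw [Finset.sum_empty, Finset.sum_empty]; exact ev_zero
  | insert i S hi ih => rw [Finset.sum_insert hi, Finset.sum_insert hi, ev_add, ih]

theorem ev_mul (hq : q ^ 2 = s + t * q) (a b : ℤ × ℤ) : ev q (pmul s t a b) = ev q a * ev q b := by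
  unfold ev pmul
  push_cast
  linear_combination (-(a.2 : ZMod p) * b.2) * hq

theorem ev_pow (hq : q ^ 2 = s + t * q) (a : ℤ × ℤ) (n : ℕ) : ev q (ppow s t a n) = ev q a ^ n := by
  induction n with
  | zero => rw [pow_zero]; exact ev_one
  | succ n ih =>
    rw [pow_succ, ← ih]
    exact ev_mul hq _ _

theorem ev_norm (hq : q ^ 2 = s + t * q) (a : ℤ × ℤ) :
    ev q a * ((a.1 : ZMod p) + a.2 * (t - q)) = ((pnorm s t a : ℤ) : ZMod p) := by
  unfold ev pnorm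
  push_cast
  linear_combination (-(a.2 : ZMod p) * a.2) * hq

/-- a value of small norm is not zero -/
theorem ev_ne_zero (hq : q ^ 2 = s + t * q) {a : ℤ × ℤ} (h1 : 1 ≤ pnorm s t a) (h2 : pnorm s t a < p) :
    ev q a ≠ 0 := by
  intro h
  have h3 := ev_norm hq a
  rw [h, zero_mul] at h3
  have h4 := (ZMod.intCast_zmod_eq_zero_iff_dvd _ _).1 h3.symm
  have h5 := Int.le_of_dvd (by omega) h4
  omega

theorem lam_evv {l : ℕ} (A : Fin l → ℤ × ℤ) (x : Fin l → ℤ) : lam (evv q A) x = ev q (plin A x) := by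
  unfold lam evv plin ev
  push_cast
  rw [Finset.sum_mul, ← Finset.sum_add_distrib]
  refine Finset.sum_congr rfl fun n _ => ?_
  ring

end ring

variable {D : ChevalleyDatum} {l : ℕ} {M : CoxeterMatrix (Fin l)} (hp : IsType D l M) {p Q : ℕ}

/-- a functional in the eigenspace -/
theorem mem_Lam {g : (Fin l → ℤ) ≃+ (Fin l → ℤ)} {w : M.Group} {Th : Mat l} {q : ZMod p} {s t : ℤ}
    (hTh : ∀ j, rep M.toCoxeterSystem hp.isCartan w (g (sr j)) = Th j) (hQ : (Q : ZMod p) = q)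
    (hq : q ^ 2 = s + t * q) {A : Fin l → ℤ × ℤ} (hA : ∀ j, plin A (Th j) = pmul s t (0, 1) (A j)) :
    evv q A ∈ Lam hp p Q g w := by
  intro x
  have h1 := ext_sr ((lamHom (evv q A)).comp
      ((rep M.toCoxeterSystem hp.isCartan w).toAddMonoidHom.comp g.toAddMonoidHom))
    ((AddMonoidHom.mulLeft (Q : ZMod p)).comp (lamHom (evv q A))) (fun j => by
      show lam (evv q A) (rep M.toCoxeterSystem hp.isCartan w (g (sr j))) = (Q : ZMod p) * lam (evv q A) (sr j)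
      rw [hTh, lam_evv, hA, ev_mul hq, lam_sr, hQ]
      congr 1
      unfold ev
      push_cast
      ring) x
  exact h1

/-- Conjugate functionals have the same root values. -/
theorem sum_roots {c c' : Fin l → ZMod p} {w' : M.Group}
    (h : ∀ x, lam c' (rep M.toCoxeterSystem hp.isCartan w' x) = lam c x) {N : Type*} [AddCommMonoid N]
    (F : ZMod p → N) : ∑ r : Fin D.nroots, F (lam c' (vec D l r)) = ∑ r : Fin D.nroots, F (lam c (vec D l r)) := by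
  have h1 : ∀ r : Fin D.nroots, ∃ s : Fin D.nroots,
      vec D l s = rep M.toCoxeterSystem hp.isCartan w' (vec D l r) := by
    intro r
    obtain ⟨s, hs, e⟩ := (isRoot_iff hp M.toCoxeterSystem _).1 ((isRoot_vec hp M.toCoxeterSystem r.2).act w')
    exact ⟨⟨s, hs⟩, e⟩
  choose f hf using h1
  have hinj : Function.Injective f := by
    intro r s hrs
    have h2 : rep M.toCoxeterSystem hp.isCartan w' (vec D l r) = rep M.toCoxeterSystem hp.isCartan w' (vec D l s) := by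
      rw [← hf, ← hf, hrs]
    have h3 := congrArg (rep M.toCoxeterSystem hp.isCartan w'⁻¹) h2
    rw [← rep_mul_apply, ← rep_mul_apply, inv_mul_cancel, map_one, Module.End.one_apply, Module.End.one_apply] at h3
    exact Fin.ext (vec_inj hp r.2 s.2 h3)
  have hbij := (Finite.injective_iff_bijective).1 hinj
  rw [← Equiv.sum_comp (Equiv.ofBijective f hbij)]
  refine Finset.sum_congr rfl fun r _ => ?_
  rw [← h (vec D l r), ← hf]
  rfl

/-- the power sum of the root values in `ℤ[q]` -/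
def psum (D : ChevalleyDatum) (l : ℕ) (s t : ℤ) (A : Fin l → ℤ × ℤ) (k : ℕ) : ℤ × ℤ :=
  ∑ r : Fin D.nroots, ppow s t (plin A (vec D l r)) k

theorem sum_pow {q : ZMod p} {s t : ℤ} (hq : q ^ 2 = s + t * q) (A : Fin l → ℤ × ℤ) (k : ℕ) :
    ∑ r : Fin D.nroots, lam (evv q A) (vec D l r) ^ k = ev q (psum D l s t A k) := by
  unfold psum
  rw [ev_sum]
  refine Finset.sum_congr rfl fun r _ => ?_
  rw [lam_evv, ev_pow hq]

theorem lam_mul {l : ℕ} (i : ZMod p) (a : Fin l → ZMod p) (x : Fin l → ℤ) :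
    lam (i • a) x = i * lam a x := lam_smul' i a x

/-- the number of the roots with value zero in `ℤ[q]` -/
def zc (D : ChevalleyDatum) (l : ℕ) (A : Fin l → ℤ × ℤ) : ℕ :=
  ∑ r : Fin D.nroots, if plin A (vec D l r) = (0, 0) then 1 else 0

/-- the nonzero root values have norms between `1` and `10` -/
def Sml (D : ChevalleyDatum) (l : ℕ) (s t : ℤ) (A : Fin l → ℤ × ℤ) : Prop :=
  ∀ r : Fin D.nroots, plin A (vec D l r) = (0, 0) ∨
    (1 ≤ pnorm s t (plin A (vec D l r)) ∧ pnorm s t (plin A (vec D l r)) ≤ 10)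

instance (D : ChevalleyDatum) (l : ℕ) (s t : ℤ) (A : Fin l → ℤ × ℤ) : Decidable (Sml D l s t A) := by
  unfold Sml; infer_instance

theorem sum_zero {q : ZMod p} {s t : ℤ} (hq : q ^ 2 = s + t * q) (h11 : 11 ≤ p) {A : Fin l → ℤ × ℤ}
    (h : Sml D l s t A) :
    ∑ r : Fin D.nroots, (if lam (evv q A) (vec D l r) = 0 then 1 else 0 : ℕ) = zc D l A := by
  unfold zc
  refine Finset.sum_congr rfl fun r _ => ?_
  rw [lam_evv]
  rcases h r with h1 | ⟨h1, h2⟩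
  · rw [h1, ev_zero, if_pos rfl, if_pos rfl]
  · rw [if_neg (ev_ne_zero hq h1 (by omega)), if_neg]
    intro h3
    rw [h3] at h1
    unfold pnorm at h1
    simp at h1

/-- lines with different numbers of zeros are not conjugate -/
theorem zc_eq [hpp : Fact p.Prime] {q : ZMod p} {s t : ℤ} (hq : q ^ 2 = s + t * q) (h11 : 11 ≤ p) {A B : Fin l → ℤ × ℤ}
    (hA : Sml D l s t A) (hB : Sml D l s t B) {i : ZMod p} (hi : i ≠ 0) {w' : M.Group}
    (h : ∀ x, lam (i • evv q B) (rep M.toCoxeterSystem hp.isCartan w' x) = lam (evv q A) x) :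
    zc D l A = zc D l B := by
  rw [← sum_zero hq h11 hA, ← sum_zero hq h11 hB, ← sum_roots hp h (fun z => (if z = 0 then 1 else 0 : ℕ))]
  refine Finset.sum_congr rfl fun r _ => ?_
  rw [lam_mul]
  simp only [mul_eq_zero, hi, false_or]

/-- the power sum restricts the scalars -/
theorem pow_mul_sum {q : ZMod p} {s t : ℤ} (hq : q ^ 2 = s + t * q) {A : Fin l → ℤ × ℤ} {i : ZMod p} {w' : M.Group}
    (h : ∀ x, lam (i • evv q A) (rep M.toCoxeterSystem hp.isCartan w' x) = lam (evv q A) x) (k : ℕ) :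
    i ^ k * ev q (psum D l s t A k) = ev q (psum D l s t A k) := by
  have h1 := sum_roots hp h (fun z => z ^ k)
  rw [sum_pow hq] at h1
  refine Eq.trans ?_ h1
  rw [← sum_pow hq, Finset.mul_sum]
  refine Finset.sum_congr rfl fun r _ => ?_
  rw [lam_mul, mul_pow]

theorem pow_eq_one_of_psum [hpp : Fact p.Prime] {q : ZMod p} {s t : ℤ} (hq : q ^ 2 = s + t * q) {A : Fin l → ℤ × ℤ} {i : ZMod p} {w' : M.Group}
    (h : ∀ x, lam (i • evv q A) (rep M.toCoxeterSystem hp.isCartan w' x) = lam (evv q A) x) (k : ℕ) {n : ℤ}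
    (hn : psum D l s t A k = (n, 0)) (hnp : (n : ZMod p) ≠ 0) : i ^ k = 1 := by
  have h1 := pow_mul_sum hp hq h k
  rw [hn, ev_int] at h1
  exact mul_right_cancel₀ hnp (h1.trans (one_mul _).symm)

end Cfsg.Agent.H936.KE
end

-- part: H936/KE/TE6Data
section
/-!
# The eigenspaces of `w ρ` for `²E₆(q)`, order of `q` modulo `p` equal to 3, 4, 6 (S4822, KE7; helper936)

`ch` a chain for `w`, `Th` the matrix of `w ρ` (`ρ` the graph automorphism), `vA`, `vB` eigenvectors with eigenvalue `q`.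
-/

set_option autoImplicit false
set_option linter.unusedSectionVars false
set_option maxRecDepth 100000
set_option maxHeartbeats 4000000

namespace Cfsg.Agent.H936.KE.TE6

open Cfsg Cfsg.Lie Cfsg.Lie.ChevalleyDatum
open Cfsg.Agent.ChevalleyStructure.CoxeterGeomTypes Cfsg.Agent.Nodes.RGDChev Cfsg.Agent.H129.WData
  Cfsg.Agent.H720.TwFr

/-- the Cartan matrix -/
def Am : Mat 6 := ![![2, 0, -1, 0, 0, 0], ![0, 2, 0, -1, 0, 0], ![-1, 0, 2, -1, 0, 0], ![0, -1, -1, 2, -1, 0], ![0, 0, 0, -1, 2, -1], ![0, 0, 0, 0, -1, 2]]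


/-- the chain of the element of the Weyl group, order `3` -/
def ch3 : List (Fin 6 × Mat 6) := [
    (2, ![![-1, 0, 0, 0, 0, 0], ![0, -1, 0, -1, 0, 0], ![0, -1, -1, -1, -1, 0], ![0, 1, 0, 0, 0, 0], ![0, 0, 0, 1, 1, 0], ![1, 1, 2, 2, 1, 1]]),
    (3, ![![-1, 0, -1, 0, 0, 0], ![0, -1, -1, -1, 0, 0], ![0, -1, 0, -1, -1, 0], ![0, 1, 0, 0, 0, 0], ![0, 0, 1, 1, 1, 0], ![1, 1, 1, 2, 1, 1]]),
    (0, ![![-1, 0, -1, -1, 0, 0], ![0, -1, -1, -1, 0, 0], ![0, -1, 0, -1, -1, 0], ![0, 1, 0, 1, 0, 0], ![0, 0, 1, 1, 1, 0], ![1, 1, 1, 1, 1, 1]]),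
    (2, ![![0, 0, -1, -1, 0, 0], ![-1, -1, -1, -1, 0, 0], ![0, -1, 0, -1, -1, 0], ![0, 1, 0, 1, 0, 0], ![1, 0, 1, 1, 1, 0], ![0, 1, 1, 1, 1, 1]]),
    (1, ![![0, 0, 0, -1, 0, 0], ![-1, -1, -1, -1, 0, 0], ![0, -1, -1, -1, -1, 0], ![0, 1, 1, 1, 0, 0], ![1, 0, 1, 1, 1, 0], ![0, 1, 0, 1, 1, 1]]),
    (3, ![![0, -1, 0, -1, 0, 0], ![-1, 0, -1, -1, 0, 0], ![0, 0, -1, -1, -1, 0], ![0, 0, 1, 1, 0, 0], ![1, 1, 1, 1, 1, 0], ![0, 0, 0, 1, 1, 1]]),
    (4, ![![0, -1, 0, 0, 0, 0], ![-1, 0, -1, 0, 0, 0], ![0, 0, -1, -1, -1, 0], ![0, 0, 1, 0, 0, 0], ![1, 1, 1, 2, 1, 0], ![0, 0, 0, 0, 1, 1]]),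
    (3, ![![0, -1, 0, 0, 0, 0], ![-1, 0, -1, 0, 0, 0], ![0, 0, -1, -1, 0, 0], ![0, 0, 1, 0, 0, 0], ![1, 1, 1, 2, 1, 0], ![0, 0, 0, 0, 0, 1]]),
    (0, ![![0, -1, 0, -1, 0, 0], ![-1, 0, -1, -1, 0, 0], ![0, 0, -1, 0, 0, 0], ![0, 0, 1, 1, 0, 0], ![1, 1, 1, 1, 1, 0], ![0, 0, 0, 0, 0, 1]]),
    (2, ![![0, -1, 0, -1, 0, 0], ![0, 0, -1, -1, 0, 0], ![-1, 0, -1, 0, 0, 0], ![1, 0, 1, 1, 0, 0], ![0, 1, 1, 1, 1, 0], ![0, 0, 0, 0, 0, 1]]),
    (1, ![![0, -1, -1, -1, 0, 0], ![0, 0, 0, -1, 0, 0], ![-1, 0, 0, 0, 0, 0], ![1, 0, 1, 1, 0, 0], ![0, 1, 0, 1, 1, 0], ![0, 0, 0, 0, 0, 1]]),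
    (3, ![![0, 0, -1, -1, 0, 0], ![0, -1, 0, -1, 0, 0], ![-1, 0, 0, 0, 0, 0], ![1, 1, 1, 1, 0, 0], ![0, 0, 0, 1, 1, 0], ![0, 0, 0, 0, 0, 1]]),
    (0, ![![0, 0, -1, 0, 0, 0], ![0, -1, 0, 0, 0, 0], ![-1, 0, 0, 0, 0, 0], ![1, 1, 1, 1, 0, 0], ![0, 0, 0, 0, 1, 0], ![0, 0, 0, 0, 0, 1]]),
    (2, ![![-1, 0, -1, 0, 0, 0], ![0, -1, 0, 0, 0, 0], ![1, 0, 0, 0, 0, 0], ![0, 1, 1, 1, 0, 0], ![0, 0, 0, 0, 1, 0], ![0, 0, 0, 0, 0, 1]]),
    (1, ![![-1, 0, 0, 0, 0, 0], ![0, -1, 0, 0, 0, 0], ![1, 0, 1, 0, 0, 0], ![0, 1, 0, 1, 0, 0], ![0, 0, 0, 0, 1, 0], ![0, 0, 0, 0, 0, 1]]),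
    (0, ![![-1, 0, 0, 0, 0, 0], ![0, 1, 0, 0, 0, 0], ![1, 0, 1, 0, 0, 0], ![0, 0, 0, 1, 0, 0], ![0, 0, 0, 0, 1, 0], ![0, 0, 0, 0, 0, 1]])]

/-- the matrix of the lattice automorphism -/
def Th3 : Mat 6 := ![![1, 1, 2, 2, 1, 1], ![0, -1, 0, -1, 0, 0], ![0, 0, 0, 1, 1, 0], ![0, 1, 0, 0, 0, 0], ![0, -1, -1, -1, -1, 0], ![-1, 0, 0, 0, 0, 0]]

/-- an eigenvector -/
def v3A : Fin 6 → ℤ × ℤ := ![(0, -1), (-1, -1), (1, 1), (0, 1), (-1, -1), (1, 0)]

/-- an eigenvector -/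
def v3B : Fin 6 → ℤ × ℤ := ![(0, -1), (0, -2), (2, 2), (-2, 0), (0, 0), (1, 0)]

/-- the chain of the element of the Weyl group, order `4` -/
def ch4 : List (Fin 6 × Mat 6) := [
    (0, ![![0, 0, -1, -1, -1, -1], ![-1, -1, -1, -2, -1, -1], ![-1, -1, -1, -1, -1, 0], ![1, 1, 1, 1, 1, 1], ![0, 0, 0, 1, 1, 0], ![0, 1, 1, 1, 0, 0]]),
    (2, ![![-1, 0, -1, -1, -1, -1], ![0, -1, -1, -2, -1, -1], ![0, -1, -1, -1, -1, 0], ![0, 1, 1, 1, 1, 1], ![0, 0, 0, 1, 1, 0], ![1, 1, 1, 1, 0, 0]]),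
    (3, ![![-1, 0, -1, -1, -1, -1], ![0, -1, -1, -2, -1, -1], ![0, -1, 0, -1, -1, 0], ![0, 1, 0, 1, 1, 1], ![0, 0, 1, 1, 1, 0], ![1, 1, 1, 1, 0, 0]]),
    (4, ![![-1, 0, -1, -1, -1, -1], ![0, -1, -1, -1, -1, -1], ![0, -1, 0, -1, -1, 0], ![0, 1, 0, 1, 1, 1], ![0, 0, 1, 1, 1, 0], ![1, 1, 1, 1, 0, 0]]),
    (5, ![![-1, 0, -1, -1, -1, -1], ![0, -1, -1, -1, -1, -1], ![0, -1, 0, -1, 0, 0], ![0, 1, 0, 1, 1, 1], ![0, 0, 1, 1, 0, 0], ![1, 1, 1, 1, 1, 0]]),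
    (0, ![![-1, 0, -1, -1, -1, 0], ![0, -1, -1, -1, -1, 0], ![0, -1, 0, -1, 0, 0], ![0, 1, 0, 1, 1, 0], ![0, 0, 1, 1, 0, 0], ![1, 1, 1, 1, 1, 1]]),
    (2, ![![0, 0, -1, -1, -1, 0], ![-1, -1, -1, -1, -1, 0], ![0, -1, 0, -1, 0, 0], ![0, 1, 0, 1, 1, 0], ![1, 0, 1, 1, 0, 0], ![0, 1, 1, 1, 1, 1]]),
    (1, ![![0, 0, 0, -1, -1, 0], ![-1, -1, -1, -1, -1, 0], ![0, -1, -1, -1, 0, 0], ![0, 1, 1, 1, 1, 0], ![1, 0, 1, 1, 0, 0], ![0, 1, 0, 1, 1, 1]]),
    (3, ![![0, -1, 0, -1, -1, 0], ![-1, 0, -1, -1, -1, 0], ![0, 0, -1, -1, 0, 0], ![0, 0, 1, 1, 1, 0], ![1, 1, 1, 1, 0, 0], ![0, 0, 0, 1, 1, 1]]),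
    (4, ![![0, -1, 0, -1, -1, 0], ![-1, 0, -1, -1, -1, 0], ![0, 0, -1, 0, 0, 0], ![0, 0, 1, 1, 1, 0], ![1, 1, 1, 1, 0, 0], ![0, 0, 0, 0, 1, 1]]),
    (0, ![![0, -1, 0, -1, 0, 0], ![-1, 0, -1, -1, 0, 0], ![0, 0, -1, 0, 0, 0], ![0, 0, 1, 1, 0, 0], ![1, 1, 1, 1, 1, 0], ![0, 0, 0, 0, 0, 1]]),
    (2, ![![0, -1, 0, -1, 0, 0], ![0, 0, -1, -1, 0, 0], ![-1, 0, -1, 0, 0, 0], ![1, 0, 1, 1, 0, 0], ![0, 1, 1, 1, 1, 0], ![0, 0, 0, 0, 0, 1]]),
    (1, ![![0, -1, -1, -1, 0, 0], ![0, 0, 0, -1, 0, 0], ![-1, 0, 0, 0, 0, 0], ![1, 0, 1, 1, 0, 0], ![0, 1, 0, 1, 1, 0], ![0, 0, 0, 0, 0, 1]]),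
    (3, ![![0, 0, -1, -1, 0, 0], ![0, -1, 0, -1, 0, 0], ![-1, 0, 0, 0, 0, 0], ![1, 1, 1, 1, 0, 0], ![0, 0, 0, 1, 1, 0], ![0, 0, 0, 0, 0, 1]]),
    (0, ![![0, 0, -1, 0, 0, 0], ![0, -1, 0, 0, 0, 0], ![-1, 0, 0, 0, 0, 0], ![1, 1, 1, 1, 0, 0], ![0, 0, 0, 0, 1, 0], ![0, 0, 0, 0, 0, 1]]),
    (2, ![![-1, 0, -1, 0, 0, 0], ![0, -1, 0, 0, 0, 0], ![1, 0, 0, 0, 0, 0], ![0, 1, 1, 1, 0, 0], ![0, 0, 0, 0, 1, 0], ![0, 0, 0, 0, 0, 1]]),
    (1, ![![-1, 0, 0, 0, 0, 0], ![0, -1, 0, 0, 0, 0], ![1, 0, 1, 0, 0, 0], ![0, 1, 0, 1, 0, 0], ![0, 0, 0, 0, 1, 0], ![0, 0, 0, 0, 0, 1]]),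
    (0, ![![-1, 0, 0, 0, 0, 0], ![0, 1, 0, 0, 0, 0], ![1, 0, 1, 0, 0, 0], ![0, 0, 0, 1, 0, 0], ![0, 0, 0, 0, 1, 0], ![0, 0, 0, 0, 0, 1]])]

/-- the matrix of the lattice automorphism -/
def Th4 : Mat 6 := ![![0, 1, 1, 1, 0, 0], ![-1, -1, -1, -2, -1, -1], ![0, 0, 0, 1, 1, 0], ![1, 1, 1, 1, 1, 1], ![-1, -1, -1, -1, -1, 0], ![0, 0, -1, -1, -1, -1]]

/-- an eigenvector -/
def v4A : Fin 6 → ℤ × ℤ := ![(-1, 0), (1, -1), (0, 0), (-1, 0), (1, 0), (0, 0)]

/-- an eigenvector -/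
def v4B : Fin 6 → ℤ × ℤ := ![(-1, 0), (2, 0), (-1, 0), (-1, -1), (1, 0), (1, 0)]

/-- the chain of the element of the Weyl group, order `6` -/
def ch6 : List (Fin 6 × Mat 6) := [
    (0, ![![-1, -1, -1, -1, -1, 0], ![0, 0, -1, -1, -1, 0], ![0, 0, 0, -1, 0, 0], ![0, 0, 0, 1, 1, 0], ![0, 1, 1, 1, 0, 0], ![1, 0, 1, 1, 1, 1]]),
    (2, ![![0, -1, -1, -1, -1, 0], ![-1, 0, -1, -1, -1, 0], ![0, 0, 0, -1, 0, 0], ![0, 0, 0, 1, 1, 0], ![1, 1, 1, 1, 0, 0], ![0, 0, 1, 1, 1, 1]]),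
    (3, ![![0, -1, 0, -1, -1, 0], ![-1, 0, -1, -1, -1, 0], ![0, 0, -1, -1, 0, 0], ![0, 0, 1, 1, 1, 0], ![1, 1, 1, 1, 0, 0], ![0, 0, 0, 1, 1, 1]]),
    (4, ![![0, -1, 0, -1, -1, 0], ![-1, 0, -1, -1, -1, 0], ![0, 0, -1, 0, 0, 0], ![0, 0, 1, 1, 1, 0], ![1, 1, 1, 1, 0, 0], ![0, 0, 0, 0, 1, 1]]),
    (0, ![![0, -1, 0, -1, 0, 0], ![-1, 0, -1, -1, 0, 0], ![0, 0, -1, 0, 0, 0], ![0, 0, 1, 1, 0, 0], ![1, 1, 1, 1, 1, 0], ![0, 0, 0, 0, 0, 1]]),
    (2, ![![0, -1, 0, -1, 0, 0], ![0, 0, -1, -1, 0, 0], ![-1, 0, -1, 0, 0, 0], ![1, 0, 1, 1, 0, 0], ![0, 1, 1, 1, 1, 0], ![0, 0, 0, 0, 0, 1]]),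
    (1, ![![0, -1, -1, -1, 0, 0], ![0, 0, 0, -1, 0, 0], ![-1, 0, 0, 0, 0, 0], ![1, 0, 1, 1, 0, 0], ![0, 1, 0, 1, 1, 0], ![0, 0, 0, 0, 0, 1]]),
    (3, ![![0, 0, -1, -1, 0, 0], ![0, -1, 0, -1, 0, 0], ![-1, 0, 0, 0, 0, 0], ![1, 1, 1, 1, 0, 0], ![0, 0, 0, 1, 1, 0], ![0, 0, 0, 0, 0, 1]]),
    (0, ![![0, 0, -1, 0, 0, 0], ![0, -1, 0, 0, 0, 0], ![-1, 0, 0, 0, 0, 0], ![1, 1, 1, 1, 0, 0], ![0, 0, 0, 0, 1, 0], ![0, 0, 0, 0, 0, 1]]),
    (2, ![![-1, 0, -1, 0, 0, 0], ![0, -1, 0, 0, 0, 0], ![1, 0, 0, 0, 0, 0], ![0, 1, 1, 1, 0, 0], ![0, 0, 0, 0, 1, 0], ![0, 0, 0, 0, 0, 1]]),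
    (1, ![![-1, 0, 0, 0, 0, 0], ![0, -1, 0, 0, 0, 0], ![1, 0, 1, 0, 0, 0], ![0, 1, 0, 1, 0, 0], ![0, 0, 0, 0, 1, 0], ![0, 0, 0, 0, 0, 1]]),
    (0, ![![-1, 0, 0, 0, 0, 0], ![0, 1, 0, 0, 0, 0], ![1, 0, 1, 0, 0, 0], ![0, 0, 0, 1, 0, 0], ![0, 0, 0, 0, 1, 0], ![0, 0, 0, 0, 0, 1]])]

/-- the matrix of the lattice automorphism -/
def Th6 : Mat 6 := ![![1, 0, 1, 1, 1, 1], ![0, 0, -1, -1, -1, 0], ![0, 1, 1, 1, 0, 0], ![0, 0, 0, 1, 1, 0], ![0, 0, 0, -1, 0, 0], ![-1, -1, -1, -1, -1, 0]]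

/-- an eigenvector -/
def v6A : Fin 6 → ℤ × ℤ := ![(0, -1), (-1, 1), (1, 0), (0, 0), (0, 0), (0, 0)]

/-- an eigenvector -/
def v6B : Fin 6 → ℤ × ℤ := ![(-1, 0), (0, 1), (0, 0), (0, -1), (1, 0), (0, 0)]


theorem hA : ∀ i j, Am i j = cartanOf chevE6 6 i j := by decide +kernel
theorem ch3_ok : ChainOK Am ch3 :=
  H129.ChainF.ok H129.ChainF.i6 H129.ChainF.m6 (H129.ChainF.c6 <| H129.ChainF.c6 <| H129.ChainF.c6 <| H129.ChainF.c6 <| H129.ChainF.c6 <| H129.ChainF.c6 <| H129.ChainF.c6 <| H129.ChainF.c6 <| H129.ChainF.c6 <| H129.ChainF.c6 <| H129.ChainF.c6 <| H129.ChainF.c6 <| H129.ChainF.c6 <| H129.ChainF.c6 <| H129.ChainF.c6 <| H129.ChainF.c6 <| H129.ChainF.nil) (by decide +kernel)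
theorem th3_eq : ∀ j, hd ch3 (rho6 j) = Th3 j := by decide +kernel
theorem e3A : ∀ j, plin v3A (Th3 j) = pmul (-1) (-1) (0, 1) (v3A j) := by decide +kernel
theorem m3A : Sml chevE6 6 (-1) (-1) v3A := by decide +kernel
theorem e3B : ∀ j, plin v3B (Th3 j) = pmul (-1) (-1) (0, 1) (v3B j) := by decide +kernel
theorem m3B : Sml chevE6 6 (-1) (-1) v3B := by decide +kernel
theorem ch4_ok : ChainOK Am ch4 :=
  H129.ChainF.ok H129.ChainF.i6 H129.ChainF.m6 (H129.ChainF.c6 <| H129.ChainF.c6 <| H129.ChainF.c6 <| H129.ChainF.c6 <| H129.ChainF.c6 <| H129.ChainF.c6 <| H129.ChainF.c6 <| H129.ChainF.c6 <| H129.ChainF.c6 <| H129.ChainF.c6 <| H129.ChainF.c6 <| H129.ChainF.c6 <| H129.ChainF.c6 <| H129.ChainF.c6 <| H129.ChainF.c6 <| H129.ChainF.c6 <| H129.ChainF.c6 <| H129.ChainF.c6 <| H129.ChainF.nil) (by decide +kernel)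
theorem th4_eq : ∀ j, hd ch4 (rho6 j) = Th4 j := by decide +kernel
theorem e4A : ∀ j, plin v4A (Th4 j) = pmul (-1) 0 (0, 1) (v4A j) := by decide +kernel
theorem m4A : Sml chevE6 6 (-1) 0 v4A := by decide +kernel
theorem e4B : ∀ j, plin v4B (Th4 j) = pmul (-1) 0 (0, 1) (v4B j) := by decide +kernel
theorem m4B : Sml chevE6 6 (-1) 0 v4B := by decide +kernel
theorem ch6_ok : ChainOK Am ch6 :=
  H129.ChainF.ok H129.ChainF.i6 H129.ChainF.m6 (H129.ChainF.c6 <| H129.ChainF.c6 <| H129.ChainF.c6 <| H129.ChainF.c6 <| H129.ChainF.c6 <| H129.ChainF.c6 <| H129.ChainF.c6 <| H129.ChainF.c6 <| H129.ChainF.c6 <| H129.ChainF.c6 <| H129.ChainF.c6 <| H129.ChainF.c6 <| H129.ChainF.nil) (by decide +kernel)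
theorem th6_eq : ∀ j, hd ch6 (rho6 j) = Th6 j := by decide +kernel
theorem e6A : ∀ j, plin v6A (Th6 j) = pmul (-1) 1 (0, 1) (v6A j) := by decide +kernel
theorem m6A : Sml chevE6 6 (-1) 1 v6A := by decide +kernel
theorem e6B : ∀ j, plin v6B (Th6 j) = pmul (-1) 1 (0, 1) (v6B j) := by decide +kernel
theorem m6B : Sml chevE6 6 (-1) 1 v6B := by decide +kernel
theorem z3A : zc chevE6 6 v3A = 12 := by decide +kernel
theorem z3B : zc chevE6 6 v3B = 6 := by decide +kernel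
theorem z4A : zc chevE6 6 v4A = 12 := by decide +kernel
theorem z4B : zc chevE6 6 v4B = 0 := by decide +kernel
theorem z6A : zc chevE6 6 v6A = 24 := by decide +kernel
theorem z6B : zc chevE6 6 v6B = 12 := by decide +kernel
theorem s3A_6 : psum chevE6 6 (-1) (-1) v3A 6 = (-108, 0) := by decide +kernel
theorem s3B_6 : psum chevE6 6 (-1) (-1) v3B 6 = (864, 0) := by decide +kernel
theorem s4A_8 : psum chevE6 6 (-1) 0 v4A 8 = (1440, 0) := by decide +kernel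
theorem s4A_12 : psum chevE6 6 (-1) 0 v4A 12 = (14880, 0) := by decide +kernel
theorem s6A_6 : psum chevE6 6 (-1) 1 v6A 6 = (48, 0) := by decide +kernel
theorem s6B_6 : psum chevE6 6 (-1) 1 v6B 6 = (-108, 0) := by decide +kernel

theorem root_a : ∃ r : Fin chevE6.nroots, vec chevE6 6 r = ![0, 0, 0, 1, 1, 1] := by decide +kernel
theorem root_2 : ∃ r : Fin chevE6.nroots, vec chevE6 6 r = ![0, 0, 1, 0, 0, 0] := by decide +kernel
theorem root_4 : ∃ r : Fin chevE6.nroots, vec chevE6 6 r = ![0, 0, 0, 0, 1, 0] := by decide +kernel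
theorem root_5 : ∃ r : Fin chevE6.nroots, vec chevE6 6 r = ![0, 0, 0, 0, 0, 1] := by decide +kernel
theorem nr : chevE6.nroots = 72 := by decide +kernel

end Cfsg.Agent.H936.KE.TE6
end
end

-- part: H299/AO/Six_mg
section
prune_inst 0x4215074650062120000042084d1201ea6970004b000088c00cc2502440e800c0a088088602530310542e8a085003d0060031000f04040000004000400011d01a08881160270d1ac0c96009e000180000000000000000000000000000000000004000000000
set_option linter.all false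
open scoped Cfsg.Agent.FastGrp

-- part: H299/AO/Six
section
/-!
# S4822, AO7: `AbOut` for `²E₆(q)`, `p ≥ 7`

Commutators of automorphisms are inner-diagonal, and the inner-diagonal automorphisms act on the (toral) Sylow
`p`-subgroups as inner automorphisms.
-/

set_option autoImplicit false
set_option linter.unusedSectionVars false
set_option maxHeartbeats 400000

namespace Cfsg.Agent.H299.AO

open CoxeterSystem Cfsg Cfsg.Lie Cfsg.Lie.ChevalleyDatum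
open Cfsg.Agent.ChevalleyStructure Cfsg.Agent.ChevalleyStructure.Elts Cfsg.Agent.ChevalleyStructure.CoxeterGeom
  Cfsg.Agent.ChevalleyStructure.CoxeterGeomTypes Cfsg.Agent.ChevalleyStructure.NPerm
open Cfsg.Agent.Tits.Roots Cfsg.Agent.Tits.Core Cfsg.Agent.Nodes Cfsg.Agent.Nodes.Reps Cfsg.Agent.Nodes.BNOf
  Cfsg.Agent.Nodes.RGDChev Cfsg.Agent.Nodes.Bruhat
open Cfsg.Agent.KFacts.RgdField Cfsg.Agent.KFacts.RgdChevCoord Cfsg.Agent.BpExc.TorCent Cfsg.Agent.BpExc.TorChev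
open Cfsg.Agent.GpExc.Field Cfsg.Agent.BpExc.Tow Cfsg.Agent.BpExc.TowChev Cfsg.Agent.BpExc.Fr
  Cfsg.Agent.BpExc.LangFr Cfsg.Agent.BpExc Cfsg.Agent.H129.TorusChar
  Cfsg.Agent.H129.StCover Cfsg.Agent.H129.StTw Cfsg.Agent.H129.StTwT
open Cfsg.Agent.ChevalleyStructure.StBasic Cfsg.Agent.ChevalleyStructure.StTheta
open Cfsg.Agent.H795.Reduce Cfsg.Agent.H795.Core Cfsg.Agent.H720.TwFr Cfsg.Agent.BpExc.FamInst
open Cfsg.Agent.KFacts.TwESix.NodeCoord Cfsg.Agent.KFacts.TwESix.Out Cfsg.Agent.KFacts.TwESix.OutTwo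
open Cfsg.Agent.Nodes.RGDTwE6 Cfsg.Agent.Nodes.RGDTwNode.E6

universe u v

theorem sig6_eq_tau {k : Type u} [Field k] [IsAlgClosed k] (r n : ℕ) [Fact r.Prime] [CharP k r] :
    sig6 k r n = Cfsg.Agent.H129.TwE6Fr.tau k r n := by
  ext y : 1
  apply Subtype.ext
  rw [coe_sig6, Cfsg.Agent.H129.TwE6Fr.coe_tau]

section

variable {K : Type u} [Field K] [Fintype K] {q : ℕ} {k : Type u} [Field k] [IsAlgClosed k] (f : K →+* k)
  (r : ℕ) [Fact r.Prime] [CharP k r]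

/-- **Some fixed point centralises a Sylow subgroup and does not lie in `²E₆(q)`, `3 ∣ q + 1`.** -/
theorem exists_cen_six {n : ℕ} (hk : LocFin k) (hn0 : 0 < n) (hn : q = r ^ n) (hK : Fintype.card K = q ^ 2) {p : ℕ}
    [hpp : Fact p.Prime] (hp3 : p ≠ 3) (h3 : 3 ∣ q + 1) (S : Sylow p ↥(twistedE6 K q))
    (htor : ∃ z : ↥(chevE6.group k), ∀ x ∈ (S : Subgroup ↥(twistedE6 K q)), z * em6 q f x * z⁻¹ ∈ TT chevE6 k) :
    ∃ (P : Sylow p ↥(twistedE6 K q)) (y0 : ↥(chevE6.group k)), sig6 k r n y0 = y0 ∧ y0 ∉ (em6 q f).range ∧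
      ∀ x ∈ (P : Subgroup ↥(twistedE6 K q)), y0 * em6 q f x = em6 q f x * y0 := by
  have hrp : r.Prime := Fact.out
  have hq : IsPrimePow q := (isPrimePow_nat_iff _).2 ⟨r, n, hrp, hn0, hn.symm⟩
  have hset := Cfsg.Agent.H795.Tw.setup_six f r hk hn0 hn hK (p := p) hp3
  -- the centre
  have hr3 : ¬ r ∣ 3 := fun h => by
    have h7 : r ∣ r ^ n + 1 := by rw [← hn]; exact h.trans h3
    have h8 : r ∣ 1 := (Nat.dvd_add_right (dvd_pow_self r hn0.ne')).1 h7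
    exact hrp.one_lt.ne' (Nat.dvd_one.1 h8)
  have hdk : ((3 : ℕ) : k) ≠ 0 := by
    rw [Ne, CharP.cast_eq_zero_iff k r]
    exact hr3
  have : NeZero ((3 : ℕ) : k) := ⟨hdk⟩
  obtain ⟨ζ, hζ⟩ := HasEnoughRootsOfUnity.exists_primitiveRoot k 3
  have hζ0 : ζ ≠ 0 := hζ.ne_zero (by norm_num)
  set ω : kˣ := Units.mk0 ζ hζ0 with hω
  have hωd : ω ^ 3 = 1 := Units.ext (by rw [Units.val_pow_eq_pow_val]; exact hζ.pow_eq_one)
  have hω1 : ω ≠ 1 := by
    intro h1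
    have h3 : ζ = 1 := congrArg Units.val h1
    rw [h3] at hζ
    exact absurd (hζ.eq_orderOf.trans orderOf_one) (by norm_num)
  obtain ⟨Φ, hΦ⟩ := Cfsg.Agent.H129.PhiE.isPhi_E6 k
  have hΨ : ∀ b : Fin chevE6.rank → kˣ,
      stSg (iterateFrobenius k r n) (Φ b) = Φ (mAct Pm (fun i => b i ^ q)) := by
    intro b
    rw [stSg_phi hΦ]
    refine congrArg Φ (funext fun i => Units.ext ?_)
    rw [mAct_Pm, Units.val_pow_eq_pow_val, hn]
    exact iterateFrobenius_def _ _ _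
  refine exists_cen hp6 hk hΦ hset (stSg (iterateFrobenius k r n)) (fun x => ?_) hq.two_le hΨ ?_ (fun x => ?_)
    (cen_of hωd) (cen_ne hω1) S htor
  · rw [sig6_eq_tau]
    exact theta_stSg x
  · intro κ hκ
    obtain ⟨a, rfl⟩ := hΦ.center_le hκ
    have h2 := cen_fix h3 ((hΦ.mem_iff a).1 hκ)
    rw [hΨ]
    refine congrArg Φ (funext fun i => ?_)
    rw [mAct_Pm]
    exact h2 i
  · obtain ⟨x', h1, h2⟩ := lift_tw f hn hq hK x
    refine ⟨x', h1, h2.trans (Subtype.ext ?_)⟩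
    rw [Cfsg.Agent.H129.TwE6Fr.coe_embT]
    rfl

/-- **All fixed points act on the toral Sylow subgroups as elements of `²E₆(q)`.** -/
theorem act_six {n : ℕ} (hk : LocFin k) (hn0 : 0 < n) (hn : q = r ^ n) (hK : Fintype.card K = q ^ 2) {p : ℕ}
    [hpp : Fact p.Prime] (hp3 : p ≠ 3) (P : Sylow p ↥(twistedE6 K q))
    (htor : ∃ z : ↥(chevE6.group k), ∀ x ∈ (P : Subgroup ↥(twistedE6 K q)), z * em6 q f x * z⁻¹ ∈ TT chevE6 k)
    {y : ↥(chevE6.group k)} (hy : sig6 k r n y = y) :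
    ∃ s, ∀ x ∈ (P : Subgroup ↥(twistedE6 K q)), y * em6 q f x * y⁻¹ = em6 q f (s * x * s⁻¹) := by
  have hrp : r.Prime := Fact.out
  have hq : IsPrimePow q := (isPrimePow_nat_iff _).2 ⟨r, n, hrp, hn0, hn.symm⟩
  have hset := Cfsg.Agent.H795.Tw.setup_six f r hk hn0 hn hK (p := p) hp3
  have hd := desc6 f r hk hn0 hn hK hy
  by_cases h3 : 3 ∣ q + 1
  swap
  · rw [((Nat.prime_three.coprime_iff_not_dvd).2 h3 : Nat.gcd 3 (q + 1) = 1), pow_one] at hd
    obtain ⟨s, rfl⟩ := hd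
    exact ⟨s, fun x _ => by rw [map_mul, map_mul, map_inv]⟩
  obtain ⟨P', y0, h1, h2, h3'⟩ := exists_cen_six f r hk hn0 hn hK hp3 h3 P htor
  refine act_inner hset.fix (p := p) (fun y hy => ?_) P' h3' P hy
  have cs := CoxeterMatrix.E₆.toCoxeterSystem
  have hφ : ∀ t : k, iterateFrobenius k r n t = t ^ q := fun t => by rw [iterateFrobenius_def, hn]
  obtain ⟨hfin, hdvd⟩ := card_fixT hp6 cs hn0 (isFrob_sig6 (k := k) r n) (fr_sig6 hk r hp6 cs n) (m := 4)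
    ![1, 3, 0, 2] ![1, 1, 2, 2] (by decide) (by
      intro a
      fin_cases a <;> · funext i; fin_cases i <;> rfl) (by
      intro i
      fin_cases i
      · exact ⟨2, 0, rfl⟩
      · exact ⟨0, 0, rfl⟩
      · exact ⟨3, 0, rfl⟩
      · exact ⟨1, 0, rfl⟩
      · exact ⟨3, 1, by funext i; fin_cases i <;> rfl⟩
      · exact ⟨2, 1, by funext i; fin_cases i <;> rfl⟩)
  rw [← hn] at hdvd
  have hcard := Cfsg.Agent.S1102.result (K := K) hq hK
  have hprod : ∏ a : Fin 4, (q ^ (![1, 1, 2, 2] : Fin 4 → ℕ) a - 1) = (q - 1) ^ 4 * (q + 1) ^ 2 := by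
    rw [Fin.prod_univ_four]
    show (q ^ 1 - 1) * (q ^ 1 - 1) * (q ^ 2 - 1) * (q ^ 2 - 1) = _
    have h1 : q ^ 2 - 1 = (q - 1) * (q + 1) := by
      have := Nat.sq_sub_sq q 1
      rw [one_pow] at this
      rw [this, mul_comm]
    rw [h1, pow_one]
    ring
  rw [hprod] at hdvd
  let ι : ↥(chevE6.diagonalSubgroup K ⊓ twistedE6 K q) →* ↥(chevE6.group k) :=
    (em6 q f).comp (Subgroup.inclusion inf_le_right)
  have hTT : ∀ h, ι h ∈ TT chevE6 k := fun h =>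
    Cfsg.Agent.GpExc.Field.emb_T hp6 f ⟨⟨(h : GL chevE6.Idx K), _⟩, h.2.1, rfl⟩
  have hιinj : Function.Injective ι := (Cfsg.Agent.BpExc.FamTw.Six.em_injective f).comp
    (Subgroup.inclusion_injective _)
  refine exists_pow_of_split (A := fixT chevE6 k (sig6 k r n)) hset.norm (fun t ht => ht.2) hfin ?_
    (H := ι.range) ?_ ?_ Nat.prime_three ?_ h1 h2 hy
  · intro y hy
    obtain ⟨x, hx, t, ht, e⟩ := Cfsg.Agent.BpExc.EmbInst.twE6_split (f := f) hq hK hφ y.2 (by rw [← coe_sig6, hy])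
    have htG : t ∈ chevE6.group k := diagonal_le_group hp6.inList k ht
    have e' : y = em6 q f ⟨x, hx⟩ * ⟨t, htG⟩ := Subtype.ext e
    refine ⟨⟨x, hx⟩, ⟨t, htG⟩, ⟨ht, ?_⟩, e'⟩
    show sig6 k r n ⟨t, htG⟩ = ⟨t, htG⟩
    have h5 := hy
    rw [e', map_mul, hset.fix] at h5
    exact mul_left_cancel h5
  · rintro _ ⟨h, rfl⟩
    exact ⟨hTT h, hset.fix _⟩
  · rintro _ ⟨h, rfl⟩
    exact ⟨_, rfl⟩
  · rw [← Nat.card_congr (MonoidHom.ofInjective hιinj).toEquiv]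
    have h5 : Nat.gcd 3 (q + 1) = 3 := Nat.gcd_eq_left h3
    rw [h5] at hcard
    rw [hcard]
    exact hdvd

end

/-! ### automorphisms -/

section

variable {K : Type u} [Field K] [Fintype K] {q : ℕ}

theorem st_one (g : ↥(twistedE6 K q)) : Cfsg.Agent.CpAut.RgdTwE6.st q (1 : K ≃+* K) g = g := by
  apply Subtype.ext
  have h1 : ((Cfsg.Agent.CpAut.RgdTwE6.st q (1 : K ≃+* K) g : ↥(twistedE6 K q)) : GL chevE6.Idx K) =
      Cfsg.Agent.ChevStructure.FieldMap.glEquiv chevE6 (1 : K ≃+* K) g :=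
    Cfsg.Agent.CpAut.RgdTwStd.coe_fldG _ _ g
  rw [h1]
  apply Units.ext
  rw [Cfsg.Agent.ChevStructure.FieldMap.glEquiv_coe]
  ext i j
  rfl

/-- **`AbOut` for `²E₆(q)`, `p ≥ 7`.** -/
theorem abOut_2E6 (hq : IsPrimePow q) (hK : Fintype.card K = q ^ 2) {p : ℕ} [hpp : Fact p.Prime] (h7 : 7 ≤ p)
    (hpK : (p : K) ≠ 0) : Cfsg.Agent.H508.KB.AbOut p ↥(twistedE6 K q) := by
  obtain ⟨r, n, hr, hrF, hrk, hn0, hn, hk⟩ := Cfsg.Agent.H795.Tw.exists_closure_q two_ne_zero hq hK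
  have hpr : p ≠ r := by
    rintro rfl
    exact hpK (CharP.cast_eq_zero K p)
  have hrp : r.Prime := hr.out
  let k := AlgebraicClosure K
  let f : K →+* k := algebraMap K k
  obtain ⟨φ, hφ, hqq⟩ := Cfsg.Agent.ChevalleyStructure.TwE6Basic.exists_frob hq hK
  let cs := CoxeterMatrix.F₄.toCoxeterSystem
  have hfinW : Finite CoxeterMatrix.F₄.Group :=
    Cfsg.Agent.Nodes.RGDFold.finite_W (hp := Cfsg.Agent.Nodes.RGDTwE6.hp) cs isCartan foldData
  have R := Cfsg.Agent.Nodes.RGDTwE6.rgd cs hφ hqq r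
  have hG1 := G1_top cs hφ hqq
  have hG := Cfsg.Agent.KFacts.RgdRigid.GG_eq_top (T := T K q) hG1
  intro P A _ _ α _ β _
  -- the commutator is inner-diagonal
  have key := comm_of_rel (Γ := K ≃+* K) (fun a b => Cfsg.Agent.Lib.AutSL2Out.ringEquiv_comm a b)
    (Rel := FTau hφ hqq) (FTau.one hφ hqq)
    (fun β τ τ' S S' => S.unique hφ hqq S') (fun β τ β' τ' S S' => S.mul hφ hqq S')
    (fun α => by
      obtain ⟨a, s, D⟩ := Cfsg.Agent.BpExc.FamTw.exists_frame_any R hG α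
      have hs1 : s = 1 := by
        apply perm_F4 s (D.matrix R)
        intro h3
        have h4 := Cfsg.Agent.KFacts.RgdNodes.Diag.card_eq D 0
        rw [h3] at h4
        exact card_ne hφ hqq hK hq.one_lt h4
      subst hs1
      obtain ⟨τ, S⟩ := exists_ftau hφ hqq cs r D
      exact ⟨a, τ, S⟩)
    (Q := fun γ => ∃ a, FTau hφ hqq (MulAut.conj a * γ) 1)
    (fun β S => ⟨1, by rwa [map_one, one_mul]⟩)
    (by
      rintro a b γ ⟨c, hc⟩
      refine ⟨c * (a * γ b)⁻¹, ?_⟩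
      have e : MulAut.conj (c * (a * γ b)⁻¹) * (MulAut.conj a * γ * MulAut.conj b) = MulAut.conj c * γ := by
        rw [mul_assoc (MulAut.conj a), mul_conj, ← mul_assoc (MulAut.conj a), ← map_mul, ← mul_assoc, ← map_mul,
          inv_mul_cancel_right]
      rwa [e])
    α β
  obtain ⟨b, hb⟩ := key
  obtain ⟨a, τ, y, S, hy, hg⟩ := Cfsg.Agent.BpExc.FamTw.Six.exists_lift hφ hqq cs r f hK hq.one_lt
    (fun a => IsAlgClosed.exists_pow_nat_eq _ (by norm_num)) (Φ := Cfsg.Agent.BpExc.FamField.frb k r n)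
    (fun a => by rw [Cfsg.Agent.BpExc.FamField.frb_apply, hφ, map_pow, hn]) (α * β * α⁻¹ * β⁻¹)
  have hτ : τ = 1 := Cfsg.Agent.BpExc.FamTw.Six.ftau_unique hφ hqq cs r S hb
  subst hτ
  have hy' : sig6 k r n y = y := hy
  -- torality
  have hinj := Cfsg.Agent.BpExc.FamTw.Six.em_injective (q := q) f
  have htor : ∃ z : ↥(chevE6.group k), ∀ x ∈ (P : Subgroup ↥(twistedE6 K q)), z * em6 q f x * z⁻¹ ∈ TT chevE6 k := by
    have hfin : Finite ↥((P : Subgroup ↥(twistedE6 K q)).map (em6 q f)) :=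
      Finite.of_surjective _ ((em6 q f).subgroupMap_surjective (P : Subgroup ↥(twistedE6 K q)))
    obtain ⟨z, hz⟩ := Cfsg.Agent.H795.TorSub.exists_toral_of_not_dvd hp6 r hk hpp.out hpr (by
        rw [Cfsg.Agent.H795.RowsA.card_E6]
        intro h
        have h1 : p ∣ 2 ^ 7 * (3 ^ 4 * 5) := by
          norm_num
          exact h
        rcases (hpp.out.dvd_mul).1 h1 with h2 | h2
        · have := (Nat.prime_dvd_prime_iff_eq hpp.out Nat.prime_two).1 (hpp.out.dvd_of_dvd_pow h2)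
          omega
        rcases (hpp.out.dvd_mul).1 h2 with h2 | h2
        · have := (Nat.prime_dvd_prime_iff_eq hpp.out Nat.prime_three).1 (hpp.out.dvd_of_dvd_pow h2)
          omega
        · have := (Nat.prime_dvd_prime_iff_eq hpp.out Nat.prime_five).1 h2
          omega) (Q := (P : Subgroup ↥(twistedE6 K q)).map (em6 q f)) (P.2.map _)
    exact ⟨z, fun x hx => hz _ ⟨x, hx, rfl⟩⟩
  obtain ⟨s, hs⟩ := act_six f r hk hn0 hn hK (by omega) P htor hy'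
  refine ⟨s, fun x hx => ?_⟩
  apply hinj
  rw [← hs x hx, hg, st_one]

theorem ab_tw (p : ℕ) [Fact p.Prime] (S : Type u) [Group S] [Finite S] [IsSimpleGroup S] {r : ℕ} [hr : Fact r.Prime]
    (hrp : r ≠ p) (h7 : 7 ≤ p) (h : IsTwistedE6D4Char r S) : Cfsg.Agent.H508.KB.AbOut p S := by
  obtain ⟨K, _, _, _, q, hq, ⟨hK, ⟨e⟩⟩ | ⟨hK, ⟨e⟩⟩⟩ := h
  · refine abOut_congr e (abOut_2E6 hq hK h7 ?_)
    rw [Ne, CharP.cast_eq_zero_iff K r]
    intro h
    exact hrp ((Nat.prime_dvd_prime_iff_eq hr.out Fact.out).1 h)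
  · exact ab_3D4 p S (r := r) hq hK e

end

end Cfsg.Agent.H299.AO
end

-- part: H936/KE/Lines
section
/-!
# Two lines in a torus: a bound for `k(B₀)` (S4822, KE; helper936)
-/

set_option autoImplicit false
set_option linter.unusedSectionVars false

namespace Cfsg.Agent.H936.KE

open CoxeterSystem Cfsg Cfsg.Lie Cfsg.Lie.ChevalleyDatum
open Cfsg.Agent.ChevalleyStructure Cfsg.Agent.ChevalleyStructure.Elts Cfsg.Agent.ChevalleyStructure.CoxeterGeom
  Cfsg.Agent.ChevalleyStructure.CoxeterGeomTypes Cfsg.Agent.ChevalleyStructure.NPerm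
open Cfsg.Agent.Tits.Roots Cfsg.Agent.Tits.Core Cfsg.Agent.Nodes Cfsg.Agent.Nodes.Reps Cfsg.Agent.Nodes.BNOf
  Cfsg.Agent.Nodes.RGDChev Cfsg.Agent.Nodes.Bruhat
open Cfsg.Agent.KFacts.RgdField Cfsg.Agent.KFacts.RgdChevCoord Cfsg.Agent.BpExc.TorCent Cfsg.Agent.BpExc.TorChev
open Cfsg.Agent.GpExc.Field Cfsg.Agent.BpExc.Tow Cfsg.Agent.BpExc.TowChev Cfsg.Agent.BpExc.Fr
  Cfsg.Agent.BpExc.LangFr Cfsg.Agent.H795.SetCent Cfsg.Agent.H795.Toral Cfsg.Agent.H795.Core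
  Cfsg.Agent.H795.RootConn Cfsg.Agent.H795.SetTor Cfsg.Agent.H129.TorusChar Cfsg.Agent.H129.TorusUntw
  Cfsg.Agent.H129.WData Cfsg.Agent.H795.Reduce Cfsg.Agent.H795.LangT
  Cfsg.Agent.BpExc Cfsg.Agent.H210.EL Cfsg.Agent.H440.TD4 Cfsg.Agent.H765.KE Cfsg.Agent.H508.KB

universe u v

/-- D8' -/
def KBTwo (p : ℕ) (M : Ideal AlgInt) : Prop :=
  ∀ (S : Type u) [Group S] [Finite S] (x x' : S) (k k' : ℕ) (_ : orderOf x = p ^ k) (_ : orderOf x' = p ^ k')
    (_ : k ≠ 0) (_ : k' ≠ 0) (e e' b b' : ℕ) (_ : ∀ (g : S) (i : ℕ), g * x * g⁻¹ = x ^ i → (i : ZMod p) ^ e = 1)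
    (_ : ∀ (g : S) (i : ℕ), g * x' * g⁻¹ = x' ^ i → (i : ZMod p) ^ e' = 1)
    (_ : ∀ (g : S) (i : ℕ), g * x * g⁻¹ ≠ x' ^ i)
    (_ : b ≤ blockRank p (principalBlock M ↥(Subgroup.centralizer ({x} : Set S))))
    (_ : b' ≤ blockRank p (principalBlock M ↥(Subgroup.centralizer ({x'} : Set S)))),
    (p - 1) / e * b + (p - 1) / e' * b' + blockRank p (principalBlock M S) ≤ kB M S

variable {D : ChevalleyDatum} {l : ℕ} {M : CoxeterMatrix (Fin l)} {hp : IsType D l M} {p Q : ℕ} [hpp : Fact p.Prime]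
  {g : (Fin l → ℤ) ≃+ (Fin l → ℤ)} {w : M.Group} {G : Type v} [Group G] [Finite G] {X : (Fin l → ZMod p) → G}

theorem zero_mem : (0 : Fin l → ZMod p) ∈ Lam hp p Q g w := by
  have h0 : ∀ y, lam (0 : Fin l → ZMod p) y = 0 := fun y => by unfold lam; simp
  intro x
  rw [h0, h0, mul_zero]

theorem X_zero (m : ModelS hp p Q g w X) : X 0 = 1 := by
  have h1 := m.add 0 zero_mem 0 zero_mem
  rw [add_zero] at h1
  exact mul_eq_left.1 h1.symm

theorem X_smul (m : ModelS hp p Q g w X) {c : Fin l → ZMod p} (hc : c ∈ Lam hp p Q g w) (n : ℕ) :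
    X ((n : ZMod p) • c) = X c ^ n := by
  induction n with
  | zero => rw [Nat.cast_zero, zero_smul, pow_zero, X_zero m]
  | succ n ih => rw [Nat.cast_succ, add_smul, one_smul, m.add _ (Lam.smul hp _ hc) _ hc, ih, pow_succ]

theorem order_X (m : ModelS hp p Q g w X) {c : Fin l → ZMod p} (hc : c ∈ Lam hp p Q g w) (h0 : c ≠ 0) :
    orderOf (X c) = p ^ 1 := by
  rw [pow_one]
  exact orderOf_eq_prime (m.pow c hc) fun h => h0 (m.inj c hc h)

theorem fus_X (m : ModelS hp p Q g w X) {c c' : Fin l → ZMod p} (hc : c ∈ Lam hp p Q g w)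
    (hc' : c' ∈ Lam hp p Q g w) {h : G} {i : ℕ} (hh : h * X c * h⁻¹ = X c' ^ i) :
    ∃ w' : M.Group, ∀ x, lam ((i : ZMod p) • c') (rep M.toCoxeterSystem hp.isCartan w' x) = lam c x := by
  rw [← X_smul m hc'] at hh
  exact m.fus c hc _ (Lam.smul hp _ hc') h hh

theorem evv_ne_zero {q : ZMod p} {s t : ℤ} (hq : q ^ 2 = s + t * q) (h11 : 11 ≤ p) {A : Fin l → ℤ × ℤ}
    (h : Sml D l s t A) (hz : zc D l A ≠ D.nroots) : evv q A ≠ 0 := by
  intro h0
  apply hz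
  rw [← sum_zero hq h11 h, h0]
  have h1 : ∀ y, lam (0 : Fin l → ZMod p) y = 0 := fun y => by unfold lam; simp
  simp [h1]

/-- **Two lines.** -/
theorem two_lines {Mi : Ideal AlgInt} (hM : IsPModular p Mi) (h11 : 11 ≤ p) (K : KBTwo.{v} p Mi)
    (m : ModelS hp p Q g w X) {Th : Mat l} {q : ZMod p} {s t : ℤ}
    (hTh : ∀ j, rep M.toCoxeterSystem hp.isCartan w (g (sr j)) = Th j) (hQ : (Q : ZMod p) = q)
    (hq : q ^ 2 = s + t * q) {A B : Fin l → ℤ × ℤ} (hA : ∀ j, plin A (Th j) = pmul s t (0, 1) (A j))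
    (hB : ∀ j, plin B (Th j) = pmul s t (0, 1) (B j)) (mA : Sml D l s t A) (mB : Sml D l s t B)
    (hz : zc D l A ≠ zc D l B) (zA : zc D l A ≠ D.nroots) (zB : zc D l B ≠ D.nroots) (e e' b b' : ℕ)
    (hfA : ∀ (i : ZMod p) (w' : M.Group), (∀ x, lam (i • evv q A) (rep M.toCoxeterSystem hp.isCartan w' x) =
      lam (evv q A) x) → i ^ e = 1)
    (hfB : ∀ (i : ZMod p) (w' : M.Group), (∀ x, lam (i • evv q B) (rep M.toCoxeterSystem hp.isCartan w' x) =
      lam (evv q B) x) → i ^ e' = 1)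
    (hb : b ≤ blockRank p (principalBlock Mi ↥(Subgroup.centralizer ({X (evv q A)} : Set G))))
    (hb' : b' ≤ blockRank p (principalBlock Mi ↥(Subgroup.centralizer ({X (evv q B)} : Set G)))) {r : Fin D.nroots}
    (hr : lam (evv q A) (vec D l r) ≠ 0) :
    (p - 1) / e * b + (p - 1) / e' * b' + 2 ≤ kB Mi G := by
  have hcA := mem_Lam hp hTh hQ hq hA
  have hcB := mem_Lam hp hTh hQ hq hB
  have nA := evv_ne_zero hq h11 mA zA
  have nB := evv_ne_zero hq h11 mB zB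
  have h2 := m.two_le_rank_top hM hcA (isRoot_vec hp M.toCoxeterSystem r.2) hr
  refine le_trans (Nat.add_le_add_left h2 _) (K G (X (evv q A)) (X (evv q B)) 1 1 (order_X m hcA nA)
    (order_X m hcB nB) one_ne_zero one_ne_zero e e' b b' ?_ ?_ ?_ hb hb')
  · intro x i hx
    obtain ⟨w', hw'⟩ := fus_X m hcA hcA hx
    exact hfA _ w' hw'
  · intro x i hx
    obtain ⟨w', hw'⟩ := fus_X m hcB hcB hx
    exact hfB _ w' hw'
  · intro x i hx
    obtain ⟨w', hw'⟩ := fus_X m hcA hcB hx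
    by_cases hi : (i : ZMod p) = 0
    · have h3 : X (evv q A) = 1 := by
        rw [← X_smul m hcB, hi, zero_smul, X_zero m] at hx
        exact conj_eq_one_iff.1 hx
      exact nA (m.inj _ hcA h3)
    · exact hz (zc_eq hp hq h11 mA mB hi hw')

end Cfsg.Agent.H936.KE
end

-- part: H936/KE/TE6
section
/-!
# `²E₆(q)`, order of `q` modulo `p` equal to 3, 4, 6: `p + 3 ≤ 2 k(B₀)` (S4822, KE7; helper936)
-/

set_option autoImplicit false
set_option linter.unusedSectionVars false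

namespace Cfsg.Agent.H936.KE.TE6

open CoxeterSystem Cfsg Cfsg.Lie Cfsg.Lie.ChevalleyDatum
open Cfsg.Agent.ChevalleyStructure Cfsg.Agent.ChevalleyStructure.Elts Cfsg.Agent.ChevalleyStructure.CoxeterGeom
  Cfsg.Agent.ChevalleyStructure.CoxeterGeomTypes Cfsg.Agent.ChevalleyStructure.NPerm
open Cfsg.Agent.Tits.Roots Cfsg.Agent.Tits.Core Cfsg.Agent.Nodes Cfsg.Agent.Nodes.Reps Cfsg.Agent.Nodes.BNOf
  Cfsg.Agent.Nodes.RGDChev Cfsg.Agent.Nodes.Bruhat
open Cfsg.Agent.KFacts.RgdField Cfsg.Agent.KFacts.RgdChevCoord Cfsg.Agent.BpExc.TorCent Cfsg.Agent.BpExc.TorChev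
open Cfsg.Agent.GpExc.Field Cfsg.Agent.BpExc.Tow Cfsg.Agent.BpExc.TowChev Cfsg.Agent.BpExc.Fr
  Cfsg.Agent.BpExc.LangFr Cfsg.Agent.H795.SetCent Cfsg.Agent.H795.Toral Cfsg.Agent.H795.Core
  Cfsg.Agent.H795.RootConn Cfsg.Agent.H795.SetTor Cfsg.Agent.H129.TorusChar Cfsg.Agent.H129.TorusUntw
  Cfsg.Agent.H129.WData Cfsg.Agent.H795.Reduce Cfsg.Agent.H795.LangT
  Cfsg.Agent.BpExc Cfsg.Agent.H210.EL Cfsg.Agent.H440.TD4 Cfsg.Agent.H765.KE Cfsg.Agent.H508.KB Cfsg.Agent.H720.TwFr Cfsg.Agent.H795.Tw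

universe u v

/-- transport of `Setup` -/
theorem setup_comp {D : ChevalleyDatum} {l : ℕ} {M : CoxeterMatrix (Fin l)} {hp : IsType D l M} {k : Type v} [Field k]
    {p r e : ℕ} [Fact r.Prime] [CharP k r] {G : Type*} [Group G] {S : Type*} [Group S] {f : G →* ↥(D.group k)}
    {σ : MulAut ↥(D.group k)} {g : (Fin l → ℤ) ≃+ (Fin l → ℤ)} (h : Setup hp p r e f σ g) (φ : S ≃* G) :
    Setup hp p r e (f.comp φ.toMonoidHom) σ g where
  inj := h.inj.comp φ.injective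
  e_pos := h.e_pos
  frob := h.frob
  fr := h.fr
  fix x := h.fix _
  norm y hy x := by
    obtain ⟨x', hx'⟩ := h.norm y hy (φ x)
    exact ⟨φ.symm x', (congrArg f (φ.apply_symm_apply x')).trans hx'⟩
  p_mem y hy hj := by
    obtain ⟨x, hx⟩ := h.p_mem y hy hj
    exact ⟨φ.symm x, by rw [← hx]; exact congrArg f (φ.apply_symm_apply x)⟩
  r_mem y hy hj := by
    obtain ⟨x, hx⟩ := h.r_mem y hy hj
    exact ⟨φ.symm x, by rw [← hx]; exact congrArg f (φ.apply_symm_apply x)⟩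
  fin := h.fin

theorem permE_sr (ρ : Equiv.Perm (Fin 6)) (j : Fin 6) : permE ρ (sr j) = sr (ρ j) := by
  funext i
  show sr j (ρ.symm i) = sr (ρ j) i
  by_cases h : i = ρ j
  · rw [h, ρ.symm_apply_apply, sr_self, sr_self]
  · rw [sr_ne h, sr_ne]
    intro h1
    exact h (by rw [← h1, ρ.apply_symm_apply])

theorem lin_of {L : List (Fin 6 × Mat 6)} (hL : ChainOK Am L) {Th : Mat 6} (hT : ∀ j, hd L (rho6 j) = Th j)
    (j : Fin 6) : rep CoxeterMatrix.E₆.toCoxeterSystem hp6.isCartan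
      (CoxeterMatrix.E₆.toCoxeterSystem.wordProd (L.map Prod.fst)) (permE rho6 (sr j)) = Th j := by
  rw [permE_sr, chain_rep hp6 _ hA hL, hT]

section

variable {p : ℕ} [hpp : Fact p.Prime]

theorem not_dvd_thirty (h11 : 11 ≤ p) : ¬ p ∣ 30 := by
  intro h
  have h1 := Nat.le_of_dvd (by norm_num) h
  have h2 := hpp.out
  interval_cases p <;> first | exact absurd h (by decide) | exact absurd h2 (by norm_num)

theorem int_ne {n : ℤ} (k : ℕ) (hn : n.natAbs ∣ 30 ^ k) (h11 : 11 ≤ p) : (n : ZMod p) ≠ 0 := by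
  intro h1
  have h2 := (ZMod.intCast_zmod_eq_zero_iff_dvd _ _).1 h1
  exact not_dvd_thirty h11 (hpp.out.dvd_of_dvd_pow ((Int.natCast_dvd.1 h2).trans hn))

theorem int_ne31 {n : ℤ} (k : ℕ) (hn : n.natAbs ∣ 30 ^ k * 31) (h11 : 11 ≤ p) (h4 : 4 ∣ p - 1) :
    (n : ZMod p) ≠ 0 := by
  intro h1
  have h2 := (ZMod.intCast_zmod_eq_zero_iff_dvd _ _).1 h1
  rcases (Nat.Prime.dvd_mul hpp.out).1 ((Int.natCast_dvd.1 h2).trans hn) with h | h
  · exact not_dvd_thirty h11 (hpp.out.dvd_of_dvd_pow h)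
  · rw [(Nat.prime_dvd_prime_iff_eq hpp.out (by norm_num)).1 h] at h4
    omega

theorem not_dvd_W (h11 : 11 ≤ p) : ¬ p ∣ Nat.card CoxeterMatrix.E₆.Group := by
  have h0 : Nat.card CoxeterMatrix.E₆.Group = 51840 :=
    Cfsg.Agent.S1093.result (⟨6, CoxeterMatrix.E₆⟩, 51840) (by simp)
  rw [h0]
  intro h
  exact not_dvd_thirty h11 (hpp.out.dvd_of_dvd_pow (h.trans (by decide : 51840 ∣ 30 ^ 7)))

/-- the relations for the orders -/
theorem rel_of_order {x : ZMod p} (h : orderOf x = 3) : x ^ 2 = ((-1 : ℤ) : ZMod p) + ((-1 : ℤ) : ZMod p) * x := by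
  have h1 : x ^ 3 = 1 := by rw [← h]; exact pow_orderOf_eq_one x
  have h2 : x - 1 ≠ 0 := by
    intro h3
    rw [sub_eq_zero.1 h3, orderOf_one] at h
    omega
  have h3 : (x - 1) * (x ^ 2 + x + 1) = 0 := by linear_combination h1
  have h4 := (mul_eq_zero.1 h3).resolve_left h2
  push_cast
  linear_combination h4

theorem rel_of_order4 {x : ZMod p} (h : orderOf x = 4) : x ^ 2 = ((-1 : ℤ) : ZMod p) + ((0 : ℤ) : ZMod p) * x := by
  have h1 : x ^ 4 = 1 := by rw [← h]; exact pow_orderOf_eq_one x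
  have h2 : x ^ 2 - 1 ≠ 0 := by
    intro h3
    have h5 := orderOf_dvd_of_pow_eq_one (sub_eq_zero.1 h3)
    rw [h] at h5
    omega
  have h3 : (x ^ 2 - 1) * (x ^ 2 + 1) = 0 := by linear_combination h1
  have h4 := (mul_eq_zero.1 h3).resolve_left h2
  push_cast
  linear_combination h4

theorem rel_of_order6 {x : ZMod p} (h : orderOf x = 6) : x ^ 2 = ((-1 : ℤ) : ZMod p) + ((1 : ℤ) : ZMod p) * x := by
  have h1 : x ^ 6 = 1 := by rw [← h]; exact pow_orderOf_eq_one x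
  have h2 : x ^ 2 - 1 ≠ 0 := by
    intro h3
    have h5 := orderOf_dvd_of_pow_eq_one (sub_eq_zero.1 h3)
    rw [h] at h5
    omega
  have h2' : x ^ 3 - 1 ≠ 0 := by
    intro h3
    have h5 := orderOf_dvd_of_pow_eq_one (sub_eq_zero.1 h3)
    rw [h] at h5
    omega
  have h3 : (x ^ 3 - 1) * ((x + 1) * (x ^ 2 - x + 1)) = 0 := by linear_combination h1
  have h4 := (mul_eq_zero.1 h3).resolve_left h2'
  have h6 : x + 1 ≠ 0 := by
    intro h7
    apply h2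
    linear_combination (x - 1) * h7
  have h5 := (mul_eq_zero.1 h4).resolve_left h6
  push_cast
  linear_combination h5

theorem dvd_of_order {x : ZMod p} {d : ℕ} (h : orderOf x = d) (hd : d ≠ 0) : d ∣ p - 1 := by
  rw [← h]
  apply ZMod.orderOf_dvd_card_sub_one
  rintro rfl
  apply hd
  rw [← h, orderOf_zero]

end

section main

variable {p : ℕ} [hpp : Fact p.Prime] {Mi : Ideal AlgInt} {S : Type v} [Group S] [Finite S] {F : Type u} [Field F]
  [Fintype F] {q : ℕ}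

/-- the model -/
theorem exists_X (h11 : 11 ≤ p) (hpF : (p : F) ≠ 0) (hq : IsPrimePow q) (hK : Fintype.card F = q ^ 2)
    (e : S ≃* ↥(twistedE6 F q)) (w : CoxeterMatrix.E₆.Group) :
    ∃ X : (Fin 6 → ZMod p) → S, ModelS hp6 p q (permE rho6) w X := by
  obtain ⟨r, n, hr, hrF, hrk, hn0, hn, hk⟩ := exists_closure_q two_ne_zero hq hK
  have hpr : p ≠ r := by
    rintro rfl
    exact hpF (CharP.cast_eq_zero F p)
  have h := setup_comp (setup_six (algebraMap F (AlgebraicClosure F)) r hk hn0 hn hK (p := p) (by omega)) e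
  obtain ⟨X, m⟩ := exists_modelS hp6 hk (by omega) hpr
    (not_dvd_W h11) invC_E6 (by norm_num) h w
  rw [← hn] at m
  exact ⟨X, m⟩

variable (hM : IsPModular p Mi) (h11 : 11 ≤ p) (K : KBTwo.{v} p Mi) (hpF : (p : F) ≠ 0) (hq : IsPrimePow q)
  (hK : Fintype.card F = q ^ 2) (e : S ≃* ↥(twistedE6 F q))

include hM h11 K hpF hq hK e in
theorem kb_three (hd : orderOf (q : ZMod p) = 3) : p + 3 ≤ 2 * kB Mi S := by
  obtain ⟨X, m⟩ := exists_X h11 hpF hq hK e (CoxeterMatrix.E₆.toCoxeterSystem.wordProd (ch3.map Prod.fst))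
  have hr := rel_of_order hd
  have hTh := lin_of ch3_ok th3_eq
  have hcA := mem_Lam hp6 hTh rfl hr e3A
  have hcB := mem_Lam hp6 hTh rfl hr e3B
  obtain ⟨ra, hra⟩ := root_a
  obtain ⟨rb, hrb⟩ := root_4
  have hB1 : lam (evv (q : ZMod p) v3B) (vec chevE6 6 ra) ≠ 0 := by
    rw [lam_evv, hra]
    exact ev_ne_zero hr (by decide +kernel) (lt_of_eq_of_lt (b := 1) (by decide +kernel) (by omega))
  have hA1 : lam (evv (q : ZMod p) v3A) (vec chevE6 6 rb) ≠ 0 := by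
    rw [lam_evv, hrb]
    exact ev_ne_zero hr (by decide +kernel) (lt_of_eq_of_lt (b := 1) (by decide +kernel) (by omega))
  have hA0 : lam (evv (q : ZMod p) v3A) (vec chevE6 6 ra) = 0 := by
    rw [lam_evv, hra, show plin v3A ![0, 0, 0, 1, 1, 1] = (0, 0) by decide +kernel, ev_zero]
  have hB0 : lam (evv (q : ZMod p) v3B) (vec chevE6 6 rb) = 0 := by
    rw [lam_evv, hrb, show plin v3B ![0, 0, 0, 0, 1, 0] = (0, 0) by decide +kernel, ev_zero]
  have h1 := two_lines hM h11 K m hTh rfl hr e3A e3B m3A m3B (by rw [z3A, z3B]; decide) (by rw [z3A, nr]; decide)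
    (by rw [z3B, nr]; decide) 6 6 2 2
    (fun i w' h => pow_eq_one_of_psum hp6 hr h 6 s3A_6 (int_ne 3 (by decide) h11))
    (fun i w' h => pow_eq_one_of_psum hp6 hr h 6 s3B_6 (int_ne 5 (by decide) h11))
    (m.two_le_rank hM hcA hcB (isRoot_vec hp6 _ ra.2) hA0 hB1)
    (m.two_le_rank hM hcB hcA (isRoot_vec hp6 _ rb.2) hB0 hA1) hA1
  have h3 := dvd_of_order hd (by norm_num)
  have h2 : 2 ∣ p - 1 := (hpp.out.even_sub_one (by omega)).two_dvd
  omega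

include hM h11 K hpF hq hK e in
theorem kb_six (hd : orderOf (q : ZMod p) = 6) : p + 3 ≤ 2 * kB Mi S := by
  obtain ⟨X, m⟩ := exists_X h11 hpF hq hK e (CoxeterMatrix.E₆.toCoxeterSystem.wordProd (ch6.map Prod.fst))
  have hr := rel_of_order6 hd
  have hTh := lin_of ch6_ok th6_eq
  have hcA := mem_Lam hp6 hTh rfl hr e6A
  have hcB := mem_Lam hp6 hTh rfl hr e6B
  obtain ⟨ra, hra⟩ := root_4
  obtain ⟨rb, hrb⟩ := root_2
  have hB1 : lam (evv (q : ZMod p) v6B) (vec chevE6 6 ra) ≠ 0 := by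
    rw [lam_evv, hra]
    exact ev_ne_zero hr (by decide +kernel) (lt_of_eq_of_lt (b := 1) (by decide +kernel) (by omega))
  have hA1 : lam (evv (q : ZMod p) v6A) (vec chevE6 6 rb) ≠ 0 := by
    rw [lam_evv, hrb]
    exact ev_ne_zero hr (by decide +kernel) (lt_of_eq_of_lt (b := 1) (by decide +kernel) (by omega))
  have hA0 : lam (evv (q : ZMod p) v6A) (vec chevE6 6 ra) = 0 := by
    rw [lam_evv, hra, show plin v6A ![0, 0, 0, 0, 1, 0] = (0, 0) by decide +kernel, ev_zero]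
  have hB0 : lam (evv (q : ZMod p) v6B) (vec chevE6 6 rb) = 0 := by
    rw [lam_evv, hrb, show plin v6B ![0, 0, 1, 0, 0, 0] = (0, 0) by decide +kernel, ev_zero]
  have h1 := two_lines hM h11 K m hTh rfl hr e6A e6B m6A m6B (by rw [z6A, z6B]; decide) (by rw [z6A, nr]; decide)
    (by rw [z6B, nr]; decide) 6 6 2 2
    (fun i w' h => pow_eq_one_of_psum hp6 hr h 6 s6A_6 (int_ne 4 (by decide) h11))
    (fun i w' h => pow_eq_one_of_psum hp6 hr h 6 s6B_6 (int_ne 3 (by decide) h11))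
    (m.two_le_rank hM hcA hcB (isRoot_vec hp6 _ ra.2) hA0 hB1)
    (m.two_le_rank hM hcB hcA (isRoot_vec hp6 _ rb.2) hB0 hA1) hA1
  have h3 := dvd_of_order hd (by norm_num)
  omega

include hM h11 K hpF hq hK e in
theorem kb_four (hd : orderOf (q : ZMod p) = 4) : p + 3 ≤ 2 * kB Mi S := by
  obtain ⟨X, m⟩ := exists_X h11 hpF hq hK e (CoxeterMatrix.E₆.toCoxeterSystem.wordProd (ch4.map Prod.fst))
  have hr := rel_of_order4 hd
  have h3 := dvd_of_order hd (by norm_num)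
  have hTh := lin_of ch4_ok th4_eq
  have hcA := mem_Lam hp6 hTh rfl hr e4A
  have hcB := mem_Lam hp6 hTh rfl hr e4B
  obtain ⟨ra, hra⟩ := root_5
  obtain ⟨rb, hrb⟩ := root_4
  have hB1 : lam (evv (q : ZMod p) v4B) (vec chevE6 6 ra) ≠ 0 := by
    rw [lam_evv, hra]
    exact ev_ne_zero hr (by decide +kernel) (lt_of_eq_of_lt (b := 1) (by decide +kernel) (by omega))
  have hA1 : lam (evv (q : ZMod p) v4A) (vec chevE6 6 rb) ≠ 0 := by
    rw [lam_evv, hrb]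
    exact ev_ne_zero hr (by decide +kernel) (lt_of_eq_of_lt (b := 1) (by decide +kernel) (by omega))
  have hA0 : lam (evv (q : ZMod p) v4A) (vec chevE6 6 ra) = 0 := by
    rw [lam_evv, hra, show plin v4A ![0, 0, 0, 0, 0, 1] = (0, 0) by decide +kernel, ev_zero]
  have h1 := two_lines hM h11 K m hTh rfl hr e4A e4B m4A m4B (by rw [z4A, z4B]; decide) (by rw [z4A, nr]; decide)
    (by rw [z4B, nr]; decide) 4 0 2 0
    (fun i w' h => by
      have h5 := pow_eq_one_of_psum hp6 hr h 8 s4A_8 (int_ne 5 (by decide) h11)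
      have h6 := pow_eq_one_of_psum hp6 hr h 12 s4A_12 (int_ne31 5 (by decide) h11 h3)
      rw [show 12 = 8 + 4 from rfl, pow_add, h5, one_mul] at h6
      exact h6)
    (fun i w' h => pow_zero _)
    (m.two_le_rank hM hcA hcB (isRoot_vec hp6 _ ra.2) hA0 hB1) (Nat.zero_le _) hA1
  omega

include hM h11 K hpF hq hK e in
/-- **`p + 3 ≤ 2 k(B₀)` for `²E₆(q)`, order of `q` modulo `p` equal to 3, 4, 6.** -/
theorem kb_tw (hd : orderOf (q : ZMod p) = 3 ∨ orderOf (q : ZMod p) = 4 ∨ orderOf (q : ZMod p) = 6) :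
    p + 3 ≤ 2 * kB Mi S := by
  rcases hd with hd | hd | hd
  · exact kb_three hM h11 K hpF hq hK e hd
  · exact kb_four hM h11 K hpF hq hK e hd
  · exact kb_six hM h11 K hpF hq hK e hd

end main

end Cfsg.Agent.H936.KE.TE6
end
end

-- part: H567/KB/Mod
section
prune_inst 0x431507d6575621200001c2096f3203ee7bf0004b2006b8c01dde703460fcfdd6b2883af615f703b17d3ba8af5203d0060031001f9426000002e008c00411d01a09cab5602f3d9ad0cf6009f808186000000000000000000000000000000041004000000000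
set_option linter.all false
open scoped Cfsg.Agent.FastGrp

/-!
# The torus model in `D.group F` (S4822, KE4; helper567)

`InvC D l d B`, `p ∤ d` : the `p`-elements of the fixed points of the Frobenius automorphism lie in `D.group F`, and so do the
`d`-th powers of all fixed points.

* `ModelS hp p Q w d X` : `X : (Fin l → ZMod p) → D.group F` as in `H440.TD4.Model`, with `act` for the `d`-th powers `v ^ d`;
* `exists_modelS`.
* `sum_eq_of_fus` : the sums over the roots.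
-/

set_option autoImplicit false
set_option linter.unusedSectionVars false

namespace Cfsg.Agent.H567.KB

open CoxeterSystem Cfsg Cfsg.Lie Cfsg.Lie.ChevalleyDatum
open Cfsg.Agent.ChevalleyStructure Cfsg.Agent.ChevalleyStructure.Elts Cfsg.Agent.ChevalleyStructure.CoxeterGeom
  Cfsg.Agent.ChevalleyStructure.CoxeterGeomTypes Cfsg.Agent.ChevalleyStructure.NPerm
open Cfsg.Agent.Tits.Roots Cfsg.Agent.Tits.Core Cfsg.Agent.Nodes Cfsg.Agent.Nodes.Reps Cfsg.Agent.Nodes.BNOf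
  Cfsg.Agent.Nodes.RGDChev Cfsg.Agent.Nodes.Bruhat
open Cfsg.Agent.KFacts.RgdField Cfsg.Agent.KFacts.RgdChevCoord Cfsg.Agent.BpExc.TorCent Cfsg.Agent.BpExc.TorChev
open Cfsg.Agent.GpExc.Field Cfsg.Agent.BpExc.Tow Cfsg.Agent.BpExc.TowChev Cfsg.Agent.BpExc.Fr
  Cfsg.Agent.BpExc.LangFr Cfsg.Agent.H795.SetCent Cfsg.Agent.H795.Toral Cfsg.Agent.H795.Core
  Cfsg.Agent.H795.RootConn Cfsg.Agent.H795.SetTor Cfsg.Agent.H129.TorusChar Cfsg.Agent.H129.TorusUntw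
  Cfsg.Agent.H129.WData Cfsg.Agent.H795.Reduce Cfsg.Agent.H795.LangT Cfsg.Agent.H123.ExcZ
  Cfsg.Agent.BpExc Cfsg.Agent.H210.EL Cfsg.Agent.H440.TD4 Cfsg.Agent.H795.Untw

universe u v

variable {D : ChevalleyDatum} {l : ℕ} {M : CoxeterMatrix (Fin l)} (hp : IsType D l M)

/-- the functional `c ∘ v` -/
def cv (hp : IsType D l M) {p : ℕ} (c : Fin l → ZMod p) (v : M.Group) : Fin l → ZMod p :=
  fun i => lam c (rep M.toCoxeterSystem hp.isCartan v (sr i))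

theorem lam_cv {p : ℕ} (c : Fin l → ZMod p) (v : M.Group) (x : Fin l → ℤ) :
    lam (cv hp c v) x = lam c (rep M.toCoxeterSystem hp.isCartan v x) :=
  ext_sr (lamHom (cv hp c v)) ((lamHom c).comp (rep M.toCoxeterSystem hp.isCartan v).toAddMonoidHom) (fun i => by
    show lam (cv hp c v) (sr i) = lam c (rep M.toCoxeterSystem hp.isCartan v (sr i))
    rw [lam_sr]
    rfl) x

theorem lam_ext {p : ℕ} {a b : Fin l → ZMod p} (h : ∀ x, lam a x = lam b x) : a = b := by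
  funext i
  have := h (sr i)
  rwa [lam_sr, lam_sr] at this

/-- `Lam` for the untwisted groups -/
abbrev LamU (hp : IsType D l M) (p Q : ℕ) (w : M.Group) : Set (Fin l → ZMod p) :=
  Lam hp p Q (AddEquiv.refl (Fin l → ℤ)) w

/-- `v` commutes with `w` on the lattice -/
def CommW (hp : IsType D l M) (v w : M.Group) : Prop :=
  ∀ x, rep M.toCoxeterSystem hp.isCartan v (rep M.toCoxeterSystem hp.isCartan w x) =
    rep M.toCoxeterSystem hp.isCartan w (rep M.toCoxeterSystem hp.isCartan v x)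

theorem cv_mem {p Q : ℕ} {w v : M.Group} (hv : CommW hp v w) {c : Fin l → ZMod p} (hc : c ∈ LamU hp p Q w) :
    cv hp c v ∈ LamU hp p Q w := by
  intro x
  show lam (cv hp c v) (rep M.toCoxeterSystem hp.isCartan w x) = _
  rw [lam_cv, lam_cv, hv]
  exact hc _

/-- The model in the simple group. -/
structure ModelS (hp : IsType D l M) (p Q : ℕ) (w : M.Group) (d : ℕ) {S : Type v} [Group S]
    (X : (Fin l → ZMod p) → S) : Prop where
  add : ∀ c ∈ LamU hp p Q w, ∀ c' ∈ LamU hp p Q w, X (c + c') = X c * X c'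
  inj : ∀ c ∈ LamU hp p Q w, X c = 1 → c = 0
  pow : ∀ c ∈ LamU hp p Q w, X c ^ p = 1
  act : ∀ v : M.Group, CommW hp v w → ∃ m : S, ∀ c ∈ LamU hp p Q w, m * X (cv hp c (v ^ d)) * m⁻¹ = X c
  fus : ∀ c ∈ LamU hp p Q w, ∀ c' ∈ LamU hp p Q w, ∀ h : S, h * X c * h⁻¹ = X c' →
    ∃ w' : M.Group, ∀ x, lam c' (rep M.toCoxeterSystem hp.isCartan w' x) = lam c x

theorem CommW.pow {v w : M.Group} (hv : CommW hp v w) (n : ℕ) : CommW hp (v ^ n) w := by
  induction n with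
  | zero =>
    intro x
    rw [pow_zero, map_one, Module.End.one_apply, Module.End.one_apply]
  | succ n ih =>
    intro x
    rw [pow_succ, map_mul, Module.End.mul_apply, Module.End.mul_apply, hv, ih]

theorem cv_mul {p : ℕ} (c : Fin l → ZMod p) (v v' : M.Group) : cv hp c (v * v') = cv hp (cv hp c v) v' := by
  apply lam_ext
  intro x
  rw [lam_cv, lam_cv, lam_cv, map_mul, Module.End.mul_apply]

/-- powers of the acting element -/
theorem act_pow {p Q : ℕ} {w v : M.Group} {G : Type v} [Group G] {X : (Fin l → ZMod p) → G} (hv : CommW hp v w) {m : G}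
    (hm : ∀ c ∈ LamU hp p Q w, ∀ c' ∈ LamU hp p Q w,
      (∀ x, lam c' (rep M.toCoxeterSystem hp.isCartan v x) = lam c x) → m * X c * m⁻¹ = X c') (n : ℕ) :
    ∀ c ∈ LamU hp p Q w, m ^ n * X (cv hp c (v ^ n)) * (m ^ n)⁻¹ = X c := by
  induction n with
  | zero =>
    intro c hc
    have h1 : cv hp c (v ^ 0) = c := by
      apply lam_ext
      intro x
      rw [lam_cv, pow_zero, map_one, Module.End.one_apply]
    rw [h1, pow_zero, one_mul, inv_one, mul_one]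
  | succ n ih =>
    intro c hc
    have h1 : cv hp c (v ^ (n + 1)) = cv hp (cv hp c v) (v ^ n) := by
      rw [pow_succ', cv_mul]
    have h2 := ih (cv hp c v) (cv_mem hp hv hc)
    have h3 := hm (cv hp c v) (cv_mem hp hv hc) c hc (fun x => (lam_cv hp c v x).symm)
    rw [h1, pow_succ', mul_inv_rev]
    calc m * m ^ n * X (cv hp (cv hp c v) (v ^ n)) * ((m ^ n)⁻¹ * m⁻¹)
        = m * (m ^ n * X (cv hp (cv hp c v) (v ^ n)) * (m ^ n)⁻¹) * m⁻¹ := by group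
      _ = X c := by rw [h2, h3]

include hp in
/-- **The model in `D.group F`.** -/
theorem exists_modelS {F : Type u} [Field F] [Fintype F] {p : ℕ} [hpp : Fact p.Prime] (hpF : (p : F) ≠ 0)
    {d : ℕ} {B : Fin l → Fin l → ℤ} (hB : InvC D l d B) (hd : d ≠ 0) (hdp : d.Coprime p) (w : M.Group) :
    ∃ X : (Fin l → ZMod p) → ↥(D.group F), ModelS hp p (Fintype.card F) w d X := by
  classical
  obtain ⟨r, e', hr, hrF, hrk, he', hq, hk⟩ := exists_closure (F := F) rfl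
  have hpr : p ≠ r := by
    rintro rfl
    exact hpF (CharP.cast_eq_zero F p)
  let f : F →+* AlgebraicClosure F := algebraMap F (AlgebraicClosure F)
  have hσ : IsFrob r e' (phi D (AlgebraicClosure F) r e') := isFrob_phi
  have Fr0 : Fr M.toCoxeterSystem hp.isCartan (TT D (AlgebraicClosure F)) (XX D l (AlgebraicClosure F))
      (phi D (AlgebraicClosure F) r e') (AddEquiv.refl (Fin l → ℤ)) := fr_phi hp _
  let G : Subgroup ↥(D.group (AlgebraicClosure F)) :=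
    MonoidHom.eqLocus (phi D (AlgebraicClosure F) r e').toMonoidHom (MonoidHom.id _)
  have hG : ∀ y : ↥(D.group (AlgebraicClosure F)), y ∈ G ↔ phi D (AlgebraicClosure F) r e' y = y := fun y => Iff.rfl
  obtain ⟨X, hX⟩ := exists_model (p := p) hp hk hpr hB hd he' hσ Fr0 (G := G) (f := G.subtype)
    (Subgroup.subtype_injective _) (fun y hy => ⟨⟨y, hy⟩, rfl⟩) w
  rw [← hq] at hX
  have hinj := emb_injective hp.inList f
  have hfixP : ∀ y : G, (y : ↥(D.group (AlgebraicClosure F))) ^ d ∈ (emb hp.inList f).range := fun y =>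
    fix_pow_range hp M.toCoxeterSystem f hq hB hd ((hG _).1 y.2)
  have hX1 : ∀ c : Fin l → ZMod p, ∃ x : ↥(D.group F), c ∈ LamU hp p (Fintype.card F) w →
      emb hp.inList f x = (X c : ↥(D.group (AlgebraicClosure F))) := by
    intro c
    by_cases hc : c ∈ LamU hp p (Fintype.card F) w
    · obtain ⟨x, hx⟩ := mem_of_pow_mem hdp (congrArg Subtype.val (hX.pow c hc)) (hfixP (X c))
      exact ⟨x, fun _ => hx⟩
    · exact ⟨1, fun h => absurd h hc⟩
  choose Y hY using hX1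
  refine ⟨Y, ?_, ?_, ?_, ?_, ?_⟩
  · intro c hc c' hc'
    apply hinj
    rw [map_mul, hY _ (Lam.add hp hc hc'), hY _ hc, hY _ hc', hX.add c hc c' hc']
    rfl
  · intro c hc h1
    refine hX.inj c hc (Subtype.ext ?_)
    rw [← hY _ hc, h1, map_one]
    rfl
  · intro c hc
    apply hinj
    rw [map_pow, hY _ hc, map_one]
    exact congrArg Subtype.val (hX.pow c hc)
  · intro v hv
    obtain ⟨m, hm⟩ := hX.act v hv
    obtain ⟨n, hn⟩ := hfixP m
    refine ⟨n, fun c hc => ?_⟩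
    apply hinj
    have h1 := congrArg Subtype.val (act_pow hp hv hm d c hc)
    rw [map_mul, map_mul, map_inv, hn, hY _ hc, hY _ (cv_mem hp (hv.pow hp d) hc)]
    exact h1
  · intro c hc c' hc' h hh
    have h2 : emb hp.inList f h ∈ G := by
      rw [hG]
      exact phi_emb hp f hq h
    refine hX.fus c hc c' hc' ⟨emb hp.inList f h, h2⟩ (Subtype.ext ?_)
    have h3 := congrArg (emb hp.inList f) hh
    rw [map_mul, map_mul, map_inv, hY _ hc, hY _ hc'] at h3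
    exact h3

/-! ### sums over the roots -/

theorem sum_rep {A : Type*} [AddCommMonoid A] (f : (Fin l → ℤ) → A) (w : M.Group) :
    ∑ r ∈ Finset.range D.nroots, f (rep M.toCoxeterSystem hp.isCartan w (vec D l r)) =
      ∑ r ∈ Finset.range D.nroots, f (vec D l r) := by
  have hroot : ∀ (v : M.Group) (x : Fin l → ℤ), IsRoot M.toCoxeterSystem hp.isCartan x →
      IsRoot M.toCoxeterSystem hp.isCartan (rep M.toCoxeterSystem hp.isCartan v x) := by
    rintro v _ ⟨u, i, rfl⟩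
    exact ⟨v * u, i, by rw [map_mul]; rfl⟩
  have key : ∀ (v : M.Group), ∀ r ∈ Finset.range D.nroots, ∃ s ∈ Finset.range D.nroots,
      vec D l s = rep M.toCoxeterSystem hp.isCartan v (vec D l r) := by
    intro v r hr
    obtain ⟨s, hs, h1⟩ := (isRoot_iff hp M.toCoxeterSystem _).1
      (hroot v _ (isRoot_vec hp M.toCoxeterSystem (Finset.mem_range.1 hr)))
    exact ⟨s, Finset.mem_range.2 hs, h1⟩
  choose! φ hφ1 hφ2 using key
  refine Finset.sum_bij (fun r _ => φ w r) (fun r hr => hφ1 w r hr) ?_ ?_ ?_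
  · intro r hr s hs h
    have h1 := hφ2 w r hr
    rw [show φ w r = φ w s from h, hφ2 w s hs] at h1
    have h2 := (repAut M.toCoxeterSystem hp.isCartan w).injective h1
    exact vec_inj hp (Finset.mem_range.1 hr) (Finset.mem_range.1 hs) h2.symm
  · intro s hs
    refine ⟨φ w⁻¹ s, hφ1 _ s hs, ?_⟩
    have h1 := hφ2 w⁻¹ s hs
    have h2 := hφ2 w (φ w⁻¹ s) (hφ1 _ s hs)
    rw [h1, ← Module.End.mul_apply, ← map_mul, mul_inv_cancel, map_one, Module.End.one_apply] at h2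
    exact vec_inj hp (Finset.mem_range.1 (hφ1 _ _ (hφ1 _ s hs))) (Finset.mem_range.1 hs) h2
  · intro r hr
    rw [hφ2 w r hr]

end Cfsg.Agent.H567.KB

private theorem dce_dbbc9bfe0bb8 : _root_.True := by
  try have : _root_.True := by simp only [_root_.Cfsg.Agent.H567.KB.cv.congr_simp]
  exact _root_.True.intro
end

-- part: H567/KB/Line
section
prune_inst 0x421507c6541621200001c2096d3201ce6970004b200488c00dce507460f8f9e6a2887a8614d301d17c2a888c5003d0060031001c0420000000e000800011d01a090001602d1c9a00cc60099801182000000000000000000000000000000041004000000000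
set_option linter.all false
open scoped Cfsg.Agent.FastGrp

/-!
# Lines of the torus model with integral data (S4822, KE4; helper567)

`q : ZMod p` with `q ^ 2 = s q + t`; functionals `vecq q u0 u1 = u0 + q u1` with `u0`, `u1` integral.

* `mem_LamU`, `cv_vecq` : eigenvectors and the action, from integral matrix identities (decidable);
* `sum_pow` : power sums over the roots; `zero_card` : the number of the roots which vanish;
* `ModelS.fus_pow`, `ModelS.ne_pow` : fusion;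
* `two_le_rank'` : `l(B₀(C(x))) ≥ 2` from an element centralising `x` and acting on `y`.
-/

set_option autoImplicit false
set_option linter.unusedSectionVars false

namespace Cfsg.Agent.H567.KB

open CoxeterSystem Cfsg Cfsg.Lie Cfsg.Lie.ChevalleyDatum
open Cfsg.Agent.ChevalleyStructure.CoxeterGeom Cfsg.Agent.ChevalleyStructure.CoxeterGeomTypes
open Cfsg.Agent.Tits.Roots Cfsg.Agent.Tits.Core Cfsg.Agent.Nodes Cfsg.Agent.Nodes.Reps Cfsg.Agent.Nodes.RGDChev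
open Cfsg.Agent.H129.WData Cfsg.Agent.H210.EL Cfsg.Agent.H440.TD4 Cfsg.Agent.H508.KB
open scoped Classical in

/-! ### pairs of integers -/

/-- multiplication of `x + y q` -/
def pml (s t : ℤ) (x y : ℤ × ℤ) : ℤ × ℤ := (x.1 * y.1 + t * (x.2 * y.2), x.1 * y.2 + x.2 * y.1 + s * (x.2 * y.2))

/-- powers -/
def pw (s t : ℤ) (x : ℤ × ℤ) : ℕ → ℤ × ℤ
  | 0 => (1, 0)
  | n + 1 => pml s t (pw s t x n) x

section

variable {p : ℕ} {q : ZMod p} {s t : ℤ}

/-- evaluation -/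
def ev (q : ZMod p) (x : ℤ × ℤ) : ZMod p := (x.1 : ZMod p) + (x.2 : ZMod p) * q

theorem ev_mul (hq : q ^ 2 = s * q + t) (x y : ℤ × ℤ) : ev q (pml s t x y) = ev q x * ev q y := by
  unfold ev pml
  push_cast
  linear_combination -(x.2 : ZMod p) * y.2 * hq

theorem ev_pw (hq : q ^ 2 = s * q + t) (x : ℤ × ℤ) (n : ℕ) : ev q (pw s t x n) = ev q x ^ n := by
  induction n with
  | zero =>
    unfold pw ev
    push_cast
    ring
  | succ n ih =>
    show ev q (pml s t (pw s t x n) x) = _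
    rw [ev_mul hq, ih, pow_succ]

theorem ev_add (x y : ℤ × ℤ) : ev q (x + y) = ev q x + ev q y := by
  unfold ev
  rw [Prod.fst_add, Prod.snd_add]
  push_cast
  ring

theorem ev_sum {ι : Type*} (S : Finset ι) (f : ι → ℤ × ℤ) : ev q (∑ i ∈ S, f i) = ∑ i ∈ S, ev q (f i) := by
  classical
  induction S using Finset.induction_on with
  | empty =>
    unfold ev
    simp
  | insert a S ha ih => rw [Finset.sum_insert ha, Finset.sum_insert ha, ev_add, ih]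

/-- the norm -/
def nrm (s t : ℤ) (x : ℤ × ℤ) : ℤ := x.1 ^ 2 + s * x.1 * x.2 - t * x.2 ^ 2

theorem ev_norm (hq : q ^ 2 = s * q + t) (x : ℤ × ℤ) : ev q x * ev q (x.1 + s * x.2, -x.2) = (nrm s t x : ZMod p) := by
  unfold ev nrm
  push_cast
  linear_combination -(x.2 : ZMod p) ^ 2 * hq

theorem ev_ne_zero [hpp : Fact p.Prime] (hq : q ^ 2 = s * q + t) {N : ℕ} (hN : ¬ p ∣ N) {x : ℤ × ℤ} (hx : nrm s t x ∣ N) :
    ev q x ≠ 0 := by
  intro h
  have h1 := ev_norm hq x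
  rw [h, zero_mul] at h1
  have h2 : ((nrm s t x : ℤ) : ZMod p) = 0 := h1.symm
  rw [ZMod.intCast_zmod_eq_zero_iff_dvd] at h2
  have h3 := h2.trans hx
  exact hN (by exact_mod_cast h3)

/-- the functional -/
def vecq {l : ℕ} (q : ZMod p) (u : (Fin l → ℤ) × (Fin l → ℤ)) : Fin l → ZMod p :=
  fun n => (u.1 n : ZMod p) + (u.2 n : ZMod p) * q

/-- the values of the functional as a pair -/
def dt {l : ℕ} (u : (Fin l → ℤ) × (Fin l → ℤ)) (x : Fin l → ℤ) : ℤ × ℤ := (∑ n, x n * u.1 n, ∑ n, x n * u.2 n)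

theorem lam_vecq {l : ℕ} (u : (Fin l → ℤ) × (Fin l → ℤ)) (x : Fin l → ℤ) : lam (vecq q u) x = ev q (dt u x) := by
  unfold lam vecq ev dt
  push_cast
  rw [Finset.sum_mul, ← Finset.sum_add_distrib]
  refine Finset.sum_congr rfl fun n _ => ?_
  ring

/-- the matrix acts on the functional as multiplication by `m` -/
def ActP {l : ℕ} (W : Mat l) (s t : ℤ) (m : ℤ × ℤ) (u : (Fin l → ℤ) × (Fin l → ℤ)) : Prop :=
  ∀ j, dt u (W j) = pml s t m (u.1 j, u.2 j)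

instance {l : ℕ} (W : Mat l) (s t : ℤ) (m : ℤ × ℤ) (u : (Fin l → ℤ) × (Fin l → ℤ)) : Decidable (ActP W s t m u) := by
  unfold ActP; infer_instance

end

variable {D : ChevalleyDatum} {l : ℕ} {M : CoxeterMatrix (Fin l)} (hp : IsType D l M)

theorem lam_act {p : ℕ} {q : ZMod p} {s t : ℤ} (hq : q ^ 2 = s * q + t) {w : M.Group} {W : Mat l}
    (hW : ∀ j, rep M.toCoxeterSystem hp.isCartan w (sr j) = W j) {m : ℤ × ℤ} {u : (Fin l → ℤ) × (Fin l → ℤ)}
    (h : ActP W s t m u) (x : Fin l → ℤ) :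
    lam (vecq q u) (rep M.toCoxeterSystem hp.isCartan w x) = ev q m * lam (vecq q u) x := by
  have h1 := ext_sr ((lamHom (vecq q u)).comp (rep M.toCoxeterSystem hp.isCartan w).toAddMonoidHom)
    ((AddMonoidHom.mulLeft (ev q m)).comp (lamHom (vecq q u))) (fun i => by
      show lam (vecq q u) (rep M.toCoxeterSystem hp.isCartan w (sr i)) = ev q m * lam (vecq q u) (sr i)
      rw [hW i, lam_sr, lam_vecq, h i, ev_mul hq]
      rfl) x
  exact h1

theorem mem_LamU {p Q : ℕ} {s t : ℤ} (hq : (Q : ZMod p) ^ 2 = s * Q + t) {w : M.Group} {W : Mat l}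
    (hW : ∀ j, rep M.toCoxeterSystem hp.isCartan w (sr j) = W j) {u : (Fin l → ℤ) × (Fin l → ℤ)}
    (h : ActP W s t (0, 1) u) : vecq (Q : ZMod p) u ∈ LamU hp p Q w := by
  intro x
  have h1 := lam_act hp hq hW h x
  have h2 : ev (Q : ZMod p) (0, 1) = Q := by
    unfold ev
    push_cast
    ring
  rw [h2] at h1
  exact h1

theorem cv_vecq {p : ℕ} {q : ZMod p} {s t : ℤ} (hq : q ^ 2 = s * q + t) {v : M.Group} {V : Mat l}
    (hV : ∀ j, rep M.toCoxeterSystem hp.isCartan v (sr j) = V j) {m : ℤ × ℤ} {u : (Fin l → ℤ) × (Fin l → ℤ)}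
    (h : ActP V s t m u) (n : ℕ) : cv hp (vecq q u) (v ^ n) = ev q m ^ n • vecq q u := by
  apply lam_ext
  intro x
  rw [lam_cv, lam_smul']
  induction n generalizing x with
  | zero => rw [pow_zero, map_one, Module.End.one_apply, pow_zero, one_mul]
  | succ n ih =>
    rw [pow_succ v n, map_mul, Module.End.mul_apply, ih, lam_act hp hq hV h, pow_succ]
    ring

/-! ### invariants -/

/-- power sums over the roots -/
def Sk (D : ChevalleyDatum) (l : ℕ) {p : ℕ} (c : Fin l → ZMod p) (k : ℕ) : ZMod p :=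
  ∑ r ∈ Finset.range D.nroots, lam c (vec D l r) ^ k

/-- the number of the roots with value `0` -/
def Zc (D : ChevalleyDatum) (l : ℕ) {p : ℕ} (c : Fin l → ZMod p) : ℕ :=
  ∑ r ∈ Finset.range D.nroots, if lam c (vec D l r) = 0 then 1 else 0

theorem Sk_eq {p : ℕ} {q : ZMod p} {s t : ℤ} (hq : q ^ 2 = s * q + t) {u : (Fin l → ℤ) × (Fin l → ℤ)} {k : ℕ} {N : ℤ × ℤ}
    (h : ∑ r ∈ Finset.range D.nroots, pw s t (dt u (vec D l r)) k = N) : Sk D l (vecq q u) k = ev q N := by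
  rw [← h, ev_sum]
  unfold Sk
  refine Finset.sum_congr rfl fun r _ => ?_
  rw [lam_vecq, ev_pw hq]

theorem Zc_eq {p : ℕ} [hpp : Fact p.Prime] {q : ZMod p} {s t : ℤ} (hq : q ^ 2 = s * q + t) {N : ℕ} (hN : ¬ p ∣ N)
    {u : (Fin l → ℤ) × (Fin l → ℤ)}
    (h : ∀ r ∈ Finset.range D.nroots, dt u (vec D l r) = 0 ∨ nrm s t (dt u (vec D l r)) ∣ N) {z : ℕ}
    (hz : (∑ r ∈ Finset.range D.nroots, if dt u (vec D l r) = 0 then 1 else 0) = z) : Zc D l (vecq q u) = z := by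
  rw [← hz]
  unfold Zc
  refine Finset.sum_congr rfl fun r hr => ?_
  rw [lam_vecq]
  by_cases h0 : dt u (vec D l r) = 0
  · rw [if_pos h0, h0, if_pos]
    unfold ev
    simp
  · rw [if_neg h0, if_neg]
    exact ev_ne_zero hq hN ((h r hr).resolve_left h0)

theorem Sk_smul {p : ℕ} (i : ZMod p) (c : Fin l → ZMod p) (k : ℕ) : Sk D l (i • c) k = i ^ k * Sk D l c k := by
  unfold Sk
  rw [Finset.mul_sum]
  refine Finset.sum_congr rfl fun r _ => ?_
  rw [lam_smul', mul_pow]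

theorem Zc_smul {p : ℕ} [hpp : Fact p.Prime] {i : ZMod p} (hi : i ≠ 0) (c : Fin l → ZMod p) :
    Zc D l (i • c) = Zc D l c := by
  unfold Zc
  refine Finset.sum_congr rfl fun r _ => ?_
  rw [lam_smul']
  by_cases h : lam c (vec D l r) = 0
  · rw [if_pos h, h, mul_zero, if_pos rfl]
  · rw [if_neg h, if_neg (mul_ne_zero hi h)]

section

variable {hp}
variable {p Q d : ℕ} [hpp : Fact p.Prime] {w : M.Group} {S : Type*} [Group S] {X : (Fin l → ZMod p) → S}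
  (H : ModelS hp p Q w d X)

include H

theorem ModelS.zero : X 0 = 1 := by
  have h0 : (0 : Fin l → ZMod p) ∈ LamU hp p Q w := by
    intro x
    unfold lam
    simp
  have h1 := H.add 0 h0 0 h0
  rw [add_zero] at h1
  exact mul_eq_left.1 h1.symm

theorem ModelS.npow {c : Fin l → ZMod p} (hc : c ∈ LamU hp p Q w) (i : ℕ) : X c ^ i = X ((i : ZMod p) • c) := by
  induction i with
  | zero => rw [pow_zero, Nat.cast_zero, zero_smul, H.zero]
  | succ i ih =>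
    rw [pow_succ, ih, ← H.add _ (Lam.smul hp _ hc) _ hc]
    congr 1
    rw [Nat.cast_succ, add_smul, one_smul]

theorem ModelS.Sk_conj {c c' : Fin l → ZMod p} (hc : c ∈ LamU hp p Q w) (hc' : c' ∈ LamU hp p Q w) {g : S}
    (h : g * X c * g⁻¹ = X c') (k : ℕ) : Sk D l c k = Sk D l c' k := by
  obtain ⟨w', hw'⟩ := H.fus c hc c' hc' g h
  unfold Sk
  rw [← sum_rep hp (fun a => lam c' a ^ k) w']
  refine Finset.sum_congr rfl fun r _ => ?_
  rw [hw']

theorem ModelS.Zc_conj {c c' : Fin l → ZMod p} (hc : c ∈ LamU hp p Q w) (hc' : c' ∈ LamU hp p Q w) {g : S}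
    (h : g * X c * g⁻¹ = X c') : Zc D l c = Zc D l c' := by
  obtain ⟨w', hw'⟩ := H.fus c hc c' hc' g h
  unfold Zc
  rw [← sum_rep hp (fun a => if lam c' a = 0 then 1 else 0) w']
  refine Finset.sum_congr rfl fun r _ => ?_
  rw [hw']

theorem ModelS.fus_pow {c : Fin l → ZMod p} (hc : c ∈ LamU hp p Q w) {k : ℕ} (hk : Sk D l c k ≠ 0) (g : S) (i : ℕ)
    (h : g * X c * g⁻¹ = X c ^ i) : (i : ZMod p) ^ k = 1 := by
  rw [H.npow hc] at h
  have h1 := H.Sk_conj hc (Lam.smul hp _ hc) h k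
  rw [Sk_smul] at h1
  exact mul_right_cancel₀ hk (by rw [one_mul]; exact h1.symm)

theorem ModelS.ne_one {c : Fin l → ZMod p} (hc : c ∈ LamU hp p Q w) {k : ℕ} (hk0 : k ≠ 0) (hk : Sk D l c k ≠ 0) :
    X c ≠ 1 := by
  intro h
  apply hk
  rw [H.inj c hc h]
  unfold Sk
  refine Finset.sum_eq_zero fun r _ => ?_
  rw [lam_zero', zero_pow hk0]
where
  lam_zero' {x : Fin l → ℤ} : lam (0 : Fin l → ZMod p) x = 0 := by
    unfold lam
    simp

theorem ModelS.order {c : Fin l → ZMod p} (hc : c ∈ LamU hp p Q w) {k : ℕ} (hk0 : k ≠ 0) (hk : Sk D l c k ≠ 0) :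
    orderOf (X c) = p :=
  orderOf_eq_prime (H.pow c hc) (H.ne_one hc hk0 hk)

theorem ModelS.ne_pow {c c' : Fin l → ZMod p} (hc : c ∈ LamU hp p Q w) (hc' : c' ∈ LamU hp p Q w) {k : ℕ} (hk0 : k ≠ 0)
    (hk : Sk D l c k ≠ 0) (hz : Zc D l c ≠ Zc D l c') (g : S) (i : ℕ) : g * X c * g⁻¹ ≠ X c' ^ i := by
  intro h
  by_cases hi : (i : ZMod p) = 0
  · rw [H.npow hc', hi, zero_smul, H.zero, conj_eq_one_iff] at h
    exact H.ne_one hc hk0 hk h
  · rw [H.npow hc'] at h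
    exact hz ((H.Zc_conj hc (Lam.smul hp _ hc') h).trans (Zc_smul hi c'))

end

/-! ### `l(B₀(C(x))) ≥ 2` -/

section rank

variable {p : ℕ} [hpp : Fact p.Prime] {N : Ideal AlgInt}

theorem two_le_rank_cent {S : Type*} [Group S] [Finite S] (hM : IsPModular p N) (x y m : S) (hxy : Commute x y)
    (hy1 : y ≠ 1) (hyp : y ^ p = 1) (hmx : Commute m x) (n : ℕ) (hn : (n : ZMod p) ≠ 1) (hm : m * y * m⁻¹ = y ^ n) :
    2 ≤ blockRank p (principalBlock N ↥(Subgroup.centralizer ({x} : Set S))) := by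
  have hp1 : p.Prime := hpp.out
  let C := Subgroup.centralizer ({x} : Set S)
  have hyC : y ∈ C := Subgroup.mem_centralizer_singleton_iff.2 hxy.symm.eq
  have hmC : m ∈ C := Subgroup.mem_centralizer_singleton_iff.2 hmx.eq
  -- the p'-part
  obtain ⟨k, t, ht, hkt⟩ : ∃ k t : ℕ, ¬ p ∣ t ∧ orderOf m = p ^ k * t :=
    Nat.exists_eq_pow_mul_and_not_dvd (orderOf_pos m).ne' p hp1.ne_one
  have hc0 : (m ^ p ^ k) ^ t = 1 := by rw [← pow_mul, ← hkt, pow_orderOf_eq_one]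
  have hact : ∀ j : ℕ, m ^ j * y * (m ^ j)⁻¹ = y ^ n ^ j := by
    intro j
    induction j with
    | zero => rw [pow_zero, pow_zero, one_mul, inv_one, mul_one, pow_one]
    | succ j ih =>
      rw [pow_succ', mul_inv_rev]
      calc m * m ^ j * y * ((m ^ j)⁻¹ * m⁻¹) = m * (m ^ j * y * (m ^ j)⁻¹) * m⁻¹ := by group
        _ = (m * y * m⁻¹) ^ n ^ j := by rw [ih, conj_pow]
        _ = y ^ n ^ (j + 1) := by rw [hm, ← pow_mul, ← pow_succ']
  let c : C := ⟨m ^ p ^ k, pow_mem hmC _⟩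
  let y' : C := ⟨y, hyC⟩
  have hcy : c * y' * c⁻¹ = y' ^ n ^ p ^ k := Subtype.ext (hact (p ^ k))
  have hy'p : y' ^ p = 1 := Subtype.ext hyp
  refine Cfsg.Agent.H296.KB.two_le_rank (C := C) hM (Subgroup.zpowers y') ?_ c ?_ ?_ y' (Subgroup.mem_zpowers _) ?_
  · rintro ⟨_, j, rfl⟩
    refine ⟨1, Subtype.ext ?_⟩
    show (y' ^ j) ^ p ^ 1 = 1
    rw [pow_one, ← zpow_natCast, zpow_comm, zpow_natCast, hy'p, one_zpow]
  · intro hd
    apply ht
    refine hd.trans (orderOf_dvd_of_pow_eq_one ?_)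
    exact Subtype.ext hc0
  · rintro _ ⟨j, rfl⟩
    refine ⟨(n ^ p ^ k : ℕ) * j, ?_⟩
    show y' ^ (((n ^ p ^ k : ℕ) : ℤ) * j) = c * y' ^ j * c⁻¹
    rw [← conj_zpow, hcy, zpow_mul, zpow_natCast]
  · intro h
    apply hn
    have h1 : c * y' * c⁻¹ = y' := by rw [h, mul_inv_cancel_right]
    rw [hcy] at h1
    have h2 : y ^ n ^ p ^ k = y ^ 1 := by
      rw [pow_one]
      exact congrArg Subtype.val h1
    have h3 : orderOf y = p := orderOf_eq_prime hyp hy1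
    rw [pow_eq_pow_iff_modEq, h3, ← ZMod.natCast_eq_natCast_iff] at h2
    push_cast at h2
    rw [ZMod.pow_card_pow] at h2
    exact h2

end rank

end Cfsg.Agent.H567.KB

private theorem dce_7e619bc70e54 : _root_.True := by
  try have : _root_.True := by simp only [_root_.Cfsg.Agent.H567.KB.pw.eq_def]
  exact _root_.True.intro
end

-- part: H567/KB/LineB
section
prune_inst 0x431507d6571621200001c2096d3201ce69f0004b2006b8c01fde50f46078fdf6ba8c7af616f603f17c33aaa65003d0060031001e9425000000e000e00411d01a0988a5602f3c9a10ce6009f809182000000000000000000000000000000041004000000000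
set_option linter.all false
open scoped Cfsg.Agent.FastGrp

/-!
# Blocks from a line of the torus model (S4822, KE4; helper567)

* `commW_of_chain` : commuting elements of the Weyl group from chains;
* `Line` : a line `⟨X c⟩` with an element centralising `X c` and acting on `X y`;
* `ModelS.two_le_line`, `ModelS.two_le` : `l(B₀(C(X c))) ≥ 2`, `l(B₀(S)) ≥ 2`.
-/

set_option autoImplicit false
set_option linter.unusedSectionVars false

namespace Cfsg.Agent.H567.KB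

open CoxeterSystem Cfsg Cfsg.Lie Cfsg.Lie.ChevalleyDatum
open Cfsg.Agent.ChevalleyStructure.CoxeterGeom Cfsg.Agent.ChevalleyStructure.CoxeterGeomTypes
open Cfsg.Agent.Tits.Roots Cfsg.Agent.Tits.Core Cfsg.Agent.Nodes Cfsg.Agent.Nodes.Reps Cfsg.Agent.Nodes.RGDChev
open Cfsg.Agent.H129.WData Cfsg.Agent.H210.EL Cfsg.Agent.H440.TD4 Cfsg.Agent.H508.KB

variable {D : ChevalleyDatum} {l : ℕ} {M : CoxeterMatrix (Fin l)} (hp : IsType D l M)

/-- the element of a chain -/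
def wo (M : CoxeterMatrix (Fin l)) (C : List (Fin l × Mat l)) : M.Group :=
  M.toCoxeterSystem.wordProd (C.map Prod.fst)

theorem rep_wo {A : Mat l} (hA : ∀ i j, A i j = cartanOf D l i j) {C : List (Fin l × Mat l)} (h : ChainOK A C)
    (j : Fin l) : rep M.toCoxeterSystem hp.isCartan (wo M C) (sr j) = hd C j :=
  chain_rep hp M.toCoxeterSystem hA h j

theorem commW_wo {A : Mat l} (hA : ∀ i j, A i j = cartanOf D l i j) {Cv Cw : List (Fin l × Mat l)} (hv : ChainOK A Cv)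
    (hw : ChainOK A Cw) (hc : CommOK (hd Cv) (hd Cw)) : CommW hp (wo M Cv) (wo M Cw) := by
  have key : ∀ (W : M.Group) (Wm : Mat l), (∀ j, rep M.toCoxeterSystem hp.isCartan W (sr j) = Wm j) →
      ∀ (x : Fin l → ℤ) (m : Fin l), rep M.toCoxeterSystem hp.isCartan W x m = ∑ n, x n * Wm n m :=
    fun W Wm h x m => Cfsg.Agent.H795.TorsData.rep_of_sr hp M.toCoxeterSystem h x m
  have hV := key _ _ (rep_wo hp hA hv)
  have hW := key _ _ (rep_wo hp hA hw)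
  intro x
  funext m
  rw [hV, hW]
  simp only [hV, hW, Finset.sum_mul, Finset.mul_sum]
  rw [Finset.sum_comm]
  conv_rhs => rw [Finset.sum_comm]
  refine Finset.sum_congr rfl fun j _ => ?_
  have h1 := hc j m
  have h2 : x j * ∑ n, hd Cv j n * hd Cw n m = x j * ∑ n, hd Cw j n * hd Cv n m := by rw [h1]
  rw [Finset.mul_sum, Finset.mul_sum] at h2
  simp only [mul_assoc]
  exact h2.symm

section

variable {hp}
variable {p Q d : ℕ} [hpp : Fact p.Prime] {w : M.Group} {S : Type*} [Group S] [Finite S] {X : (Fin l → ZMod p) → S}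
  {N : Ideal AlgInt}

/-- the element acting on a line -/
theorem ModelS.exists_act (H : ModelS hp p Q w d X) {v : M.Group} (hv : CommW hp v w) {y : Fin l → ZMod p}
    (hy : y ∈ LamU hp p Q w) {μ : ZMod p} (hyv : cv hp y (v ^ d) = μ • y) (hμ : μ ≠ 1) :
    ∃ m : S, (∀ c ∈ LamU hp p Q w, cv hp c (v ^ d) = c → Commute m (X c)) ∧
      ∃ n : ℕ, (n : ZMod p) ≠ 1 ∧ m * X y * m⁻¹ = X y ^ n := by
  obtain ⟨m, hm⟩ := H.act v hv
  have : NeZero p := ⟨hpp.out.ne_zero⟩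
  refine ⟨m⁻¹, fun c hc h1 => ?_, μ.val, ?_, ?_⟩
  · have h2 := hm c hc
    rw [h1] at h2
    have h3 : m * X c = X c * m := by
      calc m * X c = m * X c * m⁻¹ * m := by group
        _ = X c * m := by rw [h2]
    exact (show Commute m (X c) from h3).inv_left
  · rw [ZMod.natCast_val, ZMod.cast_id]
    exact hμ
  · have h2 := hm y hy
    rw [hyv] at h2
    rw [H.npow hy, ZMod.natCast_val, ZMod.cast_id, ← h2]
    group

theorem ModelS.commute (H : ModelS hp p Q w d X) {c c' : Fin l → ZMod p} (hc : c ∈ LamU hp p Q w)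
    (hc' : c' ∈ LamU hp p Q w) : Commute (X c) (X c') := by
  show X c * X c' = X c' * X c
  rw [← H.add c hc c' hc', add_comm, H.add c' hc' c hc]

theorem ModelS.two_le_line (hM : IsPModular p N) (H : ModelS hp p Q w d X) {v : M.Group} (hv : CommW hp v w)
    {y : Fin l → ZMod p} (hy : y ∈ LamU hp p Q w) (hy0 : y ≠ 0) {μ : ZMod p} (hyv : cv hp y (v ^ d) = μ • y) (hμ : μ ≠ 1)
    {c : Fin l → ZMod p} (hc : c ∈ LamU hp p Q w) (hcv : cv hp c (v ^ d) = c) :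
    2 ≤ blockRank p (principalBlock N ↥(Subgroup.centralizer ({X c} : Set S))) := by
  obtain ⟨m, hm1, n, hn, hmy⟩ := H.exists_act hv hy hyv hμ
  exact two_le_rank_cent hM (X c) (X y) m (H.commute hc hy) (fun h => hy0 (H.inj y hy h)) (H.pow y hy) (hm1 c hc hcv) n hn
    hmy

end

section rank

variable {p : ℕ} [hpp : Fact p.Prime] {N : Ideal AlgInt}

theorem two_le_rank_of {S : Type*} [Group S] [Finite S] (hM : IsPModular p N) (y m : S) (hy1 : y ≠ 1) (hyp : y ^ p = 1)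
    (n : ℕ) (hn : (n : ZMod p) ≠ 1) (hm : m * y * m⁻¹ = y ^ n) : 2 ≤ blockRank p (principalBlock N S) := by
  have hp1 : p.Prime := hpp.out
  obtain ⟨k, t, ht, hkt⟩ : ∃ k t : ℕ, ¬ p ∣ t ∧ orderOf m = p ^ k * t :=
    Nat.exists_eq_pow_mul_and_not_dvd (orderOf_pos m).ne' p hp1.ne_one
  have hc0 : (m ^ p ^ k) ^ t = 1 := by rw [← pow_mul, ← hkt, pow_orderOf_eq_one]
  have hact : ∀ j : ℕ, m ^ j * y * (m ^ j)⁻¹ = y ^ n ^ j := by
    intro j
    induction j with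
    | zero => rw [pow_zero, pow_zero, one_mul, inv_one, mul_one, pow_one]
    | succ j ih =>
      rw [pow_succ', mul_inv_rev]
      calc m * m ^ j * y * ((m ^ j)⁻¹ * m⁻¹) = m * (m ^ j * y * (m ^ j)⁻¹) * m⁻¹ := by group
        _ = (m * y * m⁻¹) ^ n ^ j := by rw [ih, conj_pow]
        _ = y ^ n ^ (j + 1) := by rw [hm, ← pow_mul, ← pow_succ']
  have hcy := hact (p ^ k)
  refine Cfsg.Agent.H296.KB.two_le_rank (C := S) hM (Subgroup.zpowers y) ?_ (m ^ p ^ k) ?_ ?_ y (Subgroup.mem_zpowers _) ?_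
  · rintro ⟨_, j, rfl⟩
    refine ⟨1, Subtype.ext ?_⟩
    show (y ^ j) ^ p ^ 1 = 1
    rw [pow_one, ← zpow_natCast, zpow_comm, zpow_natCast, hyp, one_zpow]
  · intro hd
    exact ht (hd.trans (orderOf_dvd_of_pow_eq_one hc0))
  · rintro _ ⟨j, rfl⟩
    refine ⟨(n ^ p ^ k : ℕ) * j, ?_⟩
    show y ^ (((n ^ p ^ k : ℕ) : ℤ) * j) = m ^ p ^ k * y ^ j * (m ^ p ^ k)⁻¹
    rw [← conj_zpow, hcy, zpow_mul, zpow_natCast]
  · intro h
    apply hn
    have h1 : m ^ p ^ k * y * (m ^ p ^ k)⁻¹ = y := by rw [h, mul_inv_cancel_right]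
    rw [hcy] at h1
    have h2 : y ^ n ^ p ^ k = y ^ 1 := by
      rw [pow_one]
      exact h1
    have h3 : orderOf y = p := orderOf_eq_prime hyp hy1
    rw [pow_eq_pow_iff_modEq, h3, ← ZMod.natCast_eq_natCast_iff] at h2
    push_cast at h2
    rw [ZMod.pow_card_pow] at h2
    exact h2

end rank

section

variable {hp}
variable {p Q d : ℕ} [hpp : Fact p.Prime] {w : M.Group} {S : Type*} [Group S] [Finite S] {X : (Fin l → ZMod p) → S}
  {N : Ideal AlgInt}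

theorem ModelS.two_le (hM : IsPModular p N) (H : ModelS hp p Q w d X) {v : M.Group} (hv : CommW hp v w)
    {y : Fin l → ZMod p} (hy : y ∈ LamU hp p Q w) (hy0 : y ≠ 0) {μ : ZMod p} (hyv : cv hp y (v ^ d) = μ • y) (hμ : μ ≠ 1) :
    2 ≤ blockRank p (principalBlock N S) := by
  obtain ⟨m, hm1, n, hn, hmy⟩ := H.exists_act hv hy hyv hμ
  exact two_le_rank_of hM (X y) m (fun h => hy0 (H.inj y hy h)) (H.pow y hy) n hn hmy

end

end Cfsg.Agent.H567.KB
end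

-- part: H567/KB/E7Data
section
prune_inst 0x431507d6575621200001c2096f3201ee7ff0005b2006b8c00fde70f460fcfdf6ba8c3af61fff03f17d3feb2f5383dc060031001f9421000002e00be00411f01a09caf7ea2f7fdbf0cff009fc0f987180c00000000000000000000000000041004000000000
set_option linter.all false
private noncomputable def lq2647a118f1 {T : Sort _} (f :
    type_of% (@_root_.Matrix.vecCons.{0}) →
    ((Int) → (Int)) →
    type_of% (@_root_.Matrix.vecEmpty.{0}) →
    type_of% (@_root_.Prod.mk.{0, 0}) →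
    type_of% (@_root_.List.cons.{0}) →
    type_of% (@_root_.List.nil.{0}) → T) : T :=
  f (@_root_.Matrix.vecCons.{0}) (fun x => x) (@_root_.Matrix.vecEmpty.{0}) (@_root_.Prod.mk.{0, 0}) (@_root_.List.cons.{0}) (@_root_.List.nil.{0})

/-!
# Weyl group data of `E₇` (S4822, KE4; helper567)

`w3` of type `A₂ × A₂ × A₂` (order 3), `w6` its negative, `w4` of type `A₃ × A₃` (order 4), `v3`, `v4` the last factors.
-/

set_option autoImplicit false
set_option maxRecDepth 100000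
set_option maxHeartbeats 8000000

namespace Cfsg.Agent.H567.KB.E7

open Cfsg Cfsg.Lie Cfsg.Lie.ChevalleyDatum
open Cfsg.Agent.ChevalleyStructure.CoxeterGeomTypes Cfsg.Agent.Nodes.RGDChev Cfsg.Agent.H129.WData
open Cfsg.Agent.H567.KB

/-- the Cartan matrix -/
def Am : Mat 7 := (beta% delta% lq2647a118f1 fun a b c _ _ _ =>
 (a (a (2 :type_of% (b _))<|a (0 :type_of% (b _))<|a (-1 :type_of% (b _))<|a (0 :type_of% (b _))<|a (0 :type_of% (b _))<|a (0 :type_of% (b _))<|a (0 :type_of% (b _))<|c)<|a (a (0 :type_of% (b _))<|a (2 :type_of% (b _))<|a (0 :type_of% (b _))<|a (-1 :type_of% (b _))<|a (0 :type_of% (b _))<|a (0 :type_of% (b _))<|a (0 :type_of% (b _))<|c)<|a (a (-1 :type_of% (b _))<|a (0 :type_of% (b _))<|a (2 :type_of% (b _))<|a (-1 :type_of% (b _))<|a (0 :type_of% (b _))<|a (0 :type_of% (b _))<|a (0 :type_of% (b _))<|c)<|a (a (0 :type_of% (b _))<|a (-1 :type_of% (b _))<|a (-1 :type_of% (b _))<|a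 (2 :type_of% (b _))<|a (-1 :type_of% (b _))<|a (0 :type_of% (b _))<|a (0 :type_of% (b _))<|c)<|a (a (0 :type_of% (b _))<|a (0 :type_of% (b _))<|a (0 :type_of% (b _))<|a (-1 :type_of% (b _))<|a (2 :type_of% (b _))<|a (-1 :type_of% (b _))<|a (0 :type_of% (b _))<|c)<|a (a (0 :type_of% (b _))<|a (0 :type_of% (b _))<|a (0 :type_of% (b _))<|a (0 :type_of% (b _))<|a (-1 :type_of% (b _))<|a (2 :type_of% (b _))<|a (-1 :type_of% (b _))<|c)<|a (a (0 :type_of% (b _))<|a (0 :type_of% (b _))<|a (0 :type_of% (b _))<|a (0 :type_of% (b _))<|a (0 :type_of% (b _))<|a (-1 :type_of% (b _))<|a (2 :type_of% (b _))<|c)<|c))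

/-- type `3 A₂` -/
def w3 : List (Fin 7 × Mat 7) := [
    (0, ![![(1:ℤ), (2:ℤ), (3:ℤ), (4:ℤ), (3:ℤ), (2:ℤ), (1:ℤ)], ![(0:ℤ), (0:ℤ), (0:ℤ), (1:ℤ), (0:ℤ), (0:ℤ), (0:ℤ)], ![(-1:ℤ), (-1:ℤ), (-2:ℤ), (-3:ℤ), (-3:ℤ), (-2:ℤ), (-1:ℤ)], ![(0:ℤ), (-1:ℤ), (0:ℤ), (-1:ℤ), (0:ℤ), (0:ℤ), (0:ℤ)], ![(0:ℤ), (1:ℤ), (0:ℤ), (1:ℤ), (1:ℤ), (1:ℤ), (0:ℤ)], ![(0:ℤ), (0:ℤ), (0:ℤ), (0:ℤ), (0:ℤ), (0:ℤ), (1:ℤ)], ![(0:ℤ), (0:ℤ), (0:ℤ), (0:ℤ), (0:ℤ), (-1:ℤ), (-1:ℤ)]]),
    (1, ![![(2:ℤ), (2:ℤ), (3:ℤ), (4:ℤ), (3:ℤ), (2:ℤ), (1:ℤ)], ![(0:ℤ), (0:ℤ), (0:ℤ), (1:ℤ), (0:ℤ), (0:ℤ), (0:ℤ)], ![(-1:ℤ), (-1:ℤ), (-2:ℤ), (-3:ℤ), (-3:ℤ), (-2:ℤ), (-1:ℤ)], ![(0:ℤ), (-1:ℤ), (0:ℤ), (-1:ℤ), (0:ℤ), (0:ℤ), (0:ℤ)], ![(0:ℤ), (1:ℤ), (0:ℤ), (1:ℤ), (1:ℤ), (1:ℤ), (0:ℤ)], ![(0:ℤ), (0:ℤ), (0:ℤ), (0:ℤ), (0:ℤ), (0:ℤ), (1:ℤ)], ![(0:ℤ), (0:ℤ), (0:ℤ), (0:ℤ), (0:ℤ), (-1:ℤ), (-1:ℤ)]]),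
    (2, ![![(2:ℤ), (2:ℤ), (3:ℤ), (4:ℤ), (3:ℤ), (2:ℤ), (1:ℤ)], ![(0:ℤ), (1:ℤ), (0:ℤ), (1:ℤ), (0:ℤ), (0:ℤ), (0:ℤ)], ![(-1:ℤ), (-2:ℤ), (-2:ℤ), (-3:ℤ), (-3:ℤ), (-2:ℤ), (-1:ℤ)], ![(0:ℤ), (0:ℤ), (0:ℤ), (-1:ℤ), (0:ℤ), (0:ℤ), (0:ℤ)], ![(0:ℤ), (0:ℤ), (0:ℤ), (1:ℤ), (1:ℤ), (1:ℤ), (0:ℤ)], ![(0:ℤ), (0:ℤ), (0:ℤ), (0:ℤ), (0:ℤ), (0:ℤ), (1:ℤ)], ![(0:ℤ), (0:ℤ), (0:ℤ), (0:ℤ), (0:ℤ), (-1:ℤ), (-1:ℤ)]]),
    (3, ![![(2:ℤ), (2:ℤ), (3:ℤ), (4:ℤ), (3:ℤ), (2:ℤ), (1:ℤ)], ![(0:ℤ), (1:ℤ), (1:ℤ), (1:ℤ), (0:ℤ), (0:ℤ), (0:ℤ)], ![(-1:ℤ), (-2:ℤ), (-2:ℤ), (-3:ℤ), (-3:ℤ), (-2:ℤ), (-1:ℤ)], ![(0:ℤ), (0:ℤ), (-1:ℤ), (-1:ℤ), (0:ℤ), (0:ℤ), (0:ℤ)], ![(0:ℤ), (0:ℤ), (1:ℤ), (1:ℤ), (1:ℤ), (1:ℤ), (0:ℤ)], ![(0:ℤ), (0:ℤ), (0:ℤ), (0:ℤ), (0:ℤ), (0:ℤ), (1:ℤ)], ![(0:ℤ), (0:ℤ), (0:ℤ), (0:ℤ), (0:ℤ), (-1:ℤ), (-1:ℤ)]]),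
    (1, ![![(2:ℤ), (2:ℤ), (3:ℤ), (4:ℤ), (3:ℤ), (2:ℤ), (1:ℤ)], ![(0:ℤ), (1:ℤ), (1:ℤ), (1:ℤ), (0:ℤ), (0:ℤ), (0:ℤ)], ![(-1:ℤ), (-2:ℤ), (-2:ℤ), (-4:ℤ), (-3:ℤ), (-2:ℤ), (-1:ℤ)], ![(0:ℤ), (0:ℤ), (-1:ℤ), (0:ℤ), (0:ℤ), (0:ℤ), (0:ℤ)], ![(0:ℤ), (0:ℤ), (1:ℤ), (1:ℤ), (1:ℤ), (1:ℤ), (0:ℤ)], ![(0:ℤ), (0:ℤ), (0:ℤ), (0:ℤ), (0:ℤ), (0:ℤ), (1:ℤ)], ![(0:ℤ), (0:ℤ), (0:ℤ), (0:ℤ), (0:ℤ), (-1:ℤ), (-1:ℤ)]]),
    (2, ![![(2:ℤ), (2:ℤ), (3:ℤ), (4:ℤ), (3:ℤ), (2:ℤ), (1:ℤ)], ![(0:ℤ), (0:ℤ), (1:ℤ), (1:ℤ), (0:ℤ), (0:ℤ), (0:ℤ)], ![(-1:ℤ), (-2:ℤ), (-2:ℤ), (-4:ℤ), (-3:ℤ), (-2:ℤ), (-1:ℤ)], ![(0:ℤ), (0:ℤ), (-1:ℤ), (0:ℤ), (0:ℤ), (0:ℤ), (0:ℤ)], ![(0:ℤ), (1:ℤ), (1:ℤ), (1:ℤ), (1:ℤ), (1:ℤ), (0:ℤ)], ![(0:ℤ), (0:ℤ), (0:ℤ), (0:ℤ), (0:ℤ), (0:ℤ), (1:ℤ)], ![(0:ℤ), (0:ℤ), (0:ℤ), (0:ℤ), (0:ℤ), (-1:ℤ), (-1:ℤ)]]),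
    (4, ![![(2:ℤ), (2:ℤ), (3:ℤ), (4:ℤ), (3:ℤ), (2:ℤ), (1:ℤ)], ![(0:ℤ), (0:ℤ), (0:ℤ), (1:ℤ), (0:ℤ), (0:ℤ), (0:ℤ)], ![(-1:ℤ), (-2:ℤ), (-3:ℤ), (-4:ℤ), (-3:ℤ), (-2:ℤ), (-1:ℤ)], ![(0:ℤ), (0:ℤ), (1:ℤ), (0:ℤ), (0:ℤ), (0:ℤ), (0:ℤ)], ![(0:ℤ), (1:ℤ), (0:ℤ), (1:ℤ), (1:ℤ), (1:ℤ), (0:ℤ)], ![(0:ℤ), (0:ℤ), (0:ℤ), (0:ℤ), (0:ℤ), (0:ℤ), (1:ℤ)], ![(0:ℤ), (0:ℤ), (0:ℤ), (0:ℤ), (0:ℤ), (-1:ℤ), (-1:ℤ)]]),
    (3, ![![(2:ℤ), (2:ℤ), (3:ℤ), (4:ℤ), (3:ℤ), (2:ℤ), (1:ℤ)], ![(0:ℤ), (0:ℤ), (0:ℤ), (1:ℤ), (1:ℤ), (0:ℤ), (0:ℤ)], ![(-1:ℤ), (-2:ℤ), (-3:ℤ), (-4:ℤ), (-3:ℤ), (-2:ℤ), (-1:ℤ)], ![(0:ℤ), (0:ℤ), (1:ℤ), (0:ℤ), (0:ℤ), (0:ℤ), (0:ℤ)], ![(0:ℤ), (1:ℤ), (0:ℤ), (1:ℤ), (1:ℤ), (1:ℤ), (0:ℤ)], ![(0:ℤ), (0:ℤ), (0:ℤ), (0:ℤ), (0:ℤ), (0:ℤ), (1:ℤ)], ![(0:ℤ), (0:ℤ), (0:ℤ), (0:ℤ), (-1:ℤ), (-1:ℤ), (-1:ℤ)]]),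
    (2, ![![(2:ℤ), (2:ℤ), (3:ℤ), (4:ℤ), (3:ℤ), (2:ℤ), (1:ℤ)], ![(0:ℤ), (0:ℤ), (0:ℤ), (0:ℤ), (1:ℤ), (0:ℤ), (0:ℤ)], ![(-1:ℤ), (-2:ℤ), (-3:ℤ), (-4:ℤ), (-3:ℤ), (-2:ℤ), (-1:ℤ)], ![(0:ℤ), (0:ℤ), (1:ℤ), (1:ℤ), (0:ℤ), (0:ℤ), (0:ℤ)], ![(0:ℤ), (1:ℤ), (0:ℤ), (1:ℤ), (1:ℤ), (1:ℤ), (0:ℤ)], ![(0:ℤ), (0:ℤ), (0:ℤ), (0:ℤ), (0:ℤ), (0:ℤ), (1:ℤ)], ![(0:ℤ), (0:ℤ), (0:ℤ), (-1:ℤ), (-1:ℤ), (-1:ℤ), (-1:ℤ)]]),
    (0, ![![(2:ℤ), (2:ℤ), (3:ℤ), (4:ℤ), (3:ℤ), (2:ℤ), (1:ℤ)], ![(0:ℤ), (0:ℤ), (0:ℤ), (0:ℤ), (1:ℤ), (0:ℤ), (0:ℤ)], ![(-1:ℤ), (-2:ℤ), (-2:ℤ), (-4:ℤ), (-3:ℤ), (-2:ℤ), (-1:ℤ)], ![(0:ℤ), (0:ℤ), (0:ℤ), (1:ℤ), (0:ℤ), (0:ℤ), (0:ℤ)], ![(0:ℤ), (1:ℤ), (1:ℤ), (1:ℤ), (1:ℤ), (1:ℤ), (0:ℤ)], ![(0:ℤ), (0:ℤ), (0:ℤ), (0:ℤ), (0:ℤ), (0:ℤ), (1:ℤ)], ![(0:ℤ), (0:ℤ), (-1:ℤ), (-1:ℤ), (-1:ℤ), (-1:ℤ), (-1:ℤ)]]),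
    (5, ![![(1:ℤ), (2:ℤ), (3:ℤ), (4:ℤ), (3:ℤ), (2:ℤ), (1:ℤ)], ![(0:ℤ), (0:ℤ), (0:ℤ), (0:ℤ), (1:ℤ), (0:ℤ), (0:ℤ)], ![(-1:ℤ), (-2:ℤ), (-2:ℤ), (-4:ℤ), (-3:ℤ), (-2:ℤ), (-1:ℤ)], ![(0:ℤ), (0:ℤ), (0:ℤ), (1:ℤ), (0:ℤ), (0:ℤ), (0:ℤ)], ![(1:ℤ), (1:ℤ), (1:ℤ), (1:ℤ), (1:ℤ), (1:ℤ), (0:ℤ)], ![(0:ℤ), (0:ℤ), (0:ℤ), (0:ℤ), (0:ℤ), (0:ℤ), (1:ℤ)], ![(-1:ℤ), (0:ℤ), (-1:ℤ), (-1:ℤ), (-1:ℤ), (-1:ℤ), (-1:ℤ)]]),
    (4, ![![(1:ℤ), (2:ℤ), (3:ℤ), (4:ℤ), (3:ℤ), (2:ℤ), (1:ℤ)], ![(0:ℤ), (0:ℤ), (0:ℤ), (0:ℤ), (1:ℤ), (1:ℤ), (0:ℤ)], ![(-1:ℤ), (-2:ℤ), (-2:ℤ), (-4:ℤ), (-3:ℤ), (-2:ℤ), (-1:ℤ)], ![(0:ℤ), (0:ℤ), (0:ℤ), (1:ℤ), (0:ℤ), (0:ℤ), (0:ℤ)], ![(1:ℤ), (1:ℤ), (1:ℤ), (1:ℤ), (1:ℤ), (0:ℤ), (0:ℤ)], ![(0:ℤ), (0:ℤ), (0:ℤ), (0:ℤ), (0:ℤ), (1:ℤ), (1:ℤ)], ![(-1:ℤ), (0:ℤ), (-1:ℤ), (-1:ℤ), (-1:ℤ), (-1:ℤ), (-1:ℤ)]]),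
    (3, ![![(1:ℤ), (2:ℤ), (3:ℤ), (4:ℤ), (3:ℤ), (2:ℤ), (1:ℤ)], ![(0:ℤ), (0:ℤ), (0:ℤ), (0:ℤ), (0:ℤ), (1:ℤ), (0:ℤ)], ![(-1:ℤ), (-2:ℤ), (-2:ℤ), (-4:ℤ), (-3:ℤ), (-2:ℤ), (-1:ℤ)], ![(0:ℤ), (0:ℤ), (0:ℤ), (1:ℤ), (1:ℤ), (0:ℤ), (0:ℤ)], ![(1:ℤ), (1:ℤ), (1:ℤ), (1:ℤ), (0:ℤ), (0:ℤ), (0:ℤ)], ![(0:ℤ), (0:ℤ), (0:ℤ), (0:ℤ), (1:ℤ), (1:ℤ), (1:ℤ)], ![(-1:ℤ), (0:ℤ), (-1:ℤ), (-1:ℤ), (-1:ℤ), (-1:ℤ), (-1:ℤ)]]),
    (1, ![![(1:ℤ), (2:ℤ), (3:ℤ), (4:ℤ), (3:ℤ), (2:ℤ), (1:ℤ)], ![(0:ℤ), (0:ℤ), (0:ℤ), (0:ℤ), (0:ℤ), (1:ℤ), (0:ℤ)], ![(-1:ℤ), (-2:ℤ), (-2:ℤ), (-3:ℤ), (-3:ℤ), (-2:ℤ), (-1:ℤ)], ![(0:ℤ), (0:ℤ), (0:ℤ), (0:ℤ), (1:ℤ), (0:ℤ), (0:ℤ)], ![(1:ℤ), (1:ℤ), (1:ℤ), (1:ℤ), (0:ℤ), (0:ℤ), (0:ℤ)], ![(0:ℤ), (0:ℤ), (0:ℤ), (1:ℤ), (1:ℤ), (1:ℤ), (1:ℤ)], ![(-1:ℤ), (0:ℤ), (-1:ℤ), (-1:ℤ), (-1:ℤ), (-1:ℤ), (-1:ℤ)]]),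
    (2, ![![(1:ℤ), (2:ℤ), (3:ℤ), (4:ℤ), (3:ℤ), (2:ℤ), (1:ℤ)], ![(0:ℤ), (0:ℤ), (0:ℤ), (0:ℤ), (0:ℤ), (1:ℤ), (0:ℤ)], ![(-1:ℤ), (-1:ℤ), (-2:ℤ), (-3:ℤ), (-3:ℤ), (-2:ℤ), (-1:ℤ)], ![(0:ℤ), (0:ℤ), (0:ℤ), (0:ℤ), (1:ℤ), (0:ℤ), (0:ℤ)], ![(1:ℤ), (0:ℤ), (1:ℤ), (1:ℤ), (0:ℤ), (0:ℤ), (0:ℤ)], ![(0:ℤ), (1:ℤ), (0:ℤ), (1:ℤ), (1:ℤ), (1:ℤ), (1:ℤ)], ![(-1:ℤ), (-1:ℤ), (-1:ℤ), (-1:ℤ), (-1:ℤ), (-1:ℤ), (-1:ℤ)]]),
    (0, ![![(1:ℤ), (2:ℤ), (2:ℤ), (4:ℤ), (3:ℤ), (2:ℤ), (1:ℤ)], ![(0:ℤ), (0:ℤ), (0:ℤ), (0:ℤ), (0:ℤ), (1:ℤ), (0:ℤ)], ![(-1:ℤ), (-1:ℤ), (-2:ℤ), (-3:ℤ), (-3:ℤ), (-2:ℤ), (-1:ℤ)], ![(0:ℤ), (0:ℤ), (0:ℤ), (0:ℤ), (1:ℤ), (0:ℤ), (0:ℤ)], ![(1:ℤ), (0:ℤ), (1:ℤ), (1:ℤ), (0:ℤ), (0:ℤ), (0:ℤ)], ![(0:ℤ), (1:ℤ), (1:ℤ), (1:ℤ), (1:ℤ), (1:ℤ), (1:ℤ)], ![(-1:ℤ), (-1:ℤ), (-1:ℤ), (-1:ℤ), (-1:ℤ), (-1:ℤ), (-1:ℤ)]]),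
    (3, ![![(1:ℤ), (2:ℤ), (2:ℤ), (4:ℤ), (3:ℤ), (2:ℤ), (1:ℤ)], ![(0:ℤ), (0:ℤ), (0:ℤ), (0:ℤ), (0:ℤ), (1:ℤ), (0:ℤ)], ![(-1:ℤ), (-1:ℤ), (-2:ℤ), (-3:ℤ), (-3:ℤ), (-2:ℤ), (-1:ℤ)], ![(0:ℤ), (0:ℤ), (0:ℤ), (0:ℤ), (1:ℤ), (0:ℤ), (0:ℤ)], ![(0:ℤ), (0:ℤ), (1:ℤ), (1:ℤ), (0:ℤ), (0:ℤ), (0:ℤ)], ![(1:ℤ), (1:ℤ), (1:ℤ), (1:ℤ), (1:ℤ), (1:ℤ), (1:ℤ)], ![(0:ℤ), (-1:ℤ), (-1:ℤ), (-1:ℤ), (-1:ℤ), (-1:ℤ), (-1:ℤ)]]),
    (4, ![![(1:ℤ), (2:ℤ), (2:ℤ), (3:ℤ), (3:ℤ), (2:ℤ), (1:ℤ)], ![(0:ℤ), (0:ℤ), (0:ℤ), (0:ℤ), (0:ℤ), (1:ℤ), (0:ℤ)], ![(-1:ℤ), (-1:ℤ), (-2:ℤ), (-3:ℤ), (-3:ℤ), (-2:ℤ), (-1:ℤ)], ![(0:ℤ), (0:ℤ), (0:ℤ), (1:ℤ), (1:ℤ), (0:ℤ), (0:ℤ)], ![(0:ℤ), (0:ℤ), (1:ℤ), (0:ℤ), (0:ℤ), (0:ℤ), (0:ℤ)], ![(1:ℤ), (1:ℤ), (1:ℤ), (2:ℤ), (1:ℤ), (1:ℤ), (1:ℤ)], ![(0:ℤ), (-1:ℤ), (-1:ℤ), (-2:ℤ), (-1:ℤ), (-1:ℤ), (-1:ℤ)]]),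
    (5, ![![(1:ℤ), (2:ℤ), (2:ℤ), (3:ℤ), (2:ℤ), (2:ℤ), (1:ℤ)], ![(0:ℤ), (0:ℤ), (0:ℤ), (0:ℤ), (1:ℤ), (1:ℤ), (0:ℤ)], ![(-1:ℤ), (-1:ℤ), (-2:ℤ), (-3:ℤ), (-2:ℤ), (-2:ℤ), (-1:ℤ)], ![(0:ℤ), (0:ℤ), (0:ℤ), (1:ℤ), (0:ℤ), (0:ℤ), (0:ℤ)], ![(0:ℤ), (0:ℤ), (1:ℤ), (0:ℤ), (0:ℤ), (0:ℤ), (0:ℤ)], ![(1:ℤ), (1:ℤ), (1:ℤ), (2:ℤ), (2:ℤ), (1:ℤ), (1:ℤ)], ![(0:ℤ), (-1:ℤ), (-1:ℤ), (-2:ℤ), (-2:ℤ), (-1:ℤ), (-1:ℤ)]]),
    (6, ![![(1:ℤ), (2:ℤ), (2:ℤ), (3:ℤ), (2:ℤ), (1:ℤ), (1:ℤ)], ![(0:ℤ), (0:ℤ), (0:ℤ), (0:ℤ), (1:ℤ), (0:ℤ), (0:ℤ)], ![(-1:ℤ), (-1:ℤ), (-2:ℤ), (-3:ℤ), (-2:ℤ), (-1:ℤ), (-1:ℤ)], ![(0:ℤ), (0:ℤ), (0:ℤ), (1:ℤ), (0:ℤ), (0:ℤ), (0:ℤ)], ![(0:ℤ), (0:ℤ), (1:ℤ), (0:ℤ), (0:ℤ), (0:ℤ), (0:ℤ)], ![(1:ℤ), (1:ℤ), (1:ℤ), (2:ℤ), (2:ℤ), (2:ℤ), (1:ℤ)], ![(0:ℤ), (-1:ℤ), (-1:ℤ), (-2:ℤ), (-2:ℤ), (-2:ℤ), (-1:ℤ)]]),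
    (5, ![![(1:ℤ), (2:ℤ), (2:ℤ), (3:ℤ), (2:ℤ), (1:ℤ), (0:ℤ)], ![(0:ℤ), (0:ℤ), (0:ℤ), (0:ℤ), (1:ℤ), (0:ℤ), (0:ℤ)], ![(-1:ℤ), (-1:ℤ), (-2:ℤ), (-3:ℤ), (-2:ℤ), (-1:ℤ), (0:ℤ)], ![(0:ℤ), (0:ℤ), (0:ℤ), (1:ℤ), (0:ℤ), (0:ℤ), (0:ℤ)], ![(0:ℤ), (0:ℤ), (1:ℤ), (0:ℤ), (0:ℤ), (0:ℤ), (0:ℤ)], ![(1:ℤ), (1:ℤ), (1:ℤ), (2:ℤ), (2:ℤ), (2:ℤ), (1:ℤ)], ![(0:ℤ), (-1:ℤ), (-1:ℤ), (-2:ℤ), (-2:ℤ), (-2:ℤ), (-1:ℤ)]]),
    (4, ![![(1:ℤ), (2:ℤ), (2:ℤ), (3:ℤ), (2:ℤ), (1:ℤ), (0:ℤ)], ![(0:ℤ), (0:ℤ), (0:ℤ), (0:ℤ), (1:ℤ), (1:ℤ), (0:ℤ)], ![(-1:ℤ), (-1:ℤ), (-2:ℤ), (-3:ℤ), (-2:ℤ), (-1:ℤ), (0:ℤ)], ![(0:ℤ), (0:ℤ), (0:ℤ), (1:ℤ), (0:ℤ), (0:ℤ), (0:ℤ)], ![(0:ℤ), (0:ℤ), (1:ℤ), (0:ℤ), (0:ℤ), (0:ℤ), (0:ℤ)], ![(1:ℤ), (1:ℤ), (1:ℤ), (2:ℤ), (2:ℤ), (1:ℤ), (1:ℤ)], ![(0:ℤ), (-1:ℤ), (-1:ℤ), (-2:ℤ), (-2:ℤ), (-1:ℤ), (-1:ℤ)]]),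
    (3, ![![(1:ℤ), (2:ℤ), (2:ℤ), (3:ℤ), (2:ℤ), (1:ℤ), (0:ℤ)], ![(0:ℤ), (0:ℤ), (0:ℤ), (0:ℤ), (0:ℤ), (1:ℤ), (0:ℤ)], ![(-1:ℤ), (-1:ℤ), (-2:ℤ), (-3:ℤ), (-2:ℤ), (-1:ℤ), (0:ℤ)], ![(0:ℤ), (0:ℤ), (0:ℤ), (1:ℤ), (1:ℤ), (0:ℤ), (0:ℤ)], ![(0:ℤ), (0:ℤ), (1:ℤ), (0:ℤ), (0:ℤ), (0:ℤ), (0:ℤ)], ![(1:ℤ), (1:ℤ), (1:ℤ), (2:ℤ), (1:ℤ), (1:ℤ), (1:ℤ)], ![(0:ℤ), (-1:ℤ), (-1:ℤ), (-2:ℤ), (-1:ℤ), (-1:ℤ), (-1:ℤ)]]),
    (1, ![![(1:ℤ), (2:ℤ), (2:ℤ), (3:ℤ), (2:ℤ), (1:ℤ), (0:ℤ)], ![(0:ℤ), (0:ℤ), (0:ℤ), (0:ℤ), (0:ℤ), (1:ℤ), (0:ℤ)], ![(-1:ℤ), (-1:ℤ), (-2:ℤ), (-2:ℤ), (-2:ℤ), (-1:ℤ), (0:ℤ)], ![(0:ℤ), (0:ℤ), (0:ℤ), (0:ℤ), (1:ℤ), (0:ℤ), (0:ℤ)], ![(0:ℤ), (0:ℤ), (1:ℤ), (1:ℤ), (0:ℤ), (0:ℤ), (0:ℤ)], ![(1:ℤ), (1:ℤ), (1:ℤ), (1:ℤ), (1:ℤ), (1:ℤ), (1:ℤ)], ![(0:ℤ), (-1:ℤ), (-1:ℤ), (-1:ℤ), (-1:ℤ), (-1:ℤ), (-1:ℤ)]]),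
    (2, ![![(1:ℤ), (1:ℤ), (2:ℤ), (3:ℤ), (2:ℤ), (1:ℤ), (0:ℤ)], ![(0:ℤ), (0:ℤ), (0:ℤ), (0:ℤ), (0:ℤ), (1:ℤ), (0:ℤ)], ![(-1:ℤ), (-1:ℤ), (-2:ℤ), (-2:ℤ), (-2:ℤ), (-1:ℤ), (0:ℤ)], ![(0:ℤ), (0:ℤ), (0:ℤ), (0:ℤ), (1:ℤ), (0:ℤ), (0:ℤ)], ![(0:ℤ), (1:ℤ), (1:ℤ), (1:ℤ), (0:ℤ), (0:ℤ), (0:ℤ)], ![(1:ℤ), (0:ℤ), (1:ℤ), (1:ℤ), (1:ℤ), (1:ℤ), (1:ℤ)], ![(0:ℤ), (0:ℤ), (-1:ℤ), (-1:ℤ), (-1:ℤ), (-1:ℤ), (-1:ℤ)]]),
    (0, ![![(1:ℤ), (1:ℤ), (2:ℤ), (3:ℤ), (2:ℤ), (1:ℤ), (0:ℤ)], ![(0:ℤ), (0:ℤ), (0:ℤ), (0:ℤ), (0:ℤ), (1:ℤ), (0:ℤ)], ![(-1:ℤ), (-1:ℤ), (-1:ℤ), (-2:ℤ), (-2:ℤ), (-1:ℤ), (0:ℤ)], ![(0:ℤ), (0:ℤ), (0:ℤ), (0:ℤ), (1:ℤ), (0:ℤ), (0:ℤ)], ![(0:ℤ), (1:ℤ), (0:ℤ), (1:ℤ), (0:ℤ), (0:ℤ), (0:ℤ)], ![(1:ℤ), (0:ℤ), (1:ℤ), (1:ℤ), (1:ℤ), (1:ℤ), (1:ℤ)], ![(0:ℤ), (0:ℤ), (0:ℤ), (-1:ℤ), (-1:ℤ), (-1:ℤ), (-1:ℤ)]]),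
    (3, ![![(1:ℤ), (1:ℤ), (2:ℤ), (3:ℤ), (2:ℤ), (1:ℤ), (0:ℤ)], ![(0:ℤ), (0:ℤ), (0:ℤ), (0:ℤ), (0:ℤ), (1:ℤ), (0:ℤ)], ![(0:ℤ), (-1:ℤ), (-1:ℤ), (-2:ℤ), (-2:ℤ), (-1:ℤ), (0:ℤ)], ![(0:ℤ), (0:ℤ), (0:ℤ), (0:ℤ), (1:ℤ), (0:ℤ), (0:ℤ)], ![(0:ℤ), (1:ℤ), (0:ℤ), (1:ℤ), (0:ℤ), (0:ℤ), (0:ℤ)], ![(0:ℤ), (0:ℤ), (1:ℤ), (1:ℤ), (1:ℤ), (1:ℤ), (1:ℤ)], ![(0:ℤ), (0:ℤ), (0:ℤ), (-1:ℤ), (-1:ℤ), (-1:ℤ), (-1:ℤ)]]),
    (2, ![![(1:ℤ), (1:ℤ), (2:ℤ), (2:ℤ), (2:ℤ), (1:ℤ), (0:ℤ)], ![(0:ℤ), (0:ℤ), (0:ℤ), (0:ℤ), (0:ℤ), (1:ℤ), (0:ℤ)], ![(0:ℤ), (-1:ℤ), (-1:ℤ), (-2:ℤ), (-2:ℤ), (-1:ℤ), (0:ℤ)], ![(0:ℤ), (0:ℤ), (0:ℤ), (1:ℤ), (1:ℤ), (0:ℤ), (0:ℤ)], ![(0:ℤ), (1:ℤ), (0:ℤ), (0:ℤ), (0:ℤ), (0:ℤ), (0:ℤ)], ![(0:ℤ), (0:ℤ), (1:ℤ), (1:ℤ), (1:ℤ), (1:ℤ), (1:ℤ)], ![(0:ℤ), (0:ℤ), (0:ℤ), (0:ℤ), (-1:ℤ), (-1:ℤ), (-1:ℤ)]]),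
    (4, ![![(1:ℤ), (1:ℤ), (1:ℤ), (2:ℤ), (2:ℤ), (1:ℤ), (0:ℤ)], ![(0:ℤ), (0:ℤ), (0:ℤ), (0:ℤ), (0:ℤ), (1:ℤ), (0:ℤ)], ![(0:ℤ), (-1:ℤ), (-1:ℤ), (-2:ℤ), (-2:ℤ), (-1:ℤ), (0:ℤ)], ![(0:ℤ), (0:ℤ), (1:ℤ), (1:ℤ), (1:ℤ), (0:ℤ), (0:ℤ)], ![(0:ℤ), (1:ℤ), (0:ℤ), (0:ℤ), (0:ℤ), (0:ℤ), (0:ℤ)], ![(0:ℤ), (0:ℤ), (0:ℤ), (1:ℤ), (1:ℤ), (1:ℤ), (1:ℤ)], ![(0:ℤ), (0:ℤ), (0:ℤ), (0:ℤ), (-1:ℤ), (-1:ℤ), (-1:ℤ)]]),
    (3, ![![(1:ℤ), (1:ℤ), (1:ℤ), (2:ℤ), (1:ℤ), (1:ℤ), (0:ℤ)], ![(0:ℤ), (0:ℤ), (0:ℤ), (0:ℤ), (1:ℤ), (1:ℤ), (0:ℤ)], ![(0:ℤ), (-1:ℤ), (-1:ℤ), (-2:ℤ), (-1:ℤ), (-1:ℤ), (0:ℤ)], ![(0:ℤ), (0:ℤ), (1:ℤ), (1:ℤ), (0:ℤ), (0:ℤ), (0:ℤ)], ![(0:ℤ), (1:ℤ), (0:ℤ), (0:ℤ), (0:ℤ), (0:ℤ), (0:ℤ)], ![(0:ℤ), (0:ℤ), (0:ℤ), (1:ℤ), (1:ℤ), (1:ℤ), (1:ℤ)], ![(0:ℤ), (0:ℤ), (0:ℤ), (0:ℤ), (0:ℤ), (-1:ℤ), (-1:ℤ)]]),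
    (1, ![![(1:ℤ), (1:ℤ), (1:ℤ), (1:ℤ), (1:ℤ), (1:ℤ), (0:ℤ)], ![(0:ℤ), (0:ℤ), (0:ℤ), (1:ℤ), (1:ℤ), (1:ℤ), (0:ℤ)], ![(0:ℤ), (-1:ℤ), (-1:ℤ), (-1:ℤ), (-1:ℤ), (-1:ℤ), (0:ℤ)], ![(0:ℤ), (0:ℤ), (1:ℤ), (0:ℤ), (0:ℤ), (0:ℤ), (0:ℤ)], ![(0:ℤ), (1:ℤ), (0:ℤ), (1:ℤ), (0:ℤ), (0:ℤ), (0:ℤ)], ![(0:ℤ), (0:ℤ), (0:ℤ), (0:ℤ), (1:ℤ), (1:ℤ), (1:ℤ)], ![(0:ℤ), (0:ℤ), (0:ℤ), (0:ℤ), (0:ℤ), (-1:ℤ), (-1:ℤ)]]),
    (5, ![![(1:ℤ), (0:ℤ), (1:ℤ), (1:ℤ), (1:ℤ), (1:ℤ), (0:ℤ)], ![(0:ℤ), (1:ℤ), (0:ℤ), (1:ℤ), (1:ℤ), (1:ℤ), (0:ℤ)], ![(0:ℤ), (0:ℤ), (-1:ℤ), (-1:ℤ), (-1:ℤ), (-1:ℤ), (0:ℤ)], ![(0:ℤ), (0:ℤ), (1:ℤ), (0:ℤ), (0:ℤ), (0:ℤ), (0:ℤ)], ![(0:ℤ), (0:ℤ), (0:ℤ), (1:ℤ), (0:ℤ), (0:ℤ), (0:ℤ)], ![(0:ℤ), (0:ℤ), (0:ℤ), (0:ℤ), (1:ℤ), (1:ℤ), (1:ℤ)], ![(0:ℤ), (0:ℤ), (0:ℤ), (0:ℤ), (0:ℤ), (-1:ℤ), (-1:ℤ)]]),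
    (4, ![![(1:ℤ), (0:ℤ), (1:ℤ), (1:ℤ), (1:ℤ), (0:ℤ), (0:ℤ)], ![(0:ℤ), (1:ℤ), (0:ℤ), (1:ℤ), (1:ℤ), (0:ℤ), (0:ℤ)], ![(0:ℤ), (0:ℤ), (-1:ℤ), (-1:ℤ), (-1:ℤ), (0:ℤ), (0:ℤ)], ![(0:ℤ), (0:ℤ), (1:ℤ), (0:ℤ), (0:ℤ), (0:ℤ), (0:ℤ)], ![(0:ℤ), (0:ℤ), (0:ℤ), (1:ℤ), (0:ℤ), (0:ℤ), (0:ℤ)], ![(0:ℤ), (0:ℤ), (0:ℤ), (0:ℤ), (1:ℤ), (1:ℤ), (1:ℤ)], ![(0:ℤ), (0:ℤ), (0:ℤ), (0:ℤ), (0:ℤ), (0:ℤ), (-1:ℤ)]]),
    (3, ![![(1:ℤ), (0:ℤ), (1:ℤ), (1:ℤ), (0:ℤ), (0:ℤ), (0:ℤ)], ![(0:ℤ), (1:ℤ), (0:ℤ), (1:ℤ), (0:ℤ), (0:ℤ), (0:ℤ)], ![(0:ℤ), (0:ℤ), (-1:ℤ), (-1:ℤ), (0:ℤ), (0:ℤ), (0:ℤ)], ![(0:ℤ), (0:ℤ), (1:ℤ), (0:ℤ), (0:ℤ), (0:ℤ), (0:ℤ)], ![(0:ℤ), (0:ℤ), (0:ℤ), (1:ℤ), (1:ℤ), (0:ℤ), (0:ℤ)], ![(0:ℤ), (0:ℤ), (0:ℤ), (0:ℤ), (0:ℤ), (1:ℤ), (1:ℤ)], ![(0:ℤ), (0:ℤ), (0:ℤ), (0:ℤ), (0:ℤ), (0:ℤ), (-1:ℤ)]]),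
    (2, ![![(1:ℤ), (0:ℤ), (1:ℤ), (0:ℤ), (0:ℤ), (0:ℤ), (0:ℤ)], ![(0:ℤ), (1:ℤ), (0:ℤ), (0:ℤ), (0:ℤ), (0:ℤ), (0:ℤ)], ![(0:ℤ), (0:ℤ), (-1:ℤ), (0:ℤ), (0:ℤ), (0:ℤ), (0:ℤ)], ![(0:ℤ), (0:ℤ), (1:ℤ), (1:ℤ), (0:ℤ), (0:ℤ), (0:ℤ)], ![(0:ℤ), (0:ℤ), (0:ℤ), (0:ℤ), (1:ℤ), (0:ℤ), (0:ℤ)], ![(0:ℤ), (0:ℤ), (0:ℤ), (0:ℤ), (0:ℤ), (1:ℤ), (1:ℤ)], ![(0:ℤ), (0:ℤ), (0:ℤ), (0:ℤ), (0:ℤ), (0:ℤ), (-1:ℤ)]]),
    (6, ![![(1:ℤ), (0:ℤ), (0:ℤ), (0:ℤ), (0:ℤ), (0:ℤ), (0:ℤ)], ![(0:ℤ), (1:ℤ), (0:ℤ), (0:ℤ), (0:ℤ), (0:ℤ), (0:ℤ)], ![(0:ℤ), (0:ℤ), (1:ℤ), (0:ℤ), (0:ℤ), (0:ℤ), (0:ℤ)], ![(0:ℤ), (0:ℤ), (0:ℤ), (1:ℤ), (0:ℤ), (0:ℤ), (0:ℤ)], ![(0:ℤ), (0:ℤ), (0:ℤ), (0:ℤ), (1:ℤ), (0:ℤ), (0:ℤ)], ![(0:ℤ), (0:ℤ), (0:ℤ), (0:ℤ), (0:ℤ), (1:ℤ), (1:ℤ)], ![(0:ℤ), (0:ℤ), (0:ℤ), (0:ℤ), (0:ℤ), (0:ℤ), (-1:ℤ)]])]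

/-- the negative of `w3` -/
def w6 : List (Fin 7 × Mat 7) := (beta% delta% lq2647a118f1 fun a b c d e f =>
 (e (d 2 (a (a (-1 :type_of% (b _))<|a (-2 :type_of% (b _))<|a (-3 :type_of% (b _))<|a (-4 :type_of% (b _))<|a (-3 :type_of% (b _))<|a (-2 :type_of% (b _))<|a (-1 :type_of% (b _))<|c)<|a (a (0 :type_of% (b _))<|a (0 :type_of% (b _))<|a (0 :type_of% (b _))<|a (-1 :type_of% (b _))<|a (0 :type_of% (b _))<|a (0 :type_of% (b _))<|a (0 :type_of% (b _))<|c)<|a (a (1 :type_of% (b _))<|a (1 :type_of% (b _))<|a (2 :type_of% (b _))<|a (3 :type_of% (b _))<|a (3 :type_of% (b _))<|a (2 :type_of% (b _))<|a (1 :type_of% (b _))<|c)<|a (a (0 :type_of% (b _))<|a (1 :type_of% (b _))<|a (0 :type_of% (b _))<|a (1 :type_of% (b _))<|a (0 :type_of% (b _))<|a (0 :type_of% (b _))<|a (0 :type_of% (b _))<|c)<|a (a (0 :type_of% (b _))<|a (-1 :type_of% (b _))<|a (0 :type_of% (b _))<|a (-1 :type_of% (b _))<|a (-1 :type_of%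 (b _))<|a (-1 :type_of% (b _))<|a (0 :type_of% (b _))<|c)<|a (a (0 :type_of% (b _))<|a (0 :type_of% (b _))<|a (0 :type_of% (b _))<|a (0 :type_of% (b _))<|a (0 :type_of% (b _))<|a (0 :type_of% (b _))<|a (-1 :type_of% (b _))<|c)<|a (a (0 :type_of% (b _))<|a (0 :type_of% (b _))<|a (0 :type_of% (b _))<|a (0 :type_of% (b _))<|a (0 :type_of% (b _))<|a (1 :type_of% (b _))<|a (1 :type_of% (b _))<|c)<|c))<|
 e (d 3 (a (a (-1 :type_of% (b _))<|a (-2 :type_of% (b _))<|a (-2 :type_of% (b _))<|a (-4 :type_of% (b _))<|a (-3 :type_of% (b _))<|a (-2 :type_of% (b _))<|a (-1 :type_of% (b _))<|c)<|a (a (0 :type_of% (b _))<|a (0 :type_of% (b _))<|a (-1 :type_of% (b _))<|a (-1 :type_of% (b _))<|a (0 :type_of% (b _))<|a (0 :type_of% (b _))<|a (0 :type_of% (b _))<|c)<|a (a (1 :type_of% (b _))<|a (1 :type_of% (b _))<|a (2 :type_of% (b _))<|a (3 :type_of% (b _))<|a (3 :type_of% (b _))<|a (2 :type_of% (b _))<|a (1 :type_of%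 (b _))<|c)<|a (a (0 :type_of% (b _))<|a (1 :type_of% (b _))<|a (1 :type_of% (b _))<|a (1 :type_of% (b _))<|a (0 :type_of% (b _))<|a (0 :type_of% (b _))<|a (0 :type_of% (b _))<|c)<|a (a (0 :type_of% (b _))<|a (-1 :type_of% (b _))<|a (-1 :type_of% (b _))<|a (-1 :type_of% (b _))<|a (-1 :type_of% (b _))<|a (-1 :type_of% (b _))<|a (0 :type_of% (b _))<|c)<|a (a (0 :type_of% (b _))<|a (0 :type_of% (b _))<|a (0 :type_of% (b _))<|a (0 :type_of% (b _))<|a (0 :type_of% (b _))<|a (0 :type_of% (b _))<|a (-1 :type_of% (b _))<|c)<|a (a (0 :type_of% (b _))<|a (0 :type_of% (b _))<|a (0 :type_of% (b _))<|a (0 :type_of% (b _))<|a (0 :type_of% (b _))<|a (1 :type_of% (b _))<|a (1 :type_of% (b _))<|c)<|c))<|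
 e (d 1 (a (a (-1 :type_of% (b _))<|a (-2 :type_of% (b _))<|a (-2 :type_of% (b _))<|a (-3 :type_of% (b _))<|a (-3 :type_of% (b _))<|a (-2 :type_of% (b _))<|a (-1 :type_of% (b _))<|c)<|a (a (0 :type_of% (b _))<|a (0 :type_of% (b _))<|a (-1 :type_of% (b _))<|a (0 :type_of% (b _))<|a (0 :type_of% (b _))<|a (0 :type_of% (b _))<|a (0 :type_of% (b _))<|c)<|a (a (1 :type_of% (b _))<|a (1 :type_of% (b _))<|a (2 :type_of% (b _))<|a (3 :type_of% (b _))<|a (3 :type_of% (b _))<|a (2 :type_of% (b _))<|a (1 :type_of% (b _))<|c)<|a (a (0 :type_of% (b _))<|a (1 :type_of% (b _))<|a (1 :type_of% (b _))<|a (1 :type_of% (b _))<|a (0 :type_of% (b _))<|a (0 :type_of% (b _))<|a (0 :type_of% (b _))<|c)<|a (a (0 :type_of% (b _))<|a (-1 :type_of% (b _))<|a (-1 :type_of% (b _))<|a (-2 :type_of% (b _))<|a (-1 :type_of% (b _))<|a (-1 :type_of% (b _))<|a (0 :type_of% (b _))<|c)<|a (a (0 :type_of% (b _))<|a (0 :type_of%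 (b _))<|a (0 :type_of% (b _))<|a (0 :type_of% (b _))<|a (0 :type_of% (b _))<|a (0 :type_of% (b _))<|a (-1 :type_of% (b _))<|c)<|a (a (0 :type_of% (b _))<|a (0 :type_of% (b _))<|a (0 :type_of% (b _))<|a (0 :type_of% (b _))<|a (0 :type_of% (b _))<|a (1 :type_of% (b _))<|a (1 :type_of% (b _))<|c)<|c))<|
 e (d 2 (a (a (-1 :type_of% (b _))<|a (-1 :type_of% (b _))<|a (-2 :type_of% (b _))<|a (-3 :type_of% (b _))<|a (-3 :type_of% (b _))<|a (-2 :type_of% (b _))<|a (-1 :type_of% (b _))<|c)<|a (a (0 :type_of% (b _))<|a (0 :type_of% (b _))<|a (-1 :type_of% (b _))<|a (0 :type_of% (b _))<|a (0 :type_of% (b _))<|a (0 :type_of% (b _))<|a (0 :type_of% (b _))<|c)<|a (a (1 :type_of% (b _))<|a (2 :type_of% (b _))<|a (2 :type_of% (b _))<|a (3 :type_of% (b _))<|a (3 :type_of% (b _))<|a (2 :type_of% (b _))<|a (1 :type_of% (b _))<|c)<|a (a (0 :type_of% (b _))<|a (0 :type_of% (b _))<|a (1 :type_of% (b _))<|a (1 :type_of%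 (b _))<|a (0 :type_of% (b _))<|a (0 :type_of% (b _))<|a (0 :type_of% (b _))<|c)<|a (a (0 :type_of% (b _))<|a (-1 :type_of% (b _))<|a (-1 :type_of% (b _))<|a (-2 :type_of% (b _))<|a (-1 :type_of% (b _))<|a (-1 :type_of% (b _))<|a (0 :type_of% (b _))<|c)<|a (a (0 :type_of% (b _))<|a (0 :type_of% (b _))<|a (0 :type_of% (b _))<|a (0 :type_of% (b _))<|a (0 :type_of% (b _))<|a (0 :type_of% (b _))<|a (-1 :type_of% (b _))<|c)<|a (a (0 :type_of% (b _))<|a (0 :type_of% (b _))<|a (0 :type_of% (b _))<|a (0 :type_of% (b _))<|a (0 :type_of% (b _))<|a (1 :type_of% (b _))<|a (1 :type_of% (b _))<|c)<|c))<|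
 e (d 4 (a (a (-1 :type_of% (b _))<|a (-1 :type_of% (b _))<|a (-2 :type_of% (b _))<|a (-3 :type_of% (b _))<|a (-3 :type_of% (b _))<|a (-2 :type_of% (b _))<|a (-1 :type_of% (b _))<|c)<|a (a (0 :type_of% (b _))<|a (0 :type_of% (b _))<|a (1 :type_of% (b _))<|a (0 :type_of% (b _))<|a (0 :type_of% (b _))<|a (0 :type_of% (b _))<|a (0 :type_of% (b _))<|c)<|a (a (1 :type_of% (b _))<|a (2 :type_of% (b _))<|a (2 :type_of% (b _))<|a (3 :type_of% (b _))<|a (3 :type_of% (b _))<|a (2 :type_of% (b _))<|a (1 :type_of% (b _))<|c)<|a (a (0 :type_of% (b _))<|a (0 :type_of% (b _))<|a (0 :type_of% (b _))<|a (1 :type_of% (b _))<|a (0 :type_of% (b _))<|a (0 :type_of% (b _))<|a (0 :type_of% (b _))<|c)<|a (a (0 :type_of% (b _))<|a (-1 :type_of% (b _))<|a (-1 :type_of% (b _))<|a (-2 :type_of% (b _))<|a (-1 :type_of% (b _))<|a (-1 :type_of% (b _))<|a (0 :type_of% (b _))<|c)<|a (a (0 :type_of% (b _))<|a (0 :type_of% (b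 _))<|a (0 :type_of% (b _))<|a (0 :type_of% (b _))<|a (0 :type_of% (b _))<|a (0 :type_of% (b _))<|a (-1 :type_of% (b _))<|c)<|a (a (0 :type_of% (b _))<|a (0 :type_of% (b _))<|a (0 :type_of% (b _))<|a (0 :type_of% (b _))<|a (0 :type_of% (b _))<|a (1 :type_of% (b _))<|a (1 :type_of% (b _))<|c)<|c))<|
 e (d 3 (a (a (-1 :type_of% (b _))<|a (-1 :type_of% (b _))<|a (-2 :type_of% (b _))<|a (-3 :type_of% (b _))<|a (-2 :type_of% (b _))<|a (-2 :type_of% (b _))<|a (-1 :type_of% (b _))<|c)<|a (a (0 :type_of% (b _))<|a (0 :type_of% (b _))<|a (1 :type_of% (b _))<|a (0 :type_of% (b _))<|a (0 :type_of% (b _))<|a (0 :type_of% (b _))<|a (0 :type_of% (b _))<|c)<|a (a (1 :type_of% (b _))<|a (2 :type_of% (b _))<|a (2 :type_of% (b _))<|a (3 :type_of% (b _))<|a (2 :type_of% (b _))<|a (2 :type_of% (b _))<|a (1 :type_of% (b _))<|c)<|a (a (0 :type_of% (b _))<|a (0 :type_of% (b _))<|a (0 :type_of% (b _))<|a (1 :type_of%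 (b _))<|a (1 :type_of% (b _))<|a (0 :type_of% (b _))<|a (0 :type_of% (b _))<|c)<|a (a (0 :type_of% (b _))<|a (-1 :type_of% (b _))<|a (-1 :type_of% (b _))<|a (-2 :type_of% (b _))<|a (-2 :type_of% (b _))<|a (-1 :type_of% (b _))<|a (0 :type_of% (b _))<|c)<|a (a (0 :type_of% (b _))<|a (0 :type_of% (b _))<|a (0 :type_of% (b _))<|a (0 :type_of% (b _))<|a (0 :type_of% (b _))<|a (0 :type_of% (b _))<|a (-1 :type_of% (b _))<|c)<|a (a (0 :type_of% (b _))<|a (0 :type_of% (b _))<|a (0 :type_of% (b _))<|a (0 :type_of% (b _))<|a (1 :type_of% (b _))<|a (1 :type_of% (b _))<|a (1 :type_of% (b _))<|c)<|c))<|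
 e (d 1 (a (a (-1 :type_of% (b _))<|a (-1 :type_of% (b _))<|a (-2 :type_of% (b _))<|a (-2 :type_of% (b _))<|a (-2 :type_of% (b _))<|a (-2 :type_of% (b _))<|a (-1 :type_of% (b _))<|c)<|a (a (0 :type_of% (b _))<|a (0 :type_of% (b _))<|a (1 :type_of% (b _))<|a (1 :type_of% (b _))<|a (0 :type_of% (b _))<|a (0 :type_of% (b _))<|a (0 :type_of% (b _))<|c)<|a (a (1 :type_of% (b _))<|a (2 :type_of% (b _))<|a (2 :type_of% (b _))<|a (3 :type_of% (b _))<|a (2 :type_of% (b _))<|a (2 :type_of% (b _))<|a (1 :type_of% (b _))<|c)<|a (a (0 :type_of% (b _))<|a (0 :type_of% (b _))<|a (0 :type_of% (b _))<|a (0 :type_of% (b _))<|a (1 :type_of% (b _))<|a (0 :type_of% (b _))<|a (0 :type_of% (b _))<|c)<|a (a (0 :type_of% (b _))<|a (-1 :type_of% (b _))<|a (-1 :type_of% (b _))<|a (-2 :type_of% (b _))<|a (-2 :type_of% (b _))<|a (-1 :type_of% (b _))<|a (0 :type_of% (b _))<|c)<|a (a (0 :type_of% (b _))<|a (0 :type_of% (b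 _))<|a (0 :type_of% (b _))<|a (0 :type_of% (b _))<|a (0 :type_of% (b _))<|a (0 :type_of% (b _))<|a (-1 :type_of% (b _))<|c)<|a (a (0 :type_of% (b _))<|a (0 :type_of% (b _))<|a (0 :type_of% (b _))<|a (1 :type_of% (b _))<|a (1 :type_of% (b _))<|a (1 :type_of% (b _))<|a (1 :type_of% (b _))<|c)<|c))<|
 e (d 2 (a (a (-1 :type_of% (b _))<|a (-1 :type_of% (b _))<|a (-2 :type_of% (b _))<|a (-2 :type_of% (b _))<|a (-2 :type_of% (b _))<|a (-2 :type_of% (b _))<|a (-1 :type_of% (b _))<|c)<|a (a (0 :type_of% (b _))<|a (1 :type_of% (b _))<|a (1 :type_of% (b _))<|a (1 :type_of% (b _))<|a (0 :type_of% (b _))<|a (0 :type_of% (b _))<|a (0 :type_of% (b _))<|c)<|a (a (1 :type_of% (b _))<|a (1 :type_of% (b _))<|a (2 :type_of% (b _))<|a (3 :type_of% (b _))<|a (2 :type_of% (b _))<|a (2 :type_of% (b _))<|a (1 :type_of% (b _))<|c)<|a (a (0 :type_of% (b _))<|a (0 :type_of% (b _))<|a (0 :type_of% (b _))<|a (0 :type_of%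 (b _))<|a (1 :type_of% (b _))<|a (0 :type_of% (b _))<|a (0 :type_of% (b _))<|c)<|a (a (0 :type_of% (b _))<|a (-1 :type_of% (b _))<|a (-1 :type_of% (b _))<|a (-2 :type_of% (b _))<|a (-2 :type_of% (b _))<|a (-1 :type_of% (b _))<|a (0 :type_of% (b _))<|c)<|a (a (0 :type_of% (b _))<|a (0 :type_of% (b _))<|a (0 :type_of% (b _))<|a (0 :type_of% (b _))<|a (0 :type_of% (b _))<|a (0 :type_of% (b _))<|a (-1 :type_of% (b _))<|c)<|a (a (0 :type_of% (b _))<|a (1 :type_of% (b _))<|a (0 :type_of% (b _))<|a (1 :type_of% (b _))<|a (1 :type_of% (b _))<|a (1 :type_of% (b _))<|a (1 :type_of% (b _))<|c)<|c))<|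
 e (d 3 (a (a (-1 :type_of% (b _))<|a (-1 :type_of% (b _))<|a (-1 :type_of% (b _))<|a (-2 :type_of% (b _))<|a (-2 :type_of% (b _))<|a (-2 :type_of% (b _))<|a (-1 :type_of% (b _))<|c)<|a (a (0 :type_of% (b _))<|a (1 :type_of% (b _))<|a (0 :type_of% (b _))<|a (1 :type_of% (b _))<|a (0 :type_of% (b _))<|a (0 :type_of% (b _))<|a (0 :type_of% (b _))<|c)<|a (a (1 :type_of% (b _))<|a (1 :type_of% (b _))<|a (2 :type_of% (b _))<|a (3 :type_of% (b _))<|a (2 :type_of% (b _))<|a (2 :type_of% (b _))<|a (1 :type_of% (b _))<|c)<|a (a (0 :type_of% (b _))<|a (0 :type_of% (b _))<|a (0 :type_of% (b _))<|a (0 :type_of% (b _))<|a (1 :type_of% (b _))<|a (0 :type_of% (b _))<|a (0 :type_of% (b _))<|c)<|a (a (0 :type_of% (b _))<|a (-1 :type_of% (b _))<|a (-1 :type_of% (b _))<|a (-2 :type_of% (b _))<|a (-2 :type_of% (b _))<|a (-1 :type_of% (b _))<|a (0 :type_of% (b _))<|c)<|a (a (0 :type_of% (b _))<|a (0 :type_of% (b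 _))<|a (0 :type_of% (b _))<|a (0 :type_of% (b _))<|a (0 :type_of% (b _))<|a (0 :type_of% (b _))<|a (-1 :type_of% (b _))<|c)<|a (a (0 :type_of% (b _))<|a (1 :type_of% (b _))<|a (1 :type_of% (b _))<|a (1 :type_of% (b _))<|a (1 :type_of% (b _))<|a (1 :type_of% (b _))<|a (1 :type_of% (b _))<|c)<|c))<|
 e (d 4 (a (a (-1 :type_of% (b _))<|a (-1 :type_of% (b _))<|a (-1 :type_of% (b _))<|a (-2 :type_of% (b _))<|a (-2 :type_of% (b _))<|a (-2 :type_of% (b _))<|a (-1 :type_of% (b _))<|c)<|a (a (0 :type_of% (b _))<|a (1 :type_of% (b _))<|a (0 :type_of% (b _))<|a (0 :type_of% (b _))<|a (0 :type_of% (b _))<|a (0 :type_of% (b _))<|a (0 :type_of% (b _))<|c)<|a (a (1 :type_of% (b _))<|a (1 :type_of% (b _))<|a (2 :type_of% (b _))<|a (2 :type_of% (b _))<|a (2 :type_of% (b _))<|a (2 :type_of% (b _))<|a (1 :type_of% (b _))<|c)<|a (a (0 :type_of% (b _))<|a (0 :type_of% (b _))<|a (0 :type_of% (b _))<|a (1 :type_of%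 (b _))<|a (1 :type_of% (b _))<|a (0 :type_of% (b _))<|a (0 :type_of% (b _))<|c)<|a (a (0 :type_of% (b _))<|a (-1 :type_of% (b _))<|a (-1 :type_of% (b _))<|a (-2 :type_of% (b _))<|a (-2 :type_of% (b _))<|a (-1 :type_of% (b _))<|a (0 :type_of% (b _))<|c)<|a (a (0 :type_of% (b _))<|a (0 :type_of% (b _))<|a (0 :type_of% (b _))<|a (0 :type_of% (b _))<|a (0 :type_of% (b _))<|a (0 :type_of% (b _))<|a (-1 :type_of% (b _))<|c)<|a (a (0 :type_of% (b _))<|a (1 :type_of% (b _))<|a (1 :type_of% (b _))<|a (2 :type_of% (b _))<|a (1 :type_of% (b _))<|a (1 :type_of% (b _))<|a (1 :type_of% (b _))<|c)<|c))<|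
 e (d 5 (a (a (-1 :type_of% (b _))<|a (-1 :type_of% (b _))<|a (-1 :type_of% (b _))<|a (-2 :type_of% (b _))<|a (-2 :type_of% (b _))<|a (-2 :type_of% (b _))<|a (-1 :type_of% (b _))<|c)<|a (a (0 :type_of% (b _))<|a (1 :type_of% (b _))<|a (0 :type_of% (b _))<|a (0 :type_of% (b _))<|a (0 :type_of% (b _))<|a (0 :type_of% (b _))<|a (0 :type_of% (b _))<|c)<|a (a (1 :type_of% (b _))<|a (1 :type_of% (b _))<|a (2 :type_of% (b _))<|a (2 :type_of% (b _))<|a (2 :type_of% (b _))<|a (2 :type_of% (b _))<|a (1 :type_of% (b _))<|c)<|a (a (0 :type_of% (b _))<|a (0 :type_of% (b _))<|a (0 :type_of% (b _))<|a (1 :type_of% (b _))<|a (0 :type_of% (b _))<|a (0 :type_of% (b _))<|a (0 :type_of% (b _))<|c)<|a (a (0 :type_of% (b _))<|a (-1 :type_of% (b _))<|a (-1 :type_of% (b _))<|a (-2 :type_of% (b _))<|a (-1 :type_of% (b _))<|a (-1 :type_of% (b _))<|a (0 :type_of% (b _))<|c)<|a (a (0 :type_of% (b _))<|a (0 :type_of% (b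 _))<|a (0 :type_of% (b _))<|a (0 :type_of% (b _))<|a (0 :type_of% (b _))<|a (0 :type_of% (b _))<|a (-1 :type_of% (b _))<|c)<|a (a (0 :type_of% (b _))<|a (1 :type_of% (b _))<|a (1 :type_of% (b _))<|a (2 :type_of% (b _))<|a (2 :type_of% (b _))<|a (1 :type_of% (b _))<|a (1 :type_of% (b _))<|c)<|c))<|
 e (d 4 (a (a (-1 :type_of% (b _))<|a (-1 :type_of% (b _))<|a (-1 :type_of% (b _))<|a (-2 :type_of% (b _))<|a (-2 :type_of% (b _))<|a (-1 :type_of% (b _))<|a (-1 :type_of% (b _))<|c)<|a (a (0 :type_of% (b _))<|a (1 :type_of% (b _))<|a (0 :type_of% (b _))<|a (0 :type_of% (b _))<|a (0 :type_of% (b _))<|a (0 :type_of% (b _))<|a (0 :type_of% (b _))<|c)<|a (a (1 :type_of% (b _))<|a (1 :type_of% (b _))<|a (2 :type_of% (b _))<|a (2 :type_of% (b _))<|a (2 :type_of% (b _))<|a (1 :type_of% (b _))<|a (1 :type_of% (b _))<|c)<|a (a (0 :type_of% (b _))<|a (0 :type_of% (b _))<|a (0 :type_of% (b _))<|a (1 :type_of%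 (b _))<|a (0 :type_of% (b _))<|a (0 :type_of% (b _))<|a (0 :type_of% (b _))<|c)<|a (a (0 :type_of% (b _))<|a (-1 :type_of% (b _))<|a (-1 :type_of% (b _))<|a (-2 :type_of% (b _))<|a (-1 :type_of% (b _))<|a (0 :type_of% (b _))<|a (0 :type_of% (b _))<|c)<|a (a (0 :type_of% (b _))<|a (0 :type_of% (b _))<|a (0 :type_of% (b _))<|a (0 :type_of% (b _))<|a (0 :type_of% (b _))<|a (-1 :type_of% (b _))<|a (-1 :type_of% (b _))<|c)<|a (a (0 :type_of% (b _))<|a (1 :type_of% (b _))<|a (1 :type_of% (b _))<|a (2 :type_of% (b _))<|a (2 :type_of% (b _))<|a (2 :type_of% (b _))<|a (1 :type_of% (b _))<|c)<|c))<|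
 e (d 3 (a (a (-1 :type_of% (b _))<|a (-1 :type_of% (b _))<|a (-1 :type_of% (b _))<|a (-2 :type_of% (b _))<|a (-1 :type_of% (b _))<|a (-1 :type_of% (b _))<|a (-1 :type_of% (b _))<|c)<|a (a (0 :type_of% (b _))<|a (1 :type_of% (b _))<|a (0 :type_of% (b _))<|a (0 :type_of% (b _))<|a (0 :type_of% (b _))<|a (0 :type_of% (b _))<|a (0 :type_of% (b _))<|c)<|a (a (1 :type_of% (b _))<|a (1 :type_of% (b _))<|a (2 :type_of% (b _))<|a (2 :type_of% (b _))<|a (1 :type_of% (b _))<|a (1 :type_of% (b _))<|a (1 :type_of% (b _))<|c)<|a (a (0 :type_of% (b _))<|a (0 :type_of% (b _))<|a (0 :type_of% (b _))<|a (1 :type_of% (b _))<|a (1 :type_of% (b _))<|a (0 :type_of% (b _))<|a (0 :type_of% (b _))<|c)<|a (a (0 :type_of% (b _))<|a (-1 :type_of% (b _))<|a (-1 :type_of% (b _))<|a (-2 :type_of% (b _))<|a (-1 :type_of% (b _))<|a (0 :type_of% (b _))<|a (0 :type_of% (b _))<|c)<|a (a (0 :type_of% (b _))<|a (0 :type_of% (b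 _))<|a (0 :type_of% (b _))<|a (0 :type_of% (b _))<|a (-1 :type_of% (b _))<|a (-1 :type_of% (b _))<|a (-1 :type_of% (b _))<|c)<|a (a (0 :type_of% (b _))<|a (1 :type_of% (b _))<|a (1 :type_of% (b _))<|a (2 :type_of% (b _))<|a (2 :type_of% (b _))<|a (2 :type_of% (b _))<|a (1 :type_of% (b _))<|c)<|c))<|
 e (d 1 (a (a (-1 :type_of% (b _))<|a (-1 :type_of% (b _))<|a (-1 :type_of% (b _))<|a (-1 :type_of% (b _))<|a (-1 :type_of% (b _))<|a (-1 :type_of% (b _))<|a (-1 :type_of% (b _))<|c)<|a (a (0 :type_of% (b _))<|a (1 :type_of% (b _))<|a (0 :type_of% (b _))<|a (1 :type_of% (b _))<|a (0 :type_of% (b _))<|a (0 :type_of% (b _))<|a (0 :type_of% (b _))<|c)<|a (a (1 :type_of% (b _))<|a (1 :type_of% (b _))<|a (2 :type_of% (b _))<|a (2 :type_of% (b _))<|a (1 :type_of% (b _))<|a (1 :type_of% (b _))<|a (1 :type_of% (b _))<|c)<|a (a (0 :type_of% (b _))<|a (0 :type_of% (b _))<|a (0 :type_of% (b _))<|a (0 :type_of%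 (b _))<|a (1 :type_of% (b _))<|a (0 :type_of% (b _))<|a (0 :type_of% (b _))<|c)<|a (a (0 :type_of% (b _))<|a (-1 :type_of% (b _))<|a (-1 :type_of% (b _))<|a (-1 :type_of% (b _))<|a (-1 :type_of% (b _))<|a (0 :type_of% (b _))<|a (0 :type_of% (b _))<|c)<|a (a (0 :type_of% (b _))<|a (0 :type_of% (b _))<|a (0 :type_of% (b _))<|a (-1 :type_of% (b _))<|a (-1 :type_of% (b _))<|a (-1 :type_of% (b _))<|a (-1 :type_of% (b _))<|c)<|a (a (0 :type_of% (b _))<|a (1 :type_of% (b _))<|a (1 :type_of% (b _))<|a (2 :type_of% (b _))<|a (2 :type_of% (b _))<|a (2 :type_of% (b _))<|a (1 :type_of% (b _))<|c)<|c))<|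
 e (d 2 (a (a (-1 :type_of% (b _))<|a (0 :type_of% (b _))<|a (-1 :type_of% (b _))<|a (-1 :type_of% (b _))<|a (-1 :type_of% (b _))<|a (-1 :type_of% (b _))<|a (-1 :type_of% (b _))<|c)<|a (a (0 :type_of% (b _))<|a (0 :type_of% (b _))<|a (0 :type_of% (b _))<|a (1 :type_of% (b _))<|a (0 :type_of% (b _))<|a (0 :type_of% (b _))<|a (0 :type_of% (b _))<|c)<|a (a (1 :type_of% (b _))<|a (1 :type_of% (b _))<|a (2 :type_of% (b _))<|a (2 :type_of% (b _))<|a (1 :type_of% (b _))<|a (1 :type_of% (b _))<|a (1 :type_of% (b _))<|c)<|a (a (0 :type_of% (b _))<|a (0 :type_of% (b _))<|a (0 :type_of% (b _))<|a (0 :type_of% (b _))<|a (1 :type_of% (b _))<|a (0 :type_of% (b _))<|a (0 :type_of% (b _))<|c)<|a (a (0 :type_of% (b _))<|a (0 :type_of% (b _))<|a (-1 :type_of% (b _))<|a (-1 :type_of% (b _))<|a (-1 :type_of% (b _))<|a (0 :type_of% (b _))<|a (0 :type_of% (b _))<|c)<|a (a (0 :type_of% (b _))<|a (-1 :type_of% (b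 _))<|a (0 :type_of% (b _))<|a (-1 :type_of% (b _))<|a (-1 :type_of% (b _))<|a (-1 :type_of% (b _))<|a (-1 :type_of% (b _))<|c)<|a (a (0 :type_of% (b _))<|a (1 :type_of% (b _))<|a (1 :type_of% (b _))<|a (2 :type_of% (b _))<|a (2 :type_of% (b _))<|a (2 :type_of% (b _))<|a (1 :type_of% (b _))<|c)<|c))<|
 e (d 3 (a (a (-1 :type_of% (b _))<|a (0 :type_of% (b _))<|a (-1 :type_of% (b _))<|a (-1 :type_of% (b _))<|a (-1 :type_of% (b _))<|a (-1 :type_of% (b _))<|a (-1 :type_of% (b _))<|c)<|a (a (0 :type_of% (b _))<|a (0 :type_of% (b _))<|a (1 :type_of% (b _))<|a (1 :type_of% (b _))<|a (0 :type_of% (b _))<|a (0 :type_of% (b _))<|a (0 :type_of% (b _))<|c)<|a (a (1 :type_of% (b _))<|a (1 :type_of% (b _))<|a (1 :type_of% (b _))<|a (2 :type_of% (b _))<|a (1 :type_of% (b _))<|a (1 :type_of% (b _))<|a (1 :type_of% (b _))<|c)<|a (a (0 :type_of% (b _))<|a (0 :type_of% (b _))<|a (0 :type_of% (b _))<|a (0 :type_of%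 (b _))<|a (1 :type_of% (b _))<|a (0 :type_of% (b _))<|a (0 :type_of% (b _))<|c)<|a (a (0 :type_of% (b _))<|a (0 :type_of% (b _))<|a (0 :type_of% (b _))<|a (-1 :type_of% (b _))<|a (-1 :type_of% (b _))<|a (0 :type_of% (b _))<|a (0 :type_of% (b _))<|c)<|a (a (0 :type_of% (b _))<|a (-1 :type_of% (b _))<|a (-1 :type_of% (b _))<|a (-1 :type_of% (b _))<|a (-1 :type_of% (b _))<|a (-1 :type_of% (b _))<|a (-1 :type_of% (b _))<|c)<|a (a (0 :type_of% (b _))<|a (1 :type_of% (b _))<|a (1 :type_of% (b _))<|a (2 :type_of% (b _))<|a (2 :type_of% (b _))<|a (2 :type_of% (b _))<|a (1 :type_of% (b _))<|c)<|c))<|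
 e (d 4 (a (a (-1 :type_of% (b _))<|a (0 :type_of% (b _))<|a (-1 :type_of% (b _))<|a (-1 :type_of% (b _))<|a (-1 :type_of% (b _))<|a (-1 :type_of% (b _))<|a (-1 :type_of% (b _))<|c)<|a (a (0 :type_of% (b _))<|a (0 :type_of% (b _))<|a (1 :type_of% (b _))<|a (0 :type_of% (b _))<|a (0 :type_of% (b _))<|a (0 :type_of% (b _))<|a (0 :type_of% (b _))<|c)<|a (a (1 :type_of% (b _))<|a (1 :type_of% (b _))<|a (1 :type_of% (b _))<|a (1 :type_of% (b _))<|a (1 :type_of% (b _))<|a (1 :type_of% (b _))<|a (1 :type_of% (b _))<|c)<|a (a (0 :type_of% (b _))<|a (0 :type_of% (b _))<|a (0 :type_of% (b _))<|a (1 :type_of% (b _))<|a (1 :type_of% (b _))<|a (0 :type_of% (b _))<|a (0 :type_of% (b _))<|c)<|a (a (0 :type_of% (b _))<|a (0 :type_of% (b _))<|a (0 :type_of% (b _))<|a (0 :type_of% (b _))<|a (-1 :type_of% (b _))<|a (0 :type_of% (b _))<|a (0 :type_of% (b _))<|c)<|a (a (0 :type_of% (b _))<|a (-1 :type_of% (b _))<|a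 (-1 :type_of% (b _))<|a (-2 :type_of% (b _))<|a (-1 :type_of% (b _))<|a (-1 :type_of% (b _))<|a (-1 :type_of% (b _))<|c)<|a (a (0 :type_of% (b _))<|a (1 :type_of% (b _))<|a (1 :type_of% (b _))<|a (2 :type_of% (b _))<|a (2 :type_of% (b _))<|a (2 :type_of% (b _))<|a (1 :type_of% (b _))<|c)<|c))<|
 e (d 6 (a (a (-1 :type_of% (b _))<|a (0 :type_of% (b _))<|a (-1 :type_of% (b _))<|a (-1 :type_of% (b _))<|a (-1 :type_of% (b _))<|a (-1 :type_of% (b _))<|a (-1 :type_of% (b _))<|c)<|a (a (0 :type_of% (b _))<|a (0 :type_of% (b _))<|a (1 :type_of% (b _))<|a (0 :type_of% (b _))<|a (0 :type_of% (b _))<|a (0 :type_of% (b _))<|a (0 :type_of% (b _))<|c)<|a (a (1 :type_of% (b _))<|a (1 :type_of% (b _))<|a (1 :type_of% (b _))<|a (1 :type_of% (b _))<|a (1 :type_of% (b _))<|a (1 :type_of% (b _))<|a (1 :type_of% (b _))<|c)<|a (a (0 :type_of% (b _))<|a (0 :type_of% (b _))<|a (0 :type_of% (b _))<|a (1 :type_of% (b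 _))<|a (0 :type_of% (b _))<|a (0 :type_of% (b _))<|a (0 :type_of% (b _))<|c)<|a (a (0 :type_of% (b _))<|a (0 :type_of% (b _))<|a (0 :type_of% (b _))<|a (0 :type_of% (b _))<|a (1 :type_of% (b _))<|a (0 :type_of% (b _))<|a (0 :type_of% (b _))<|c)<|a (a (0 :type_of% (b _))<|a (-1 :type_of% (b _))<|a (-1 :type_of% (b _))<|a (-2 :type_of% (b _))<|a (-2 :type_of% (b _))<|a (-1 :type_of% (b _))<|a (-1 :type_of% (b _))<|c)<|a (a (0 :type_of% (b _))<|a (1 :type_of% (b _))<|a (1 :type_of% (b _))<|a (2 :type_of% (b _))<|a (2 :type_of% (b _))<|a (2 :type_of% (b _))<|a (1 :type_of% (b _))<|c)<|c))<|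
 e (d 5 (a (a (-1 :type_of% (b _))<|a (0 :type_of% (b _))<|a (-1 :type_of% (b _))<|a (-1 :type_of% (b _))<|a (-1 :type_of% (b _))<|a (-1 :type_of% (b _))<|a (0 :type_of% (b _))<|c)<|a (a (0 :type_of% (b _))<|a (0 :type_of% (b _))<|a (1 :type_of% (b _))<|a (0 :type_of% (b _))<|a (0 :type_of% (b _))<|a (0 :type_of% (b _))<|a (0 :type_of% (b _))<|c)<|a (a (1 :type_of% (b _))<|a (1 :type_of% (b _))<|a (1 :type_of% (b _))<|a (1 :type_of% (b _))<|a (1 :type_of% (b _))<|a (1 :type_of% (b _))<|a (0 :type_of% (b _))<|c)<|a (a (0 :type_of% (b _))<|a (0 :type_of% (b _))<|a (0 :type_of% (b _))<|a (1 :type_of% (b _))<|a (0 :type_of% (b _))<|a (0 :type_of% (b _))<|a (0 :type_of% (b _))<|c)<|a (a (0 :type_of% (b _))<|a (0 :type_of% (b _))<|a (0 :type_of% (b _))<|a (0 :type_of% (b _))<|a (1 :type_of% (b _))<|a (0 :type_of% (b _))<|a (0 :type_of% (b _))<|c)<|a (a (0 :type_of% (b _))<|a (-1 :type_of% (b _))<|a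 (-1 :type_of% (b _))<|a (-2 :type_of% (b _))<|a (-2 :type_of% (b _))<|a (-1 :type_of% (b _))<|a (0 :type_of% (b _))<|c)<|a (a (0 :type_of% (b _))<|a (1 :type_of% (b _))<|a (1 :type_of% (b _))<|a (2 :type_of% (b _))<|a (2 :type_of% (b _))<|a (2 :type_of% (b _))<|a (1 :type_of% (b _))<|c)<|c))<|
 e (d 4 (a (a (-1 :type_of% (b _))<|a (0 :type_of% (b _))<|a (-1 :type_of% (b _))<|a (-1 :type_of% (b _))<|a (-1 :type_of% (b _))<|a (0 :type_of% (b _))<|a (0 :type_of% (b _))<|c)<|a (a (0 :type_of% (b _))<|a (0 :type_of% (b _))<|a (1 :type_of% (b _))<|a (0 :type_of% (b _))<|a (0 :type_of% (b _))<|a (0 :type_of% (b _))<|a (0 :type_of% (b _))<|c)<|a (a (1 :type_of% (b _))<|a (1 :type_of% (b _))<|a (1 :type_of% (b _))<|a (1 :type_of% (b _))<|a (1 :type_of% (b _))<|a (0 :type_of% (b _))<|a (0 :type_of% (b _))<|c)<|a (a (0 :type_of% (b _))<|a (0 :type_of% (b _))<|a (0 :type_of% (b _))<|a (1 :type_of% (b _))<|a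 (0 :type_of% (b _))<|a (0 :type_of% (b _))<|a (0 :type_of% (b _))<|c)<|a (a (0 :type_of% (b _))<|a (0 :type_of% (b _))<|a (0 :type_of% (b _))<|a (0 :type_of% (b _))<|a (1 :type_of% (b _))<|a (1 :type_of% (b _))<|a (0 :type_of% (b _))<|c)<|a (a (0 :type_of% (b _))<|a (-1 :type_of% (b _))<|a (-1 :type_of% (b _))<|a (-2 :type_of% (b _))<|a (-2 :type_of% (b _))<|a (-1 :type_of% (b _))<|a (0 :type_of% (b _))<|c)<|a (a (0 :type_of% (b _))<|a (1 :type_of% (b _))<|a (1 :type_of% (b _))<|a (2 :type_of% (b _))<|a (2 :type_of% (b _))<|a (1 :type_of% (b _))<|a (1 :type_of% (b _))<|c)<|c))<|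
 e (d 3 (a (a (-1 :type_of% (b _))<|a (0 :type_of% (b _))<|a (-1 :type_of% (b _))<|a (-1 :type_of% (b _))<|a (0 :type_of% (b _))<|a (0 :type_of% (b _))<|a (0 :type_of% (b _))<|c)<|a (a (0 :type_of% (b _))<|a (0 :type_of% (b _))<|a (1 :type_of% (b _))<|a (0 :type_of% (b _))<|a (0 :type_of% (b _))<|a (0 :type_of% (b _))<|a (0 :type_of% (b _))<|c)<|a (a (1 :type_of% (b _))<|a (1 :type_of% (b _))<|a (1 :type_of% (b _))<|a (1 :type_of% (b _))<|a (0 :type_of% (b _))<|a (0 :type_of% (b _))<|a (0 :type_of% (b _))<|c)<|a (a (0 :type_of% (b _))<|a (0 :type_of% (b _))<|a (0 :type_of% (b _))<|a (1 :type_of% (b _))<|a (1 :type_of% (b _))<|a (0 :type_of% (b _))<|a (0 :type_of% (b _))<|c)<|a (a (0 :type_of% (b _))<|a (0 :type_of% (b _))<|a (0 :type_of% (b _))<|a (0 :type_of% (b _))<|a (0 :type_of% (b _))<|a (1 :type_of% (b _))<|a (0 :type_of% (b _))<|c)<|a (a (0 :type_of% (b _))<|a (-1 :type_of% (b _))<|a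 (-1 :type_of% (b _))<|a (-2 :type_of% (b _))<|a (-1 :type_of% (b _))<|a (-1 :type_of% (b _))<|a (0 :type_of% (b _))<|c)<|a (a (0 :type_of% (b _))<|a (1 :type_of% (b _))<|a (1 :type_of% (b _))<|a (2 :type_of% (b _))<|a (1 :type_of% (b _))<|a (1 :type_of% (b _))<|a (1 :type_of% (b _))<|c)<|c))<|
 e (d 1 (a (a (-1 :type_of% (b _))<|a (0 :type_of% (b _))<|a (-1 :type_of% (b _))<|a (0 :type_of% (b _))<|a (0 :type_of% (b _))<|a (0 :type_of% (b _))<|a (0 :type_of% (b _))<|c)<|a (a (0 :type_of% (b _))<|a (0 :type_of% (b _))<|a (1 :type_of% (b _))<|a (1 :type_of% (b _))<|a (0 :type_of% (b _))<|a (0 :type_of% (b _))<|a (0 :type_of% (b _))<|c)<|a (a (1 :type_of% (b _))<|a (1 :type_of% (b _))<|a (1 :type_of% (b _))<|a (1 :type_of% (b _))<|a (0 :type_of% (b _))<|a (0 :type_of% (b _))<|a (0 :type_of% (b _))<|c)<|a (a (0 :type_of% (b _))<|a (0 :type_of% (b _))<|a (0 :type_of% (b _))<|a (0 :type_of% (b _))<|a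 (1 :type_of% (b _))<|a (0 :type_of% (b _))<|a (0 :type_of% (b _))<|c)<|a (a (0 :type_of% (b _))<|a (0 :type_of% (b _))<|a (0 :type_of% (b _))<|a (0 :type_of% (b _))<|a (0 :type_of% (b _))<|a (1 :type_of% (b _))<|a (0 :type_of% (b _))<|c)<|a (a (0 :type_of% (b _))<|a (-1 :type_of% (b _))<|a (-1 :type_of% (b _))<|a (-1 :type_of% (b _))<|a (-1 :type_of% (b _))<|a (-1 :type_of% (b _))<|a (0 :type_of% (b _))<|c)<|a (a (0 :type_of% (b _))<|a (1 :type_of% (b _))<|a (1 :type_of% (b _))<|a (1 :type_of% (b _))<|a (1 :type_of% (b _))<|a (1 :type_of% (b _))<|a (1 :type_of% (b _))<|c)<|c))<|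
 e (d 2 (a (a (-1 :type_of% (b _))<|a (0 :type_of% (b _))<|a (-1 :type_of% (b _))<|a (0 :type_of% (b _))<|a (0 :type_of% (b _))<|a (0 :type_of% (b _))<|a (0 :type_of% (b _))<|c)<|a (a (0 :type_of% (b _))<|a (1 :type_of% (b _))<|a (1 :type_of% (b _))<|a (1 :type_of% (b _))<|a (0 :type_of% (b _))<|a (0 :type_of% (b _))<|a (0 :type_of% (b _))<|c)<|a (a (1 :type_of% (b _))<|a (0 :type_of% (b _))<|a (1 :type_of% (b _))<|a (1 :type_of% (b _))<|a (0 :type_of% (b _))<|a (0 :type_of% (b _))<|a (0 :type_of% (b _))<|c)<|a (a (0 :type_of% (b _))<|a (0 :type_of% (b _))<|a (0 :type_of% (b _))<|a (0 :type_of% (b _))<|a (1 :type_of% (b _))<|a (0 :type_of% (b _))<|a (0 :type_of% (b _))<|c)<|a (a (0 :type_of% (b _))<|a (0 :type_of% (b _))<|a (0 :type_of% (b _))<|a (0 :type_of% (b _))<|a (0 :type_of% (b _))<|a (1 :type_of% (b _))<|a (0 :type_of% (b _))<|c)<|a (a (0 :type_of% (b _))<|a (0 :type_of% (b _))<|a (-1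 :type_of% (b _))<|a (-1 :type_of% (b _))<|a (-1 :type_of% (b _))<|a (-1 :type_of% (b _))<|a (0 :type_of% (b _))<|c)<|a (a (0 :type_of% (b _))<|a (0 :type_of% (b _))<|a (1 :type_of% (b _))<|a (1 :type_of% (b _))<|a (1 :type_of% (b _))<|a (1 :type_of% (b _))<|a (1 :type_of% (b _))<|c)<|c))<|
 e (d 0 (a (a (-1 :type_of% (b _))<|a (0 :type_of% (b _))<|a (0 :type_of% (b _))<|a (0 :type_of% (b _))<|a (0 :type_of% (b _))<|a (0 :type_of% (b _))<|a (0 :type_of% (b _))<|c)<|a (a (0 :type_of% (b _))<|a (1 :type_of% (b _))<|a (0 :type_of% (b _))<|a (1 :type_of% (b _))<|a (0 :type_of% (b _))<|a (0 :type_of% (b _))<|a (0 :type_of% (b _))<|c)<|a (a (1 :type_of% (b _))<|a (0 :type_of% (b _))<|a (1 :type_of% (b _))<|a (1 :type_of% (b _))<|a (0 :type_of% (b _))<|a (0 :type_of% (b _))<|a (0 :type_of% (b _))<|c)<|a (a (0 :type_of% (b _))<|a (0 :type_of% (b _))<|a (0 :type_of% (b _))<|a (0 :type_of% (b _))<|a (1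 :type_of% (b _))<|a (0 :type_of% (b _))<|a (0 :type_of% (b _))<|c)<|a (a (0 :type_of% (b _))<|a (0 :type_of% (b _))<|a (0 :type_of% (b _))<|a (0 :type_of% (b _))<|a (0 :type_of% (b _))<|a (1 :type_of% (b _))<|a (0 :type_of% (b _))<|c)<|a (a (0 :type_of% (b _))<|a (0 :type_of% (b _))<|a (0 :type_of% (b _))<|a (-1 :type_of% (b _))<|a (-1 :type_of% (b _))<|a (-1 :type_of% (b _))<|a (0 :type_of% (b _))<|c)<|a (a (0 :type_of% (b _))<|a (0 :type_of% (b _))<|a (0 :type_of% (b _))<|a (1 :type_of% (b _))<|a (1 :type_of% (b _))<|a (1 :type_of% (b _))<|a (1 :type_of% (b _))<|c)<|c))<|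
 e (d 3 (a (a (1 :type_of% (b _))<|a (0 :type_of% (b _))<|a (0 :type_of% (b _))<|a (0 :type_of% (b _))<|a (0 :type_of% (b _))<|a (0 :type_of% (b _))<|a (0 :type_of% (b _))<|c)<|a (a (0 :type_of% (b _))<|a (1 :type_of% (b _))<|a (0 :type_of% (b _))<|a (1 :type_of% (b _))<|a (0 :type_of% (b _))<|a (0 :type_of% (b _))<|a (0 :type_of% (b _))<|c)<|a (a (0 :type_of% (b _))<|a (0 :type_of% (b _))<|a (1 :type_of% (b _))<|a (1 :type_of% (b _))<|a (0 :type_of% (b _))<|a (0 :type_of% (b _))<|a (0 :type_of% (b _))<|c)<|a (a (0 :type_of% (b _))<|a (0 :type_of% (b _))<|a (0 :type_of% (b _))<|a (0 :type_of% (b _))<|a (1 :type_of% (b _))<|a (0 :type_of% (b _))<|a (0 :type_of% (b _))<|c)<|a (a (0 :type_of% (b _))<|a (0 :type_of% (b _))<|a (0 :type_of% (b _))<|a (0 :type_of% (b _))<|a (0 :type_of% (b _))<|a (1 :type_of% (b _))<|a (0 :type_of% (b _))<|c)<|a (a (0 :type_of% (b _))<|a (0 :type_of% (b _))<|a (0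 :type_of% (b _))<|a (-1 :type_of% (b _))<|a (-1 :type_of% (b _))<|a (-1 :type_of% (b _))<|a (0 :type_of% (b _))<|c)<|a (a (0 :type_of% (b _))<|a (0 :type_of% (b _))<|a (0 :type_of% (b _))<|a (1 :type_of% (b _))<|a (1 :type_of% (b _))<|a (1 :type_of% (b _))<|a (1 :type_of% (b _))<|c)<|c))<|
 e (d 4 (a (a (1 :type_of% (b _))<|a (0 :type_of% (b _))<|a (0 :type_of% (b _))<|a (0 :type_of% (b _))<|a (0 :type_of% (b _))<|a (0 :type_of% (b _))<|a (0 :type_of% (b _))<|c)<|a (a (0 :type_of% (b _))<|a (1 :type_of% (b _))<|a (0 :type_of% (b _))<|a (0 :type_of% (b _))<|a (0 :type_of% (b _))<|a (0 :type_of% (b _))<|a (0 :type_of% (b _))<|c)<|a (a (0 :type_of% (b _))<|a (0 :type_of% (b _))<|a (1 :type_of% (b _))<|a (0 :type_of% (b _))<|a (0 :type_of% (b _))<|a (0 :type_of% (b _))<|a (0 :type_of% (b _))<|c)<|a (a (0 :type_of% (b _))<|a (0 :type_of% (b _))<|a (0 :type_of% (b _))<|a (1 :type_of% (b _))<|a (1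 :type_of% (b _))<|a (0 :type_of% (b _))<|a (0 :type_of% (b _))<|c)<|a (a (0 :type_of% (b _))<|a (0 :type_of% (b _))<|a (0 :type_of% (b _))<|a (0 :type_of% (b _))<|a (0 :type_of% (b _))<|a (1 :type_of% (b _))<|a (0 :type_of% (b _))<|c)<|a (a (0 :type_of% (b _))<|a (0 :type_of% (b _))<|a (0 :type_of% (b _))<|a (0 :type_of% (b _))<|a (-1 :type_of% (b _))<|a (-1 :type_of% (b _))<|a (0 :type_of% (b _))<|c)<|a (a (0 :type_of% (b _))<|a (0 :type_of% (b _))<|a (0 :type_of% (b _))<|a (0 :type_of% (b _))<|a (1 :type_of% (b _))<|a (1 :type_of% (b _))<|a (1 :type_of% (b _))<|c)<|c))<|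
 e (d 5 (a (a (1 :type_of% (b _))<|a (0 :type_of% (b _))<|a (0 :type_of% (b _))<|a (0 :type_of% (b _))<|a (0 :type_of% (b _))<|a (0 :type_of% (b _))<|a (0 :type_of% (b _))<|c)<|a (a (0 :type_of% (b _))<|a (1 :type_of% (b _))<|a (0 :type_of% (b _))<|a (0 :type_of% (b _))<|a (0 :type_of% (b _))<|a (0 :type_of% (b _))<|a (0 :type_of% (b _))<|c)<|a (a (0 :type_of% (b _))<|a (0 :type_of% (b _))<|a (1 :type_of% (b _))<|a (0 :type_of% (b _))<|a (0 :type_of% (b _))<|a (0 :type_of% (b _))<|a (0 :type_of% (b _))<|c)<|a (a (0 :type_of% (b _))<|a (0 :type_of% (b _))<|a (0 :type_of% (b _))<|a (1 :type_of% (b _))<|a (0 :type_of% (b _))<|a (0 :type_of% (b _))<|a (0 :type_of% (b _))<|c)<|a (a (0 :type_of% (b _))<|a (0 :type_of% (b _))<|a (0 :type_of% (b _))<|a (0 :type_of% (b _))<|a (1 :type_of% (b _))<|a (1 :type_of% (b _))<|a (0 :type_of% (b _))<|c)<|a (a (0 :type_of% (b _))<|a (0 :type_of% (b _))<|a (0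 :type_of% (b _))<|a (0 :type_of% (b _))<|a (0 :type_of% (b _))<|a (-1 :type_of% (b _))<|a (0 :type_of% (b _))<|c)<|a (a (0 :type_of% (b _))<|a (0 :type_of% (b _))<|a (0 :type_of% (b _))<|a (0 :type_of% (b _))<|a (0 :type_of% (b _))<|a (1 :type_of% (b _))<|a (1 :type_of% (b _))<|c)<|c))<|f))

/-- type `2 A₃` -/
def w4 : List (Fin 7 × Mat 7) := [
    (0, ![![(0:ℤ), (0:ℤ), (1:ℤ), (0:ℤ), (0:ℤ), (0:ℤ), (0:ℤ)], ![(0:ℤ), (1:ℤ), (0:ℤ), (0:ℤ), (0:ℤ), (0:ℤ), (0:ℤ)], ![(1:ℤ), (2:ℤ), (2:ℤ), (4:ℤ), (3:ℤ), (2:ℤ), (1:ℤ)], ![(-1:ℤ), (-2:ℤ), (-2:ℤ), (-3:ℤ), (-2:ℤ), (-2:ℤ), (-1:ℤ)], ![(0:ℤ), (0:ℤ), (0:ℤ), (0:ℤ), (0:ℤ), (1:ℤ), (0:ℤ)], ![(0:ℤ), (0:ℤ), (0:ℤ), (0:ℤ), (0:ℤ), (0:ℤ), (1:ℤ)], ![(0:ℤ), (0:ℤ), (0:ℤ), (0:ℤ), (-1:ℤ), (-1:ℤ), (-1:ℤ)]]),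
    (2, ![![(1:ℤ), (0:ℤ), (1:ℤ), (0:ℤ), (0:ℤ), (0:ℤ), (0:ℤ)], ![(0:ℤ), (1:ℤ), (0:ℤ), (0:ℤ), (0:ℤ), (0:ℤ), (0:ℤ)], ![(1:ℤ), (2:ℤ), (2:ℤ), (4:ℤ), (3:ℤ), (2:ℤ), (1:ℤ)], ![(-1:ℤ), (-2:ℤ), (-2:ℤ), (-3:ℤ), (-2:ℤ), (-2:ℤ), (-1:ℤ)], ![(0:ℤ), (0:ℤ), (0:ℤ), (0:ℤ), (0:ℤ), (1:ℤ), (0:ℤ)], ![(0:ℤ), (0:ℤ), (0:ℤ), (0:ℤ), (0:ℤ), (0:ℤ), (1:ℤ)], ![(0:ℤ), (0:ℤ), (0:ℤ), (0:ℤ), (-1:ℤ), (-1:ℤ), (-1:ℤ)]]),
    (3, ![![(1:ℤ), (0:ℤ), (0:ℤ), (0:ℤ), (0:ℤ), (0:ℤ), (0:ℤ)], ![(0:ℤ), (1:ℤ), (0:ℤ), (0:ℤ), (0:ℤ), (0:ℤ), (0:ℤ)], ![(1:ℤ), (2:ℤ), (3:ℤ), (4:ℤ), (3:ℤ), (2:ℤ), (1:ℤ)], ![(-1:ℤ), (-2:ℤ), (-2:ℤ), (-3:ℤ), (-2:ℤ), (-2:ℤ), (-1:ℤ)], ![(0:ℤ), (0:ℤ), (0:ℤ), (0:ℤ), (0:ℤ), (1:ℤ), (0:ℤ)], ![(0:ℤ), (0:ℤ), (0:ℤ), (0:ℤ), (0:ℤ), (0:ℤ), (1:ℤ)], ![(0:ℤ), (0:ℤ), (0:ℤ), (0:ℤ), (-1:ℤ), (-1:ℤ), (-1:ℤ)]]),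
    (1, ![![(1:ℤ), (0:ℤ), (0:ℤ), (0:ℤ), (0:ℤ), (0:ℤ), (0:ℤ)], ![(0:ℤ), (1:ℤ), (0:ℤ), (1:ℤ), (0:ℤ), (0:ℤ), (0:ℤ)], ![(1:ℤ), (2:ℤ), (3:ℤ), (4:ℤ), (3:ℤ), (2:ℤ), (1:ℤ)], ![(-1:ℤ), (-2:ℤ), (-2:ℤ), (-3:ℤ), (-2:ℤ), (-2:ℤ), (-1:ℤ)], ![(0:ℤ), (0:ℤ), (0:ℤ), (0:ℤ), (0:ℤ), (1:ℤ), (0:ℤ)], ![(0:ℤ), (0:ℤ), (0:ℤ), (0:ℤ), (0:ℤ), (0:ℤ), (1:ℤ)], ![(0:ℤ), (0:ℤ), (0:ℤ), (-1:ℤ), (-1:ℤ), (-1:ℤ), (-1:ℤ)]]),
    (4, ![![(1:ℤ), (0:ℤ), (0:ℤ), (0:ℤ), (0:ℤ), (0:ℤ), (0:ℤ)], ![(0:ℤ), (0:ℤ), (0:ℤ), (1:ℤ), (0:ℤ), (0:ℤ), (0:ℤ)], ![(1:ℤ), (2:ℤ), (3:ℤ), (4:ℤ), (3:ℤ), (2:ℤ), (1:ℤ)], ![(-1:ℤ), (-1:ℤ), (-2:ℤ), (-3:ℤ), (-2:ℤ), (-2:ℤ), (-1:ℤ)], ![(0:ℤ), (0:ℤ), (0:ℤ), (0:ℤ), (0:ℤ), (1:ℤ), (0:ℤ)], ![(0:ℤ), (0:ℤ), (0:ℤ), (0:ℤ), (0:ℤ), (0:ℤ), (1:ℤ)], ![(0:ℤ), (-1:ℤ), (0:ℤ), (-1:ℤ), (-1:ℤ), (-1:ℤ), (-1:ℤ)]]),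
    (3, ![![(1:ℤ), (0:ℤ), (0:ℤ), (0:ℤ), (0:ℤ), (0:ℤ), (0:ℤ)], ![(0:ℤ), (0:ℤ), (0:ℤ), (1:ℤ), (1:ℤ), (0:ℤ), (0:ℤ)], ![(1:ℤ), (2:ℤ), (3:ℤ), (4:ℤ), (3:ℤ), (2:ℤ), (1:ℤ)], ![(-1:ℤ), (-1:ℤ), (-2:ℤ), (-3:ℤ), (-3:ℤ), (-2:ℤ), (-1:ℤ)], ![(0:ℤ), (0:ℤ), (0:ℤ), (0:ℤ), (1:ℤ), (1:ℤ), (0:ℤ)], ![(0:ℤ), (0:ℤ), (0:ℤ), (0:ℤ), (0:ℤ), (0:ℤ), (1:ℤ)], ![(0:ℤ), (-1:ℤ), (0:ℤ), (-1:ℤ), (-1:ℤ), (-1:ℤ), (-1:ℤ)]]),
    (1, ![![(1:ℤ), (0:ℤ), (0:ℤ), (0:ℤ), (0:ℤ), (0:ℤ), (0:ℤ)], ![(0:ℤ), (0:ℤ), (0:ℤ), (0:ℤ), (1:ℤ), (0:ℤ), (0:ℤ)], ![(1:ℤ), (2:ℤ), (3:ℤ), (4:ℤ), (3:ℤ), (2:ℤ), (1:ℤ)], ![(-1:ℤ), (-1:ℤ), (-2:ℤ), (-3:ℤ), (-3:ℤ), (-2:ℤ), (-1:ℤ)], ![(0:ℤ), (0:ℤ), (0:ℤ), (1:ℤ), (1:ℤ), (1:ℤ), (0:ℤ)], ![(0:ℤ), (0:ℤ), (0:ℤ), (0:ℤ), (0:ℤ), (0:ℤ), (1:ℤ)], ![(0:ℤ), (-1:ℤ), (0:ℤ), (-1:ℤ), (-1:ℤ), (-1:ℤ), (-1:ℤ)]]),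
    (2, ![![(1:ℤ), (0:ℤ), (0:ℤ), (0:ℤ), (0:ℤ), (0:ℤ), (0:ℤ)], ![(0:ℤ), (0:ℤ), (0:ℤ), (0:ℤ), (1:ℤ), (0:ℤ), (0:ℤ)], ![(1:ℤ), (2:ℤ), (3:ℤ), (4:ℤ), (3:ℤ), (2:ℤ), (1:ℤ)], ![(-1:ℤ), (-2:ℤ), (-2:ℤ), (-3:ℤ), (-3:ℤ), (-2:ℤ), (-1:ℤ)], ![(0:ℤ), (1:ℤ), (0:ℤ), (1:ℤ), (1:ℤ), (1:ℤ), (0:ℤ)], ![(0:ℤ), (0:ℤ), (0:ℤ), (0:ℤ), (0:ℤ), (0:ℤ), (1:ℤ)], ![(0:ℤ), (0:ℤ), (0:ℤ), (-1:ℤ), (-1:ℤ), (-1:ℤ), (-1:ℤ)]]),
    (0, ![![(1:ℤ), (0:ℤ), (1:ℤ), (0:ℤ), (0:ℤ), (0:ℤ), (0:ℤ)], ![(0:ℤ), (0:ℤ), (0:ℤ), (0:ℤ), (1:ℤ), (0:ℤ), (0:ℤ)], ![(1:ℤ), (2:ℤ), (2:ℤ), (4:ℤ), (3:ℤ), (2:ℤ), (1:ℤ)], ![(-1:ℤ), (-2:ℤ), (-2:ℤ), (-3:ℤ), (-3:ℤ), (-2:ℤ), (-1:ℤ)], ![(0:ℤ), (1:ℤ), (1:ℤ), (1:ℤ), (1:ℤ), (1:ℤ), (0:ℤ)], ![(0:ℤ), (0:ℤ), (0:ℤ), (0:ℤ), (0:ℤ), (0:ℤ), (1:ℤ)], ![(0:ℤ), (0:ℤ), (-1:ℤ), (-1:ℤ), (-1:ℤ), (-1:ℤ), (-1:ℤ)]]),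
    (5, ![![(0:ℤ), (0:ℤ), (1:ℤ), (0:ℤ), (0:ℤ), (0:ℤ), (0:ℤ)], ![(0:ℤ), (0:ℤ), (0:ℤ), (0:ℤ), (1:ℤ), (0:ℤ), (0:ℤ)], ![(1:ℤ), (2:ℤ), (2:ℤ), (4:ℤ), (3:ℤ), (2:ℤ), (1:ℤ)], ![(-1:ℤ), (-2:ℤ), (-2:ℤ), (-3:ℤ), (-3:ℤ), (-2:ℤ), (-1:ℤ)], ![(1:ℤ), (1:ℤ), (1:ℤ), (1:ℤ), (1:ℤ), (1:ℤ), (0:ℤ)], ![(0:ℤ), (0:ℤ), (0:ℤ), (0:ℤ), (0:ℤ), (0:ℤ), (1:ℤ)], ![(-1:ℤ), (0:ℤ), (-1:ℤ), (-1:ℤ), (-1:ℤ), (-1:ℤ), (-1:ℤ)]]),
    (4, ![![(0:ℤ), (0:ℤ), (1:ℤ), (0:ℤ), (0:ℤ), (0:ℤ), (0:ℤ)], ![(0:ℤ), (0:ℤ), (0:ℤ), (0:ℤ), (1:ℤ), (1:ℤ), (0:ℤ)], ![(1:ℤ), (2:ℤ), (2:ℤ), (4:ℤ), (3:ℤ), (2:ℤ), (1:ℤ)], ![(-1:ℤ), (-2:ℤ), (-2:ℤ), (-3:ℤ), (-3:ℤ), (-2:ℤ), (-1:ℤ)], ![(1:ℤ), (1:ℤ), (1:ℤ), (1:ℤ), (1:ℤ), (0:ℤ), (0:ℤ)], ![(0:ℤ), (0:ℤ), (0:ℤ), (0:ℤ), (0:ℤ), (1:ℤ), (1:ℤ)], ![(-1:ℤ), (0:ℤ), (-1:ℤ), (-1:ℤ), (-1:ℤ), (-1:ℤ), (-1:ℤ)]]),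
    (3, ![![(0:ℤ), (0:ℤ), (1:ℤ), (0:ℤ), (0:ℤ), (0:ℤ), (0:ℤ)], ![(0:ℤ), (0:ℤ), (0:ℤ), (0:ℤ), (0:ℤ), (1:ℤ), (0:ℤ)], ![(1:ℤ), (2:ℤ), (2:ℤ), (4:ℤ), (3:ℤ), (2:ℤ), (1:ℤ)], ![(-1:ℤ), (-2:ℤ), (-2:ℤ), (-3:ℤ), (-2:ℤ), (-2:ℤ), (-1:ℤ)], ![(1:ℤ), (1:ℤ), (1:ℤ), (1:ℤ), (0:ℤ), (0:ℤ), (0:ℤ)], ![(0:ℤ), (0:ℤ), (0:ℤ), (0:ℤ), (1:ℤ), (1:ℤ), (1:ℤ)], ![(-1:ℤ), (0:ℤ), (-1:ℤ), (-1:ℤ), (-1:ℤ), (-1:ℤ), (-1:ℤ)]]),
    (1, ![![(0:ℤ), (0:ℤ), (1:ℤ), (1:ℤ), (0:ℤ), (0:ℤ), (0:ℤ)], ![(0:ℤ), (0:ℤ), (0:ℤ), (0:ℤ), (0:ℤ), (1:ℤ), (0:ℤ)], ![(1:ℤ), (2:ℤ), (2:ℤ), (3:ℤ), (3:ℤ), (2:ℤ), (1:ℤ)], ![(-1:ℤ), (-2:ℤ), (-2:ℤ), (-3:ℤ), (-2:ℤ), (-2:ℤ), (-1:ℤ)], ![(1:ℤ), (1:ℤ), (1:ℤ), (1:ℤ), (0:ℤ), (0:ℤ), (0:ℤ)], ![(0:ℤ), (0:ℤ), (0:ℤ), (1:ℤ), (1:ℤ), (1:ℤ), (1:ℤ)], ![(-1:ℤ), (0:ℤ), (-1:ℤ), (-1:ℤ), (-1:ℤ), (-1:ℤ), (-1:ℤ)]]),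
    (2, ![![(0:ℤ), (1:ℤ), (1:ℤ), (1:ℤ), (0:ℤ), (0:ℤ), (0:ℤ)], ![(0:ℤ), (0:ℤ), (0:ℤ), (0:ℤ), (0:ℤ), (1:ℤ), (0:ℤ)], ![(1:ℤ), (1:ℤ), (2:ℤ), (3:ℤ), (3:ℤ), (2:ℤ), (1:ℤ)], ![(-1:ℤ), (-1:ℤ), (-2:ℤ), (-3:ℤ), (-2:ℤ), (-2:ℤ), (-1:ℤ)], ![(1:ℤ), (0:ℤ), (1:ℤ), (1:ℤ), (0:ℤ), (0:ℤ), (0:ℤ)], ![(0:ℤ), (1:ℤ), (0:ℤ), (1:ℤ), (1:ℤ), (1:ℤ), (1:ℤ)], ![(-1:ℤ), (-1:ℤ), (-1:ℤ), (-1:ℤ), (-1:ℤ), (-1:ℤ), (-1:ℤ)]]),
    (0, ![![(0:ℤ), (1:ℤ), (0:ℤ), (1:ℤ), (0:ℤ), (0:ℤ), (0:ℤ)], ![(0:ℤ), (0:ℤ), (0:ℤ), (0:ℤ), (0:ℤ), (1:ℤ), (0:ℤ)], ![(1:ℤ), (1:ℤ), (2:ℤ), (3:ℤ), (3:ℤ), (2:ℤ), (1:ℤ)], ![(-1:ℤ), (-1:ℤ), (-2:ℤ), (-3:ℤ), (-2:ℤ), (-2:ℤ), (-1:ℤ)], ![(1:ℤ), (0:ℤ), (1:ℤ), (1:ℤ), (0:ℤ), (0:ℤ), (0:ℤ)], ![(0:ℤ), (1:ℤ), (1:ℤ), (1:ℤ), (1:ℤ), (1:ℤ), (1:ℤ)], ![(-1:ℤ), (-1:ℤ), (-1:ℤ), (-1:ℤ), (-1:ℤ), (-1:ℤ), (-1:ℤ)]]),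
    (3, ![![(0:ℤ), (1:ℤ), (0:ℤ), (1:ℤ), (0:ℤ), (0:ℤ), (0:ℤ)], ![(0:ℤ), (0:ℤ), (0:ℤ), (0:ℤ), (0:ℤ), (1:ℤ), (0:ℤ)], ![(1:ℤ), (1:ℤ), (2:ℤ), (3:ℤ), (3:ℤ), (2:ℤ), (1:ℤ)], ![(-1:ℤ), (-1:ℤ), (-2:ℤ), (-3:ℤ), (-2:ℤ), (-2:ℤ), (-1:ℤ)], ![(0:ℤ), (0:ℤ), (1:ℤ), (1:ℤ), (0:ℤ), (0:ℤ), (0:ℤ)], ![(1:ℤ), (1:ℤ), (1:ℤ), (1:ℤ), (1:ℤ), (1:ℤ), (1:ℤ)], ![(0:ℤ), (-1:ℤ), (-1:ℤ), (-1:ℤ), (-1:ℤ), (-1:ℤ), (-1:ℤ)]]),
    (4, ![![(0:ℤ), (1:ℤ), (0:ℤ), (0:ℤ), (0:ℤ), (0:ℤ), (0:ℤ)], ![(0:ℤ), (0:ℤ), (0:ℤ), (0:ℤ), (0:ℤ), (1:ℤ), (0:ℤ)], ![(1:ℤ), (1:ℤ), (2:ℤ), (3:ℤ), (3:ℤ), (2:ℤ), (1:ℤ)], ![(-1:ℤ), (-1:ℤ), (-2:ℤ), (-2:ℤ), (-2:ℤ), (-2:ℤ), (-1:ℤ)], ![(0:ℤ), (0:ℤ), (1:ℤ), (0:ℤ), (0:ℤ), (0:ℤ), (0:ℤ)], ![(1:ℤ), (1:ℤ), (1:ℤ), (2:ℤ), (1:ℤ), (1:ℤ), (1:ℤ)], ![(0:ℤ), (-1:ℤ), (-1:ℤ), (-2:ℤ), (-1:ℤ), (-1:ℤ), (-1:ℤ)]]),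
    (5, ![![(0:ℤ), (1:ℤ), (0:ℤ), (0:ℤ), (0:ℤ), (0:ℤ), (0:ℤ)], ![(0:ℤ), (0:ℤ), (0:ℤ), (0:ℤ), (1:ℤ), (1:ℤ), (0:ℤ)], ![(1:ℤ), (1:ℤ), (2:ℤ), (3:ℤ), (2:ℤ), (2:ℤ), (1:ℤ)], ![(-1:ℤ), (-1:ℤ), (-2:ℤ), (-2:ℤ), (-2:ℤ), (-2:ℤ), (-1:ℤ)], ![(0:ℤ), (0:ℤ), (1:ℤ), (0:ℤ), (0:ℤ), (0:ℤ), (0:ℤ)], ![(1:ℤ), (1:ℤ), (1:ℤ), (2:ℤ), (2:ℤ), (1:ℤ), (1:ℤ)], ![(0:ℤ), (-1:ℤ), (-1:ℤ), (-2:ℤ), (-2:ℤ), (-1:ℤ), (-1:ℤ)]]),
    (6, ![![(0:ℤ), (1:ℤ), (0:ℤ), (0:ℤ), (0:ℤ), (0:ℤ), (0:ℤ)], ![(0:ℤ), (0:ℤ), (0:ℤ), (0:ℤ), (1:ℤ), (0:ℤ), (0:ℤ)], ![(1:ℤ), (1:ℤ), (2:ℤ), (3:ℤ), (2:ℤ), (1:ℤ), (1:ℤ)], ![(-1:ℤ), (-1:ℤ), (-2:ℤ), (-2:ℤ), (-2:ℤ), (-1:ℤ), (-1:ℤ)], ![(0:ℤ), (0:ℤ), (1:ℤ), (0:ℤ), (0:ℤ), (0:ℤ), (0:ℤ)], ![(1:ℤ), (1:ℤ), (1:ℤ), (2:ℤ), (2:ℤ), (2:ℤ), (1:ℤ)], ![(0:ℤ), (-1:ℤ), (-1:ℤ), (-2:ℤ), (-2:ℤ), (-2:ℤ), (-1:ℤ)]]),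
    (5, ![![(0:ℤ), (1:ℤ), (0:ℤ), (0:ℤ), (0:ℤ), (0:ℤ), (0:ℤ)], ![(0:ℤ), (0:ℤ), (0:ℤ), (0:ℤ), (1:ℤ), (0:ℤ), (0:ℤ)], ![(1:ℤ), (1:ℤ), (2:ℤ), (3:ℤ), (2:ℤ), (1:ℤ), (0:ℤ)], ![(-1:ℤ), (-1:ℤ), (-2:ℤ), (-2:ℤ), (-2:ℤ), (-1:ℤ), (0:ℤ)], ![(0:ℤ), (0:ℤ), (1:ℤ), (0:ℤ), (0:ℤ), (0:ℤ), (0:ℤ)], ![(1:ℤ), (1:ℤ), (1:ℤ), (2:ℤ), (2:ℤ), (2:ℤ), (1:ℤ)], ![(0:ℤ), (-1:ℤ), (-1:ℤ), (-2:ℤ), (-2:ℤ), (-2:ℤ), (-1:ℤ)]]),
    (4, ![![(0:ℤ), (1:ℤ), (0:ℤ), (0:ℤ), (0:ℤ), (0:ℤ), (0:ℤ)], ![(0:ℤ), (0:ℤ), (0:ℤ), (0:ℤ), (1:ℤ), (1:ℤ), (0:ℤ)], ![(1:ℤ), (1:ℤ), (2:ℤ), (3:ℤ), (2:ℤ), (1:ℤ), (0:ℤ)], ![(-1:ℤ), (-1:ℤ), (-2:ℤ), (-2:ℤ), (-2:ℤ), (-1:ℤ), (0:ℤ)], ![(0:ℤ), (0:ℤ), (1:ℤ), (0:ℤ), (0:ℤ), (0:ℤ), (0:ℤ)], ![(1:ℤ), (1:ℤ), (1:ℤ), (2:ℤ), (2:ℤ), (1:ℤ), (1:ℤ)], ![(0:ℤ), (-1:ℤ), (-1:ℤ), (-2:ℤ), (-2:ℤ), (-1:ℤ), (-1:ℤ)]]),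
    (3, ![![(0:ℤ), (1:ℤ), (0:ℤ), (0:ℤ), (0:ℤ), (0:ℤ), (0:ℤ)], ![(0:ℤ), (0:ℤ), (0:ℤ), (0:ℤ), (0:ℤ), (1:ℤ), (0:ℤ)], ![(1:ℤ), (1:ℤ), (2:ℤ), (3:ℤ), (2:ℤ), (1:ℤ), (0:ℤ)], ![(-1:ℤ), (-1:ℤ), (-2:ℤ), (-2:ℤ), (-1:ℤ), (-1:ℤ), (0:ℤ)], ![(0:ℤ), (0:ℤ), (1:ℤ), (0:ℤ), (0:ℤ), (0:ℤ), (0:ℤ)], ![(1:ℤ), (1:ℤ), (1:ℤ), (2:ℤ), (1:ℤ), (1:ℤ), (1:ℤ)], ![(0:ℤ), (-1:ℤ), (-1:ℤ), (-2:ℤ), (-1:ℤ), (-1:ℤ), (-1:ℤ)]]),
    (1, ![![(0:ℤ), (1:ℤ), (0:ℤ), (1:ℤ), (0:ℤ), (0:ℤ), (0:ℤ)], ![(0:ℤ), (0:ℤ), (0:ℤ), (0:ℤ), (0:ℤ), (1:ℤ), (0:ℤ)], ![(1:ℤ), (1:ℤ), (2:ℤ), (2:ℤ), (2:ℤ), (1:ℤ), (0:ℤ)], ![(-1:ℤ), (-1:ℤ), (-2:ℤ), (-2:ℤ), (-1:ℤ), (-1:ℤ), (0:ℤ)], ![(0:ℤ), (0:ℤ), (1:ℤ), (1:ℤ), (0:ℤ), (0:ℤ), (0:ℤ)], ![(1:ℤ), (1:ℤ), (1:ℤ), (1:ℤ), (1:ℤ), (1:ℤ), (1:ℤ)], ![(0:ℤ), (-1:ℤ), (-1:ℤ), (-1:ℤ), (-1:ℤ), (-1:ℤ), (-1:ℤ)]]),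
    (2, ![![(0:ℤ), (0:ℤ), (0:ℤ), (1:ℤ), (0:ℤ), (0:ℤ), (0:ℤ)], ![(0:ℤ), (0:ℤ), (0:ℤ), (0:ℤ), (0:ℤ), (1:ℤ), (0:ℤ)], ![(1:ℤ), (1:ℤ), (2:ℤ), (2:ℤ), (2:ℤ), (1:ℤ), (0:ℤ)], ![(-1:ℤ), (-1:ℤ), (-2:ℤ), (-2:ℤ), (-1:ℤ), (-1:ℤ), (0:ℤ)], ![(0:ℤ), (1:ℤ), (1:ℤ), (1:ℤ), (0:ℤ), (0:ℤ), (0:ℤ)], ![(1:ℤ), (0:ℤ), (1:ℤ), (1:ℤ), (1:ℤ), (1:ℤ), (1:ℤ)], ![(0:ℤ), (0:ℤ), (-1:ℤ), (-1:ℤ), (-1:ℤ), (-1:ℤ), (-1:ℤ)]]),
    (0, ![![(0:ℤ), (0:ℤ), (1:ℤ), (1:ℤ), (0:ℤ), (0:ℤ), (0:ℤ)], ![(0:ℤ), (0:ℤ), (0:ℤ), (0:ℤ), (0:ℤ), (1:ℤ), (0:ℤ)], ![(1:ℤ), (1:ℤ), (1:ℤ), (2:ℤ), (2:ℤ), (1:ℤ), (0:ℤ)], ![(-1:ℤ), (-1:ℤ), (-1:ℤ), (-2:ℤ), (-1:ℤ), (-1:ℤ), (0:ℤ)], ![(0:ℤ), (1:ℤ), (0:ℤ), (1:ℤ), (0:ℤ), (0:ℤ), (0:ℤ)], ![(1:ℤ), (0:ℤ), (1:ℤ), (1:ℤ), (1:ℤ), (1:ℤ), (1:ℤ)], ![(0:ℤ), (0:ℤ), (0:ℤ), (-1:ℤ), (-1:ℤ), (-1:ℤ), (-1:ℤ)]]),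
    (3, ![![(1:ℤ), (0:ℤ), (1:ℤ), (1:ℤ), (0:ℤ), (0:ℤ), (0:ℤ)], ![(0:ℤ), (0:ℤ), (0:ℤ), (0:ℤ), (0:ℤ), (1:ℤ), (0:ℤ)], ![(0:ℤ), (1:ℤ), (1:ℤ), (2:ℤ), (2:ℤ), (1:ℤ), (0:ℤ)], ![(0:ℤ), (-1:ℤ), (-1:ℤ), (-2:ℤ), (-1:ℤ), (-1:ℤ), (0:ℤ)], ![(0:ℤ), (1:ℤ), (0:ℤ), (1:ℤ), (0:ℤ), (0:ℤ), (0:ℤ)], ![(0:ℤ), (0:ℤ), (1:ℤ), (1:ℤ), (1:ℤ), (1:ℤ), (1:ℤ)], ![(0:ℤ), (0:ℤ), (0:ℤ), (-1:ℤ), (-1:ℤ), (-1:ℤ), (-1:ℤ)]]),
    (2, ![![(1:ℤ), (0:ℤ), (1:ℤ), (0:ℤ), (0:ℤ), (0:ℤ), (0:ℤ)], ![(0:ℤ), (0:ℤ), (0:ℤ), (0:ℤ), (0:ℤ), (1:ℤ), (0:ℤ)], ![(0:ℤ), (1:ℤ), (1:ℤ), (2:ℤ), (2:ℤ), (1:ℤ), (0:ℤ)], ![(0:ℤ), (-1:ℤ), (-1:ℤ), (-1:ℤ), (-1:ℤ), (-1:ℤ), (0:ℤ)], ![(0:ℤ), (1:ℤ), (0:ℤ), (0:ℤ), (0:ℤ), (0:ℤ), (0:ℤ)], ![(0:ℤ), (0:ℤ), (1:ℤ), (1:ℤ), (1:ℤ), (1:ℤ), (1:ℤ)], ![(0:ℤ), (0:ℤ), (0:ℤ), (0:ℤ), (-1:ℤ), (-1:ℤ), (-1:ℤ)]]),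
    (4, ![![(1:ℤ), (0:ℤ), (0:ℤ), (0:ℤ), (0:ℤ), (0:ℤ), (0:ℤ)], ![(0:ℤ), (0:ℤ), (0:ℤ), (0:ℤ), (0:ℤ), (1:ℤ), (0:ℤ)], ![(0:ℤ), (1:ℤ), (1:ℤ), (2:ℤ), (2:ℤ), (1:ℤ), (0:ℤ)], ![(0:ℤ), (-1:ℤ), (0:ℤ), (-1:ℤ), (-1:ℤ), (-1:ℤ), (0:ℤ)], ![(0:ℤ), (1:ℤ), (0:ℤ), (0:ℤ), (0:ℤ), (0:ℤ), (0:ℤ)], ![(0:ℤ), (0:ℤ), (0:ℤ), (1:ℤ), (1:ℤ), (1:ℤ), (1:ℤ)], ![(0:ℤ), (0:ℤ), (0:ℤ), (0:ℤ), (-1:ℤ), (-1:ℤ), (-1:ℤ)]]),
    (3, ![![(1:ℤ), (0:ℤ), (0:ℤ), (0:ℤ), (0:ℤ), (0:ℤ), (0:ℤ)], ![(0:ℤ), (0:ℤ), (0:ℤ), (0:ℤ), (1:ℤ), (1:ℤ), (0:ℤ)], ![(0:ℤ), (1:ℤ), (1:ℤ), (2:ℤ), (1:ℤ), (1:ℤ), (0:ℤ)], ![(0:ℤ), (-1:ℤ), (0:ℤ), (-1:ℤ), (-1:ℤ), (-1:ℤ), (0:ℤ)], ![(0:ℤ), (1:ℤ), (0:ℤ), (0:ℤ), (0:ℤ), (0:ℤ), (0:ℤ)], ![(0:ℤ), (0:ℤ), (0:ℤ), (1:ℤ), (1:ℤ), (1:ℤ), (1:ℤ)], ![(0:ℤ), (0:ℤ), (0:ℤ), (0:ℤ), (0:ℤ), (-1:ℤ), (-1:ℤ)]]),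
    (1, ![![(1:ℤ), (0:ℤ), (0:ℤ), (0:ℤ), (0:ℤ), (0:ℤ), (0:ℤ)], ![(0:ℤ), (0:ℤ), (0:ℤ), (1:ℤ), (1:ℤ), (1:ℤ), (0:ℤ)], ![(0:ℤ), (1:ℤ), (1:ℤ), (1:ℤ), (1:ℤ), (1:ℤ), (0:ℤ)], ![(0:ℤ), (-1:ℤ), (0:ℤ), (-1:ℤ), (-1:ℤ), (-1:ℤ), (0:ℤ)], ![(0:ℤ), (1:ℤ), (0:ℤ), (1:ℤ), (0:ℤ), (0:ℤ), (0:ℤ)], ![(0:ℤ), (0:ℤ), (0:ℤ), (0:ℤ), (1:ℤ), (1:ℤ), (1:ℤ)], ![(0:ℤ), (0:ℤ), (0:ℤ), (0:ℤ), (0:ℤ), (-1:ℤ), (-1:ℤ)]]),
    (5, ![![(1:ℤ), (0:ℤ), (0:ℤ), (0:ℤ), (0:ℤ), (0:ℤ), (0:ℤ)], ![(0:ℤ), (1:ℤ), (0:ℤ), (1:ℤ), (1:ℤ), (1:ℤ), (0:ℤ)], ![(0:ℤ), (0:ℤ), (1:ℤ), (1:ℤ), (1:ℤ), (1:ℤ), (0:ℤ)], ![(0:ℤ), (0:ℤ), (0:ℤ), (-1:ℤ), (-1:ℤ), (-1:ℤ), (0:ℤ)], ![(0:ℤ), (0:ℤ), (0:ℤ), (1:ℤ), (0:ℤ), (0:ℤ), (0:ℤ)], ![(0:ℤ), (0:ℤ), (0:ℤ), (0:ℤ), (1:ℤ), (1:ℤ), (1:ℤ)], ![(0:ℤ), (0:ℤ), (0:ℤ), (0:ℤ), (0:ℤ), (-1:ℤ), (-1:ℤ)]]),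
    (4, ![![(1:ℤ), (0:ℤ), (0:ℤ), (0:ℤ), (0:ℤ), (0:ℤ), (0:ℤ)], ![(0:ℤ), (1:ℤ), (0:ℤ), (1:ℤ), (1:ℤ), (0:ℤ), (0:ℤ)], ![(0:ℤ), (0:ℤ), (1:ℤ), (1:ℤ), (1:ℤ), (0:ℤ), (0:ℤ)], ![(0:ℤ), (0:ℤ), (0:ℤ), (-1:ℤ), (-1:ℤ), (0:ℤ), (0:ℤ)], ![(0:ℤ), (0:ℤ), (0:ℤ), (1:ℤ), (0:ℤ), (0:ℤ), (0:ℤ)], ![(0:ℤ), (0:ℤ), (0:ℤ), (0:ℤ), (1:ℤ), (1:ℤ), (1:ℤ)], ![(0:ℤ), (0:ℤ), (0:ℤ), (0:ℤ), (0:ℤ), (0:ℤ), (-1:ℤ)]]),
    (3, ![![(1:ℤ), (0:ℤ), (0:ℤ), (0:ℤ), (0:ℤ), (0:ℤ), (0:ℤ)], ![(0:ℤ), (1:ℤ), (0:ℤ), (1:ℤ), (0:ℤ), (0:ℤ), (0:ℤ)], ![(0:ℤ), (0:ℤ), (1:ℤ), (1:ℤ), (0:ℤ), (0:ℤ), (0:ℤ)], ![(0:ℤ), (0:ℤ), (0:ℤ), (-1:ℤ), (0:ℤ), (0:ℤ), (0:ℤ)], ![(0:ℤ), (0:ℤ), (0:ℤ), (1:ℤ), (1:ℤ), (0:ℤ), (0:ℤ)], ![(0:ℤ), (0:ℤ), (0:ℤ), (0:ℤ), (0:ℤ), (1:ℤ), (1:ℤ)], ![(0:ℤ), (0:ℤ), (0:ℤ), (0:ℤ), (0:ℤ), (0:ℤ), (-1:ℤ)]]),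
    (6, ![![(1:ℤ), (0:ℤ), (0:ℤ), (0:ℤ), (0:ℤ), (0:ℤ), (0:ℤ)], ![(0:ℤ), (1:ℤ), (0:ℤ), (0:ℤ), (0:ℤ), (0:ℤ), (0:ℤ)], ![(0:ℤ), (0:ℤ), (1:ℤ), (0:ℤ), (0:ℤ), (0:ℤ), (0:ℤ)], ![(0:ℤ), (0:ℤ), (0:ℤ), (1:ℤ), (0:ℤ), (0:ℤ), (0:ℤ)], ![(0:ℤ), (0:ℤ), (0:ℤ), (0:ℤ), (1:ℤ), (0:ℤ), (0:ℤ)], ![(0:ℤ), (0:ℤ), (0:ℤ), (0:ℤ), (0:ℤ), (1:ℤ), (1:ℤ)], ![(0:ℤ), (0:ℤ), (0:ℤ), (0:ℤ), (0:ℤ), (0:ℤ), (-1:ℤ)]])]

/-- the last factor of `w3` -/
def v3 : List (Fin 7 × Mat 7) := (beta% delta% lq2647a118f1 fun a b c d e f =>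
 (e (d 5 (a (a (1 :type_of% (b _))<|a (0 :type_of% (b _))<|a (0 :type_of% (b _))<|a (0 :type_of% (b _))<|a (0 :type_of% (b _))<|a (0 :type_of% (b _))<|a (0 :type_of% (b _))<|c)<|a (a (0 :type_of% (b _))<|a (1 :type_of% (b _))<|a (0 :type_of% (b _))<|a (0 :type_of% (b _))<|a (0 :type_of% (b _))<|a (0 :type_of% (b _))<|a (0 :type_of% (b _))<|c)<|a (a (0 :type_of% (b _))<|a (0 :type_of% (b _))<|a (1 :type_of% (b _))<|a (0 :type_of% (b _))<|a (0 :type_of% (b _))<|a (0 :type_of% (b _))<|a (0 :type_of% (b _))<|c)<|a (a (0 :type_of% (b _))<|a (0 :type_of% (b _))<|a (0 :type_of% (b _))<|a (1 :type_of% (b _))<|a (0 :type_of% (b _))<|a (0 :type_of% (b _))<|a (0 :type_of% (b _))<|c)<|a (a (0 :type_of% (b _))<|a (0 :type_of% (b _))<|a (0 :type_of% (b _))<|a (0 :type_of% (b _))<|a (1 :type_of% (b _))<|a (1 :type_of% (b _))<|a (0 :type_of% (b _))<|c)<|a (a (0 :type_of% (b _))<|a (0 :type_of% (b _))<|a (0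 :type_of% (b _))<|a (0 :type_of% (b _))<|a (0 :type_of% (b _))<|a (0 :type_of% (b _))<|a (1 :type_of% (b _))<|c)<|a (a (0 :type_of% (b _))<|a (0 :type_of% (b _))<|a (0 :type_of% (b _))<|a (0 :type_of% (b _))<|a (0 :type_of% (b _))<|a (-1 :type_of% (b _))<|a (-1 :type_of% (b _))<|c)<|c))<|
 e (d 6 (a (a (1 :type_of% (b _))<|a (0 :type_of% (b _))<|a (0 :type_of% (b _))<|a (0 :type_of% (b _))<|a (0 :type_of% (b _))<|a (0 :type_of% (b _))<|a (0 :type_of% (b _))<|c)<|a (a (0 :type_of% (b _))<|a (1 :type_of% (b _))<|a (0 :type_of% (b _))<|a (0 :type_of% (b _))<|a (0 :type_of% (b _))<|a (0 :type_of% (b _))<|a (0 :type_of% (b _))<|c)<|a (a (0 :type_of% (b _))<|a (0 :type_of% (b _))<|a (1 :type_of% (b _))<|a (0 :type_of% (b _))<|a (0 :type_of% (b _))<|a (0 :type_of% (b _))<|a (0 :type_of% (b _))<|c)<|a (a (0 :type_of% (b _))<|a (0 :type_of% (b _))<|a (0 :type_of% (b _))<|a (1 :type_of% (b _))<|a (0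 :type_of% (b _))<|a (0 :type_of% (b _))<|a (0 :type_of% (b _))<|c)<|a (a (0 :type_of% (b _))<|a (0 :type_of% (b _))<|a (0 :type_of% (b _))<|a (0 :type_of% (b _))<|a (1 :type_of% (b _))<|a (0 :type_of% (b _))<|a (0 :type_of% (b _))<|c)<|a (a (0 :type_of% (b _))<|a (0 :type_of% (b _))<|a (0 :type_of% (b _))<|a (0 :type_of% (b _))<|a (0 :type_of% (b _))<|a (1 :type_of% (b _))<|a (1 :type_of% (b _))<|c)<|a (a (0 :type_of% (b _))<|a (0 :type_of% (b _))<|a (0 :type_of% (b _))<|a (0 :type_of% (b _))<|a (0 :type_of% (b _))<|a (0 :type_of% (b _))<|a (-1 :type_of% (b _))<|c)<|c))<|f))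

/-- the last factor of `w4` -/
def v4 : List (Fin 7 × Mat 7) := (beta% delta% lq2647a118f1 fun a b c d e f =>
 (e (d 4 (a (a (1 :type_of% (b _))<|a (0 :type_of% (b _))<|a (0 :type_of% (b _))<|a (0 :type_of% (b _))<|a (0 :type_of% (b _))<|a (0 :type_of% (b _))<|a (0 :type_of% (b _))<|c)<|a (a (0 :type_of% (b _))<|a (1 :type_of% (b _))<|a (0 :type_of% (b _))<|a (0 :type_of% (b _))<|a (0 :type_of% (b _))<|a (0 :type_of% (b _))<|a (0 :type_of% (b _))<|c)<|a (a (0 :type_of% (b _))<|a (0 :type_of% (b _))<|a (1 :type_of% (b _))<|a (0 :type_of% (b _))<|a (0 :type_of% (b _))<|a (0 :type_of% (b _))<|a (0 :type_of% (b _))<|c)<|a (a (0 :type_of% (b _))<|a (0 :type_of% (b _))<|a (0 :type_of% (b _))<|a (1 :type_of% (b _))<|a (1 :type_of% (b _))<|a (0 :type_of% (b _))<|a (0 :type_of% (b _))<|c)<|a (a (0 :type_of% (b _))<|a (0 :type_of% (b _))<|a (0 :type_of% (b _))<|a (0 :type_of% (b _))<|a (0 :type_of%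 (b _))<|a (1 :type_of% (b _))<|a (0 :type_of% (b _))<|c)<|a (a (0 :type_of% (b _))<|a (0 :type_of% (b _))<|a (0 :type_of% (b _))<|a (0 :type_of% (b _))<|a (0 :type_of% (b _))<|a (0 :type_of% (b _))<|a (1 :type_of% (b _))<|c)<|a (a (0 :type_of% (b _))<|a (0 :type_of% (b _))<|a (0 :type_of% (b _))<|a (0 :type_of% (b _))<|a (-1 :type_of% (b _))<|a (-1 :type_of% (b _))<|a (-1 :type_of% (b _))<|c)<|c))<|
 e (d 5 (a (a (1 :type_of% (b _))<|a (0 :type_of% (b _))<|a (0 :type_of% (b _))<|a (0 :type_of% (b _))<|a (0 :type_of% (b _))<|a (0 :type_of% (b _))<|a (0 :type_of% (b _))<|c)<|a (a (0 :type_of% (b _))<|a (1 :type_of% (b _))<|a (0 :type_of% (b _))<|a (0 :type_of% (b _))<|a (0 :type_of% (b _))<|a (0 :type_of% (b _))<|a (0 :type_of% (b _))<|c)<|a (a (0 :type_of% (b _))<|a (0 :type_of% (b _))<|a (1 :type_of% (b _))<|a (0 :type_of% (b _))<|a (0 :type_of% (b _))<|a (0 :type_of% (b _))<|a (0 :type_of%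 (b _))<|c)<|a (a (0 :type_of% (b _))<|a (0 :type_of% (b _))<|a (0 :type_of% (b _))<|a (1 :type_of% (b _))<|a (0 :type_of% (b _))<|a (0 :type_of% (b _))<|a (0 :type_of% (b _))<|c)<|a (a (0 :type_of% (b _))<|a (0 :type_of% (b _))<|a (0 :type_of% (b _))<|a (0 :type_of% (b _))<|a (1 :type_of% (b _))<|a (1 :type_of% (b _))<|a (0 :type_of% (b _))<|c)<|a (a (0 :type_of% (b _))<|a (0 :type_of% (b _))<|a (0 :type_of% (b _))<|a (0 :type_of% (b _))<|a (0 :type_of% (b _))<|a (0 :type_of% (b _))<|a (1 :type_of% (b _))<|c)<|a (a (0 :type_of% (b _))<|a (0 :type_of% (b _))<|a (0 :type_of% (b _))<|a (0 :type_of% (b _))<|a (0 :type_of% (b _))<|a (-1 :type_of% (b _))<|a (-1 :type_of% (b _))<|c)<|c))<|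
 e (d 6 (a (a (1 :type_of% (b _))<|a (0 :type_of% (b _))<|a (0 :type_of% (b _))<|a (0 :type_of% (b _))<|a (0 :type_of% (b _))<|a (0 :type_of% (b _))<|a (0 :type_of% (b _))<|c)<|a (a (0 :type_of% (b _))<|a (1 :type_of% (b _))<|a (0 :type_of% (b _))<|a (0 :type_of% (b _))<|a (0 :type_of% (b _))<|a (0 :type_of% (b _))<|a (0 :type_of% (b _))<|c)<|a (a (0 :type_of% (b _))<|a (0 :type_of% (b _))<|a (1 :type_of% (b _))<|a (0 :type_of% (b _))<|a (0 :type_of% (b _))<|a (0 :type_of% (b _))<|a (0 :type_of% (b _))<|c)<|a (a (0 :type_of% (b _))<|a (0 :type_of% (b _))<|a (0 :type_of% (b _))<|a (1 :type_of% (b _))<|a (0 :type_of% (b _))<|a (0 :type_of% (b _))<|a (0 :type_of% (b _))<|c)<|a (a (0 :type_of% (b _))<|a (0 :type_of% (b _))<|a (0 :type_of% (b _))<|a (0 :type_of% (b _))<|a (1 :type_of% (b _))<|a (0 :type_of% (b _))<|a (0 :type_of% (b _))<|c)<|a (a (0 :type_of% (b _))<|a (0 :type_of% (b _))<|a (0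 :type_of% (b _))<|a (0 :type_of% (b _))<|a (0 :type_of% (b _))<|a (1 :type_of% (b _))<|a (1 :type_of% (b _))<|c)<|a (a (0 :type_of% (b _))<|a (0 :type_of% (b _))<|a (0 :type_of% (b _))<|a (0 :type_of% (b _))<|a (0 :type_of% (b _))<|a (0 :type_of% (b _))<|a (-1 :type_of% (b _))<|c)<|c))<|f))

/-- eigenvectors -/
def a3 : (Fin 7 → ℤ) × (Fin 7 → ℤ) := (beta% delta% lq2647a118f1 fun a b c d _ _ =>
 (d (a (3 :type_of% (b _))<|a (0 :type_of% (b _))<|a (-1 :type_of% (b _))<|a (0 :type_of% (b _))<|a (0 :type_of% (b _))<|a (0 :type_of% (b _))<|a (0 :type_of% (b _))<|c) (a (0 :type_of% (b _))<|a (0 :type_of% (b _))<|a (1 :type_of% (b _))<|a (0 :type_of% (b _))<|a (0 :type_of% (b _))<|a (0 :type_of% (b _))<|a (0 :type_of% (b _))<|c)))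
def b3 : (Fin 7 → ℤ) × (Fin 7 → ℤ) := (beta% delta% lq2647a118f1 fun a b c d _ _ =>
 (d (a (3 :type_of% (b _))<|a (3 :type_of% (b _))<|a (-2 :type_of% (b _))<|a (0 :type_of% (b _))<|a (-1 :type_of% (b _))<|a (0 :type_of% (b _))<|a (0 :type_of% (b _))<|c) (a (0 :type_of% (b _))<|a (0 :type_of% (b _))<|a (-1 :type_of% (b _))<|a (3 :type_of% (b _))<|a (-2 :type_of% (b _))<|a (0 :type_of% (b _))<|a (0 :type_of% (b _))<|c)))
def y3 : (Fin 7 → ℤ) × (Fin 7 → ℤ) := (beta% delta% lq2647a118f1 fun a b c d _ _ =>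
 (d (a (0 :type_of% (b _))<|a (0 :type_of% (b _))<|a (0 :type_of% (b _))<|a (0 :type_of% (b _))<|a (-2 :type_of% (b _))<|a (3 :type_of% (b _))<|a (0 :type_of% (b _))<|c) (a (0 :type_of% (b _))<|a (0 :type_of% (b _))<|a (0 :type_of% (b _))<|a (0 :type_of% (b _))<|a (-1 :type_of% (b _))<|a (0 :type_of% (b _))<|a (3 :type_of% (b _))<|c)))
def a6 : (Fin 7 → ℤ) × (Fin 7 → ℤ) := (beta% delta% lq2647a118f1 fun a b c d _ _ =>
 (d (a (3 :type_of% (b _))<|a (0 :type_of% (b _))<|a (-1 :type_of% (b _))<|a (0 :type_of% (b _))<|a (0 :type_of% (b _))<|a (0 :type_of% (b _))<|a (0 :type_of% (b _))<|c) (a (0 :type_of% (b _))<|a (0 :type_of% (b _))<|a (-1 :type_of% (b _))<|a (0 :type_of% (b _))<|a (0 :type_of% (b _))<|a (0 :type_of% (b _))<|a (0 :type_of% (b _))<|c)))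
def b6 : (Fin 7 → ℤ) × (Fin 7 → ℤ) := (beta% delta% lq2647a118f1 fun a b c d _ _ =>
 (d (a (3 :type_of% (b _))<|a (3 :type_of% (b _))<|a (-2 :type_of% (b _))<|a (0 :type_of% (b _))<|a (-1 :type_of% (b _))<|a (0 :type_of% (b _))<|a (0 :type_of% (b _))<|c) (a (0 :type_of% (b _))<|a (0 :type_of% (b _))<|a (1 :type_of% (b _))<|a (-3 :type_of% (b _))<|a (2 :type_of% (b _))<|a (0 :type_of% (b _))<|a (0 :type_of% (b _))<|c)))
def y6 : (Fin 7 → ℤ) × (Fin 7 → ℤ) := (beta% delta% lq2647a118f1 fun a b c d _ _ =>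
 (d (a (0 :type_of% (b _))<|a (0 :type_of% (b _))<|a (0 :type_of% (b _))<|a (0 :type_of% (b _))<|a (-2 :type_of% (b _))<|a (3 :type_of% (b _))<|a (0 :type_of% (b _))<|c) (a (0 :type_of% (b _))<|a (0 :type_of% (b _))<|a (0 :type_of% (b _))<|a (0 :type_of% (b _))<|a (1 :type_of% (b _))<|a (0 :type_of% (b _))<|a (-3 :type_of% (b _))<|c)))
def a4 : (Fin 7 → ℤ) × (Fin 7 → ℤ) := (beta% delta% lq2647a118f1 fun a b c d _ _ =>
 (d (a (2 :type_of% (b _))<|a (0 :type_of% (b _))<|a (0 :type_of% (b _))<|a (-1 :type_of% (b _))<|a (0 :type_of% (b _))<|a (0 :type_of% (b _))<|a (0 :type_of% (b _))<|c) (a (0 :type_of% (b _))<|a (0 :type_of% (b _))<|a (2 :type_of% (b _))<|a (-1 :type_of% (b _))<|a (0 :type_of% (b _))<|a (0 :type_of% (b _))<|a (0 :type_of% (b _))<|c)))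
def y4 : (Fin 7 → ℤ) × (Fin 7 → ℤ) := (beta% delta% lq2647a118f1 fun a b c d _ _ =>
 (d (a (0 :type_of% (b _))<|a (0 :type_of% (b _))<|a (0 :type_of% (b _))<|a (-1 :type_of% (b _))<|a (0 :type_of% (b _))<|a (2 :type_of% (b _))<|a (0 :type_of% (b _))<|c) (a (0 :type_of% (b _))<|a (0 :type_of% (b _))<|a (0 :type_of% (b _))<|a (1 :type_of% (b _))<|a (-2 :type_of% (b _))<|a (0 :type_of% (b _))<|a (2 :type_of% (b _))<|c)))

private noncomputable def _root_.Cfsg.Agent.LsF.fab47d6_0 : {f // @Cfsg.Agent.H567.KB.E7.Am = f} := ⟨_, by first | (delta Cfsg.Agent.H567.KB.E7.Am; rewrite [Cfsg.Agent.LsF.ineg_pat, Cfsg.Agent.LsF.vecCons_eq]; exact rfl) | exact rfl⟩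
private noncomputable def _root_.Cfsg.Agent.LsF.fab47d6_1 : {f // @Cfsg.Lie.ChevalleyDatum.cartan = f} := ⟨_, by first | (delta Cfsg.Lie.ChevalleyDatum.cartan; rewrite [Cfsg.Agent.LsF.agetD_eq]; exact rfl) | exact rfl⟩
private noncomputable def _root_.Cfsg.Agent.LsF.fab47d6_2 : {f // @Cfsg.Lie.ChevalleyDatum.simple = f} := ⟨_, by first | (delta Cfsg.Lie.ChevalleyDatum.simple; rewrite [Cfsg.Agent.LsF.agetD_eq]; exact rfl) | exact rfl⟩
private noncomputable def _root_.Cfsg.Agent.LsF.fab47d6_3 : {f // @Cfsg.Agent.ChevalleyStructure.CoxeterGeomTypes.cartanOf = f} := ⟨_, by first | (delta Cfsg.Agent.ChevalleyStructure.CoxeterGeomTypes.cartanOf; rewrite [Cfsg.Agent.LsF.fab47d6_1.2, Cfsg.Agent.LsF.fab47d6_2.2]; exact rfl) | exact rfl⟩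
theorem hA : ∀ i j, Am i j = cartanOf chevE7 7 i j := by (refine of_decide_eq_true ?_; (try (rewrite [Cfsg.Agent.LsF.fab47d6_0.2, Cfsg.Agent.LsF.fab47d6_3.2, Cfsg.Agent.LsF.instIDecEq_eq, Cfsg.Agent.LsF.dForallFin_eq, Cfsg.Agent.LsF.decide_eq])); decide +kernel)
theorem w3_ok : ChainOK Am w3 :=
  H129.ChainF.ok H129.ChainF.i7 H129.ChainF.m7 (H129.ChainF.c7 <| H129.ChainF.c7 <| H129.ChainF.c7 <| H129.ChainF.c7 <| H129.ChainF.c7 <| H129.ChainF.c7 <| H129.ChainF.c7 <| H129.ChainF.c7 <| H129.ChainF.c7 <| H129.ChainF.c7 <| H129.ChainF.c7 <| H129.ChainF.c7 <| H129.ChainF.c7 <| H129.ChainF.c7 <| H129.ChainF.c7 <| H129.ChainF.c7 <| H129.ChainF.c7 <| H129.ChainF.c7 <| H129.ChainF.c7 <| H129.ChainF.c7 <| H129.ChainF.c7 <| H129.ChainF.c7 <| H129.ChainF.c7 <| H129.ChainF.c7 <| H129.ChainF.c7 <| H129.ChainF.c7 <| H129.ChainF.c7 <| H129.ChainF.c7 <| H129.ChainF.c7 <| H129.ChainF.c7 <| H129.ChainF.c7 <| H129.ChainF.c7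 <| H129.ChainF.c7 <| H129.ChainF.c7 <| H129.ChainF.c7 <| H129.ChainF.c7 <| H129.ChainF.nil) (by decide +kernel)
theorem w6_ok : ChainOK Am w6 :=
  H129.ChainF.ok H129.ChainF.i7 H129.ChainF.m7 (H129.ChainF.c7 <| H129.ChainF.c7 <| H129.ChainF.c7 <| H129.ChainF.c7 <| H129.ChainF.c7 <| H129.ChainF.c7 <| H129.ChainF.c7 <| H129.ChainF.c7 <| H129.ChainF.c7 <| H129.ChainF.c7 <| H129.ChainF.c7 <| H129.ChainF.c7 <| H129.ChainF.c7 <| H129.ChainF.c7 <| H129.ChainF.c7 <| H129.ChainF.c7 <| H129.ChainF.c7 <| H129.ChainF.c7 <| H129.ChainF.c7 <| H129.ChainF.c7 <| H129.ChainF.c7 <| H129.ChainF.c7 <| H129.ChainF.c7 <| H129.ChainF.c7 <| H129.ChainF.c7 <| H129.ChainF.c7 <| H129.ChainF.c7 <| H129.ChainF.nil) (by decide +kernel)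
theorem w4_ok : ChainOK Am w4 :=
  H129.ChainF.ok H129.ChainF.i7 H129.ChainF.m7 (H129.ChainF.c7 <| H129.ChainF.c7 <| H129.ChainF.c7 <| H129.ChainF.c7 <| H129.ChainF.c7 <| H129.ChainF.c7 <| H129.ChainF.c7 <| H129.ChainF.c7 <| H129.ChainF.c7 <| H129.ChainF.c7 <| H129.ChainF.c7 <| H129.ChainF.c7 <| H129.ChainF.c7 <| H129.ChainF.c7 <| H129.ChainF.c7 <| H129.ChainF.c7 <| H129.ChainF.c7 <| H129.ChainF.c7 <| H129.ChainF.c7 <| H129.ChainF.c7 <| H129.ChainF.c7 <| H129.ChainF.c7 <| H129.ChainF.c7 <| H129.ChainF.c7 <| H129.ChainF.c7 <| H129.ChainF.c7 <| H129.ChainF.c7 <| H129.ChainF.c7 <| H129.ChainF.c7 <| H129.ChainF.c7 <| H129.ChainF.c7 <| H129.ChainF.c7 <| H129.ChainF.c7 <| H129.ChainF.c7 <| H129.ChainF.nil) (by decide +kernel)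
theorem v3_ok : ChainOK Am v3 :=
  H129.ChainF.ok H129.ChainF.i7 H129.ChainF.m7 (H129.ChainF.c7 <| H129.ChainF.c7 <| H129.ChainF.nil) (by decide +kernel)
theorem v4_ok : ChainOK Am v4 :=
  H129.ChainF.ok H129.ChainF.i7 H129.ChainF.m7 (H129.ChainF.c7 <| H129.ChainF.c7 <| H129.ChainF.c7 <| H129.ChainF.nil) (by decide +kernel)
private noncomputable def _root_.Cfsg.Agent.LsF.fab47d6_4 : {f // @Cfsg.Agent.H129.WData.hd = f} := ⟨_, by first | (delta Cfsg.Agent.H129.WData.hd; rewrite [Cfsg.Agent.LsF.dFinEq_eq, Cfsg.Agent.LsF.ite_eq]; (try delta Cfsg.Agent.H129.WData.hd.match_1); (try delta List.casesOn Prod.casesOn); exact rfl) | exact rfl⟩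
private noncomputable def _root_.Cfsg.Agent.LsF.fab47d6_5 : {f // @Cfsg.Agent.H567.KB.E7.v3 = f} := ⟨_, by first | (delta Cfsg.Agent.H567.KB.E7.v3; rewrite [Cfsg.Agent.LsF.ineg_pat, Cfsg.Agent.LsF.vecCons_eq]; exact rfl) | exact rfl⟩
private noncomputable def _root_.Cfsg.Agent.LsF.fab47d6_6 : {f // @Cfsg.Agent.H567.KB.E7.w3 = f} := ⟨_, by first | (delta Cfsg.Agent.H567.KB.E7.w3; rewrite [Cfsg.Agent.LsF.ineg_pat, Cfsg.Agent.LsF.vecCons_eq]; exact rfl) | exact rfl⟩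
theorem comm3 : H210.EL.CommOK (hd v3) (hd w3) := by (refine of_decide_eq_true ?_; (try (delta Cfsg.Agent.H210.EL.CommOK Cfsg.Agent.H210.EL.instDecCommOK; rewrite [Cfsg.Agent.LsF.sumF_pat, Cfsg.Agent.LsF.fab47d6_4.2, Cfsg.Agent.LsF.fab47d6_5.2, Cfsg.Agent.LsF.fab47d6_6.2, Cfsg.Agent.LsF.iadd_pat, Cfsg.Agent.LsF.imul_pat, Cfsg.Agent.LsF.iACM_eq, Cfsg.Agent.LsF.instIDecEq_eq, Cfsg.Agent.LsF.dForallFin_eq, Cfsg.Agent.LsF.decide_eq])); decide +kernel)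
theorem comm6 : H210.EL.CommOK (hd v3) (hd w6) := by decide +kernel
theorem comm4 : H210.EL.CommOK (hd v4) (hd w4) := by decide +kernel

theorem a3_w : ActP (hd w3) (-1) (-1) (0, 1) a3 := by decide +kernel
theorem b3_w : ActP (hd w3) (-1) (-1) (0, 1) b3 := by decide +kernel
theorem y3_w : ActP (hd w3) (-1) (-1) (0, 1) y3 := by decide +kernel
theorem a3_v : ActP (hd v3) (-1) (-1) (1, 0) a3 := by decide +kernel
theorem b3_v : ActP (hd v3) (-1) (-1) (1, 0) b3 := by decide +kernel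
theorem y3_v : ActP (hd v3) (-1) (-1) (0, 1) y3 := by decide +kernel
theorem a6_w : ActP (hd w6) (1) (-1) (0, 1) a6 := by decide +kernel
theorem b6_w : ActP (hd w6) (1) (-1) (0, 1) b6 := by decide +kernel
theorem y6_w : ActP (hd w6) (1) (-1) (0, 1) y6 := by decide +kernel
theorem a6_v : ActP (hd v3) (1) (-1) (1, 0) a6 := by decide +kernel
theorem b6_v : ActP (hd v3) (1) (-1) (1, 0) b6 := by decide +kernel
theorem y6_v : ActP (hd v3) (1) (-1) (0, -1) y6 := by decide +kernel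
theorem a4_w : ActP (hd w4) (0) (-1) (0, 1) a4 := by decide +kernel
theorem y4_w : ActP (hd w4) (0) (-1) (0, 1) y4 := by decide +kernel
theorem a4_v : ActP (hd v4) (0) (-1) (1, 0) a4 := by decide +kernel
theorem y4_v : ActP (hd v4) (0) (-1) (0, 1) y4 := by decide +kernel

private noncomputable def _root_.Cfsg.Agent.LsF.fab47d6_7 : {f // @Cfsg.Agent.H567.KB.pml = f} := ⟨_, by first | (delta Cfsg.Agent.H567.KB.pml; rewrite [Cfsg.Agent.LsF.iadd_pat, Cfsg.Agent.LsF.imul_pat]; exact rfl) | exact rfl⟩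
private noncomputable def _root_.Cfsg.Agent.LsF.fab47d6_8 : {f // @Cfsg.Agent.H567.KB.pw = f} := ⟨_, by first | (delta Cfsg.Agent.H567.KB.pw Nat.brecOn.go Nat.brecOn Cfsg.Agent.H567.KB.pw._f; rewrite [Cfsg.Agent.LsF.fab47d6_7.2]; (try delta Cfsg.Agent.H567.KB.pw.match_1); (try delta Nat.casesOn); first | dsimp -zeta only | exact rfl) | exact rfl⟩
private noncomputable def _root_.Cfsg.Agent.LsF.fab47d6_9 : {f // @Cfsg.Agent.H567.KB.dt = f} := ⟨_, by first | (delta Cfsg.Agent.H567.KB.dt; rewrite [Cfsg.Agent.LsF.imul_pat, Cfsg.Agent.LsF.finFintype_eq, Cfsg.Agent.LsF.fsum_eq, Cfsg.Agent.LsF.iACM_eq]; exact rfl) | exact rfl⟩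
private noncomputable def _root_.Cfsg.Agent.LsF.fab47d6_10 : {f // @Cfsg.Agent.H567.KB.E7.a3 = f} := ⟨_, by first | (delta Cfsg.Agent.H567.KB.E7.a3; rewrite [Cfsg.Agent.LsF.ineg_pat, Cfsg.Agent.LsF.vecCons_eq]; exact rfl) | exact rfl⟩
private noncomputable def _root_.Cfsg.Agent.LsF.fab47d6_11 : {f // @Cfsg.Agent.ChevalleyStructure.RootVecTab.dig = f} := ⟨_, by first | (delta Cfsg.Agent.ChevalleyStructure.RootVecTab.dig; rewrite [Cfsg.Agent.LsF.nmul_pat]; exact rfl) | exact rfl⟩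
private noncomputable def _root_.Cfsg.Agent.LsF.fab47d6_12 : {f // @Cfsg.Agent.ChevalleyStructure.RootVecTab.packTab = f} := ⟨_, by first | (delta Cfsg.Agent.ChevalleyStructure.RootVecTab.packTab; rewrite [Cfsg.Agent.LsF.instDecEq_eq, Cfsg.Agent.LsF.ite_eq]; exact rfl) | exact rfl⟩
private noncomputable def _root_.Cfsg.Agent.LsF.fab47d6_13 : {f // @Cfsg.Agent.ChevalleyStructure.RootVecTab.code = f} := ⟨_, by first | (delta Cfsg.Agent.ChevalleyStructure.RootVecTab.code; rewrite [Cfsg.Agent.LsF.fab47d6_12.2, Cfsg.Agent.LsF.nmul_pat, Cfsg.Agent.LsF.npow_pat]; exact rfl) | exact rfl⟩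
private noncomputable def _root_.Cfsg.Agent.LsF.fab47d6_14 : {f // @Cfsg.Agent.ChevalleyStructure.RootVec.rt = f} := ⟨_, by first | (delta Cfsg.Agent.ChevalleyStructure.RootVec.rt; rewrite [Cfsg.Agent.LsF.fab47d6_11.2, Cfsg.Agent.LsF.fab47d6_13.2, Cfsg.Agent.LsF.nsub_pat, Cfsg.Agent.LsF.isub_pat, Cfsg.Agent.LsF.icast_pat, Cfsg.Agent.LsF.decLt_eq, Cfsg.Agent.LsF.dAnd_eq, Cfsg.Agent.LsF.ite_eq]; exact rfl) | exact rfl⟩
private noncomputable def _root_.Cfsg.Agent.LsF.fab47d6_15 : {f // @Cfsg.Agent.Nodes.RGDChev.vec = f} := ⟨_, by first | (delta Cfsg.Agent.Nodes.RGDChev.vec; rewrite [Cfsg.Agent.LsF.fab47d6_14.2]; exact rfl) | exact rfl⟩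
theorem a3_p6 : ∑ r ∈ Finset.range chevE7.nroots, pw (-1) (-1) (dt a3 (vec chevE7 7 r)) 6 = (1944, 0) := by
  (refine of_decide_eq_true ?_; (try (rewrite [Cfsg.Agent.LsF.fab47d6_8.2, Cfsg.Agent.LsF.fab47d6_9.2, Cfsg.Agent.LsF.fab47d6_10.2, Cfsg.Agent.LsF.fab47d6_15.2, Cfsg.Agent.LsF.ineg_pat, Cfsg.Agent.LsF.dProdEq_eq, Cfsg.Agent.LsF.fsum_eq, Cfsg.Agent.LsF.frange_eq, Cfsg.Agent.LsF.iACM_eq, Cfsg.Agent.LsF.instIDecEq_eq, Cfsg.Agent.LsF.decide_eq])); decide +kernel)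
private noncomputable def _root_.Cfsg.Agent.LsF.fab47d6_16 : {f // @Cfsg.Agent.H567.KB.E7.b3 = f} := ⟨_, by first | (delta Cfsg.Agent.H567.KB.E7.b3; rewrite [Cfsg.Agent.LsF.ineg_pat, Cfsg.Agent.LsF.vecCons_eq]; exact rfl) | exact rfl⟩
theorem b3_p6 : ∑ r ∈ Finset.range chevE7.nroots, pw (-1) (-1) (dt b3 (vec chevE7 7 r)) 6 = (23328, 0) := by
  (refine of_decide_eq_true ?_; (try (rewrite [Cfsg.Agent.LsF.fab47d6_8.2, Cfsg.Agent.LsF.fab47d6_9.2, Cfsg.Agent.LsF.fab47d6_16.2, Cfsg.Agent.LsF.fab47d6_15.2, Cfsg.Agent.LsF.ineg_pat, Cfsg.Agent.LsF.dProdEq_eq, Cfsg.Agent.LsF.fsum_eq, Cfsg.Agent.LsF.frange_eq, Cfsg.Agent.LsF.iACM_eq, Cfsg.Agent.LsF.instIDecEq_eq, Cfsg.Agent.LsF.decide_eq])); decide +kernel)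
private noncomputable def _root_.Cfsg.Agent.LsF.fab47d6_17 : {f // @Cfsg.Agent.H567.KB.E7.a6 = f} := ⟨_, by first | (delta Cfsg.Agent.H567.KB.E7.a6; rewrite [Cfsg.Agent.LsF.ineg_pat, Cfsg.Agent.LsF.vecCons_eq]; exact rfl) | exact rfl⟩
theorem a6_p6 : ∑ r ∈ Finset.range chevE7.nroots, pw (1) (-1) (dt a6 (vec chevE7 7 r)) 6 = (1944, 0) := by
  (refine of_decide_eq_true ?_; (try (rewrite [Cfsg.Agent.LsF.fab47d6_8.2, Cfsg.Agent.LsF.fab47d6_9.2, Cfsg.Agent.LsF.fab47d6_17.2, Cfsg.Agent.LsF.fab47d6_15.2, Cfsg.Agent.LsF.ineg_pat, Cfsg.Agent.LsF.dProdEq_eq, Cfsg.Agent.LsF.fsum_eq, Cfsg.Agent.LsF.frange_eq, Cfsg.Agent.LsF.iACM_eq, Cfsg.Agent.LsF.instIDecEq_eq, Cfsg.Agent.LsF.decide_eq])); decide +kernel)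
private noncomputable def _root_.Cfsg.Agent.LsF.fab47d6_18 : {f // @Cfsg.Agent.H567.KB.E7.b6 = f} := ⟨_, by first | (delta Cfsg.Agent.H567.KB.E7.b6; rewrite [Cfsg.Agent.LsF.ineg_pat, Cfsg.Agent.LsF.vecCons_eq]; exact rfl) | exact rfl⟩
theorem b6_p6 : ∑ r ∈ Finset.range chevE7.nroots, pw (1) (-1) (dt b6 (vec chevE7 7 r)) 6 = (23328, 0) := by
  (refine of_decide_eq_true ?_; (try (rewrite [Cfsg.Agent.LsF.fab47d6_8.2, Cfsg.Agent.LsF.fab47d6_9.2, Cfsg.Agent.LsF.fab47d6_18.2, Cfsg.Agent.LsF.fab47d6_15.2, Cfsg.Agent.LsF.ineg_pat, Cfsg.Agent.LsF.dProdEq_eq, Cfsg.Agent.LsF.fsum_eq, Cfsg.Agent.LsF.frange_eq, Cfsg.Agent.LsF.iACM_eq, Cfsg.Agent.LsF.instIDecEq_eq, Cfsg.Agent.LsF.decide_eq])); decide +kernel)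
private noncomputable def _root_.Cfsg.Agent.LsF.fab47d6_19 : {f // @Cfsg.Agent.H567.KB.E7.a4 = f} := ⟨_, by first | (delta Cfsg.Agent.H567.KB.E7.a4; rewrite [Cfsg.Agent.LsF.ineg_pat, Cfsg.Agent.LsF.vecCons_eq]; exact rfl) | exact rfl⟩
theorem a4_p8 : ∑ r ∈ Finset.range chevE7.nroots, pw (0) (-1) (dt a4 (vec chevE7 7 r)) 8 = (25600, 0) := by
  (refine of_decide_eq_true ?_; (try (rewrite [Cfsg.Agent.LsF.fab47d6_8.2, Cfsg.Agent.LsF.fab47d6_9.2, Cfsg.Agent.LsF.fab47d6_19.2, Cfsg.Agent.LsF.fab47d6_15.2, Cfsg.Agent.LsF.ineg_pat, Cfsg.Agent.LsF.dProdEq_eq, Cfsg.Agent.LsF.fsum_eq, Cfsg.Agent.LsF.frange_eq, Cfsg.Agent.LsF.iACM_eq, Cfsg.Agent.LsF.instIDecEq_eq, Cfsg.Agent.LsF.decide_eq])); decide +kernel)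
theorem a4_p12 : ∑ r ∈ Finset.range chevE7.nroots, pw (0) (-1) (dt a4 (vec chevE7 7 r)) 12 = (-921600, 0) := by
  (refine of_decide_eq_true ?_; (try (rewrite [Cfsg.Agent.LsF.fab47d6_8.2, Cfsg.Agent.LsF.fab47d6_9.2, Cfsg.Agent.LsF.fab47d6_19.2, Cfsg.Agent.LsF.fab47d6_15.2, Cfsg.Agent.LsF.ineg_pat, Cfsg.Agent.LsF.dProdEq_eq, Cfsg.Agent.LsF.fsum_eq, Cfsg.Agent.LsF.frange_eq, Cfsg.Agent.LsF.iACM_eq, Cfsg.Agent.LsF.instIDecEq_eq, Cfsg.Agent.LsF.decide_eq])); decide +kernel)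
private noncomputable def _root_.Cfsg.Agent.LsF.fab47d6_20 : {f // @Cfsg.Agent.H567.KB.nrm = f} := ⟨_, by first | (delta Cfsg.Agent.H567.KB.nrm; rewrite [Cfsg.Agent.LsF.iadd_pat, Cfsg.Agent.LsF.imul_pat, Cfsg.Agent.LsF.isub_pat]; exact rfl) | exact rfl⟩
theorem a3_n : ∀ r ∈ Finset.range chevE7.nroots, dt a3 (vec chevE7 7 r) = 0 ∨ nrm (-1) (-1) (dt a3 (vec chevE7 7 r)) ∣ (36 : ℕ) := by
  (refine of_decide_eq_true ?_; (try (rewrite [Cfsg.Agent.LsF.fab47d6_9.2, Cfsg.Agent.LsF.fab47d6_10.2, Cfsg.Agent.LsF.fab47d6_15.2, Cfsg.Agent.LsF.fab47d6_20.2, Cfsg.Agent.LsF.ineg_pat, Cfsg.Agent.LsF.icast_pat, Cfsg.Agent.LsF.dProdEq_eq, Cfsg.Agent.LsF.dDforall_eq, Cfsg.Agent.LsF.frange_eq, Cfsg.Agent.LsF.instIDecEq_eq, Cfsg.Agent.LsF.dOr_eq, Cfsg.Agent.LsF.idDvd_eq, Cfsg.Agent.LsF.decide_eq])); decide +kernel)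
theorem a3_z : (∑ r ∈ Finset.range chevE7.nroots, if dt a3 (vec chevE7 7 r) = 0 then 1 else 0) = 30 := by
  (refine of_decide_eq_true ?_; (try (rewrite [Cfsg.Agent.LsF.fab47d6_9.2, Cfsg.Agent.LsF.fab47d6_10.2, Cfsg.Agent.LsF.fab47d6_15.2, Cfsg.Agent.LsF.dProdEq_eq, Cfsg.Agent.LsF.fsum_eq, Cfsg.Agent.LsF.frange_eq, Cfsg.Agent.LsF.nACM_eq, Cfsg.Agent.LsF.instDecEq_eq, Cfsg.Agent.LsF.instIDecEq_eq, Cfsg.Agent.LsF.ite_eq, Cfsg.Agent.LsF.decide_eq])); decide +kernel)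
theorem b3_n : ∀ r ∈ Finset.range chevE7.nroots, dt b3 (vec chevE7 7 r) = 0 ∨ nrm (-1) (-1) (dt b3 (vec chevE7 7 r)) ∣ (36 : ℕ) := by
  (refine of_decide_eq_true ?_; (try (rewrite [Cfsg.Agent.LsF.fab47d6_9.2, Cfsg.Agent.LsF.fab47d6_16.2, Cfsg.Agent.LsF.fab47d6_15.2, Cfsg.Agent.LsF.fab47d6_20.2, Cfsg.Agent.LsF.ineg_pat, Cfsg.Agent.LsF.icast_pat, Cfsg.Agent.LsF.dProdEq_eq, Cfsg.Agent.LsF.dDforall_eq, Cfsg.Agent.LsF.frange_eq, Cfsg.Agent.LsF.instIDecEq_eq, Cfsg.Agent.LsF.dOr_eq, Cfsg.Agent.LsF.idDvd_eq, Cfsg.Agent.LsF.decide_eq])); decide +kernel)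
theorem b3_z : (∑ r ∈ Finset.range chevE7.nroots, if dt b3 (vec chevE7 7 r) = 0 then 1 else 0) = 24 := by
  (refine of_decide_eq_true ?_; (try (rewrite [Cfsg.Agent.LsF.fab47d6_9.2, Cfsg.Agent.LsF.fab47d6_16.2, Cfsg.Agent.LsF.fab47d6_15.2, Cfsg.Agent.LsF.dProdEq_eq, Cfsg.Agent.LsF.fsum_eq, Cfsg.Agent.LsF.frange_eq, Cfsg.Agent.LsF.nACM_eq, Cfsg.Agent.LsF.instDecEq_eq, Cfsg.Agent.LsF.instIDecEq_eq, Cfsg.Agent.LsF.ite_eq, Cfsg.Agent.LsF.decide_eq])); decide +kernel)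
theorem a6_n : ∀ r ∈ Finset.range chevE7.nroots, dt a6 (vec chevE7 7 r) = 0 ∨ nrm (1) (-1) (dt a6 (vec chevE7 7 r)) ∣ (36 : ℕ) := by
  (refine of_decide_eq_true ?_; (try (rewrite [Cfsg.Agent.LsF.fab47d6_9.2, Cfsg.Agent.LsF.fab47d6_17.2, Cfsg.Agent.LsF.fab47d6_15.2, Cfsg.Agent.LsF.fab47d6_20.2, Cfsg.Agent.LsF.ineg_pat, Cfsg.Agent.LsF.icast_pat, Cfsg.Agent.LsF.dProdEq_eq, Cfsg.Agent.LsF.dDforall_eq, Cfsg.Agent.LsF.frange_eq, Cfsg.Agent.LsF.instIDecEq_eq, Cfsg.Agent.LsF.dOr_eq, Cfsg.Agent.LsF.idDvd_eq, Cfsg.Agent.LsF.decide_eq])); decide +kernel)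
theorem a6_z : (∑ r ∈ Finset.range chevE7.nroots, if dt a6 (vec chevE7 7 r) = 0 then 1 else 0) = 30 := by
  (refine of_decide_eq_true ?_; (try (rewrite [Cfsg.Agent.LsF.fab47d6_9.2, Cfsg.Agent.LsF.fab47d6_17.2, Cfsg.Agent.LsF.fab47d6_15.2, Cfsg.Agent.LsF.dProdEq_eq, Cfsg.Agent.LsF.fsum_eq, Cfsg.Agent.LsF.frange_eq, Cfsg.Agent.LsF.nACM_eq, Cfsg.Agent.LsF.instDecEq_eq, Cfsg.Agent.LsF.instIDecEq_eq, Cfsg.Agent.LsF.ite_eq, Cfsg.Agent.LsF.decide_eq])); decide +kernel)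
theorem b6_n : ∀ r ∈ Finset.range chevE7.nroots, dt b6 (vec chevE7 7 r) = 0 ∨ nrm (1) (-1) (dt b6 (vec chevE7 7 r)) ∣ (36 : ℕ) := by
  (refine of_decide_eq_true ?_; (try (rewrite [Cfsg.Agent.LsF.fab47d6_9.2, Cfsg.Agent.LsF.fab47d6_18.2, Cfsg.Agent.LsF.fab47d6_15.2, Cfsg.Agent.LsF.fab47d6_20.2, Cfsg.Agent.LsF.ineg_pat, Cfsg.Agent.LsF.icast_pat, Cfsg.Agent.LsF.dProdEq_eq, Cfsg.Agent.LsF.dDforall_eq, Cfsg.Agent.LsF.frange_eq, Cfsg.Agent.LsF.instIDecEq_eq, Cfsg.Agent.LsF.dOr_eq, Cfsg.Agent.LsF.idDvd_eq, Cfsg.Agent.LsF.decide_eq])); decide +kernel)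
theorem b6_z : (∑ r ∈ Finset.range chevE7.nroots, if dt b6 (vec chevE7 7 r) = 0 then 1 else 0) = 24 := by
  (refine of_decide_eq_true ?_; (try (rewrite [Cfsg.Agent.LsF.fab47d6_9.2, Cfsg.Agent.LsF.fab47d6_18.2, Cfsg.Agent.LsF.fab47d6_15.2, Cfsg.Agent.LsF.dProdEq_eq, Cfsg.Agent.LsF.fsum_eq, Cfsg.Agent.LsF.frange_eq, Cfsg.Agent.LsF.nACM_eq, Cfsg.Agent.LsF.instDecEq_eq, Cfsg.Agent.LsF.instIDecEq_eq, Cfsg.Agent.LsF.ite_eq, Cfsg.Agent.LsF.decide_eq])); decide +kernel)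

end Cfsg.Agent.H567.KB.E7
end

-- part: H267/KE/DataE6
section
set_option linter.all false
open scoped Cfsg.Agent.FastGrp

-- part: H267/KE/Chk
section
/-!
# S4822, KE: finite checks for lines in the torus model (helper267)

Vectors with coordinates `u + v x` (`u`, `v` integers, `x ∈ ZMod p` with `x ^ 2 = s x + t`; in use `x = q` of order 3, 4, 6).

* `sum_inv` : sums over the roots are invariant under the Weyl group;
* `ev`, `qmul`, `qpow`, `nrm`, `cv`, `dotv` : quadratic integers, vectors, values at the roots;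
* `mem_Lam` : the eigenvector check;
* `pow_eq_one_of_fus` : `i c ~ c → i ^ k = 1` if the `k`-th power sum of the root values is not `0`;
* `zeros` : the number of roots with value `0`.
-/

set_option autoImplicit false
set_option linter.unusedSectionVars false

namespace Cfsg.Agent.H267.KE

open CoxeterSystem Cfsg Cfsg.Lie Cfsg.Lie.ChevalleyDatum
open Cfsg.Agent.ChevalleyStructure Cfsg.Agent.ChevalleyStructure.Elts Cfsg.Agent.ChevalleyStructure.CoxeterGeom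
  Cfsg.Agent.ChevalleyStructure.CoxeterGeomTypes Cfsg.Agent.ChevalleyStructure.NPerm
  Cfsg.Agent.ChevalleyStructure.RootVec
open Cfsg.Agent.Tits.Roots Cfsg.Agent.Tits.Core Cfsg.Agent.Nodes Cfsg.Agent.Nodes.Reps Cfsg.Agent.Nodes.BNOf
  Cfsg.Agent.Nodes.RGDChev Cfsg.Agent.Nodes.Bruhat Cfsg.Agent.Nodes.SubComb Cfsg.Agent.Nodes.Coroot
open Cfsg.Agent.H129.WData Cfsg.Agent.H210.EL Cfsg.Agent.H440.TD4

section inv

variable {D : ChevalleyDatum} {l : ℕ} {M : CoxeterMatrix (Fin l)} (hp : IsType D l M)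

/-- sums over the roots are invariant -/
theorem sum_inv {R : Type*} [AddCommMonoid R] (w : M.Group) (F : (Fin l → ℤ) → R) :
    ∑ r : Fin D.nroots, F (rep M.toCoxeterSystem hp.isCartan w (vec D l r)) = ∑ r : Fin D.nroots, F (vec D l r) := by
  classical
  have h1 : ∀ r : Fin D.nroots, ∃ s : Fin D.nroots,
      vec D l s = rep M.toCoxeterSystem hp.isCartan w (vec D l r) := by
    intro r
    obtain ⟨s, hs, e⟩ := (isRoot_iff hp M.toCoxeterSystem _).1 ((isRoot_vec hp M.toCoxeterSystem r.2).act w)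
    exact ⟨⟨s, hs⟩, e⟩
  choose φ hφ using h1
  have hinj : Function.Injective φ := by
    intro a b h
    have h2 : rep M.toCoxeterSystem hp.isCartan w (vec D l a) = rep M.toCoxeterSystem hp.isCartan w (vec D l b) := by
      rw [← hφ, ← hφ, h]
    exact Fin.ext (vec_inj hp a.2 b.2 (rep_injective_apply M.toCoxeterSystem hp.isCartan w h2))
  have hbij : Function.Bijective φ := Finite.injective_iff_bijective.1 hinj
  rw [← hbij.sum_comp (fun s => F (vec D l s))]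
  exact Finset.sum_congr rfl fun r _ => by rw [hφ]

/-- the number of roots with value `0` -/
def zeros (D : ChevalleyDatum) (l : ℕ) {p : ℕ} (c : Fin l → ZMod p) : ℕ :=
  ∑ r : Fin D.nroots, if lam c (vec D l r) = 0 then 1 else 0

/-- the power sums of the root values -/
def psum (D : ChevalleyDatum) (l : ℕ) {p : ℕ} (k : ℕ) (c : Fin l → ZMod p) : ZMod p :=
  ∑ r : Fin D.nroots, lam c (vec D l r) ^ k

/-- `c` and `c'` in the same orbit of the Weyl group -/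
def Fus {D : ChevalleyDatum} {l : ℕ} {M : CoxeterMatrix (Fin l)} (hp : IsType D l M) {p : ℕ}
    (c c' : Fin l → ZMod p) : Prop :=
  ∃ w : M.Group, ∀ x, lam c' (rep M.toCoxeterSystem hp.isCartan w x) = lam c x

variable {hp}

theorem Fus.zeros_eq {p : ℕ} {c c' : Fin l → ZMod p} (h : Fus hp c c') : zeros D l c = zeros D l c' := by
  obtain ⟨w, hw⟩ := h
  unfold zeros
  rw [← sum_inv hp w (fun y => if lam c' y = 0 then (1 : ℕ) else 0)]
  exact Finset.sum_congr rfl fun r _ => by rw [hw]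

theorem Fus.psum_eq {p : ℕ} {c c' : Fin l → ZMod p} (h : Fus hp c c') (k : ℕ) : psum D l k c = psum D l k c' := by
  obtain ⟨w, hw⟩ := h
  unfold psum
  rw [← sum_inv hp w (fun y => lam c' y ^ k)]
  exact Finset.sum_congr rfl fun r _ => by rw [hw]

theorem psum_smul {p : ℕ} (k : ℕ) (s : ZMod p) (c : Fin l → ZMod p) :
    psum D l k (s • c) = s ^ k * psum D l k c := by
  unfold psum
  rw [Finset.mul_sum]
  exact Finset.sum_congr rfl fun r _ => by rw [lam_smul', mul_pow]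

theorem zeros_smul {p : ℕ} [Fact p.Prime] {s : ZMod p} (hs : s ≠ 0) (c : Fin l → ZMod p) :
    zeros D l (s • c) = zeros D l c := by
  unfold zeros
  refine Finset.sum_congr rfl fun r _ => ?_
  rw [lam_smul']
  simp only [mul_eq_zero, hs, false_or]

theorem pow_eq_one_of_fus {p : ℕ} [Fact p.Prime] {k : ℕ} {s : ZMod p} {c : Fin l → ZMod p} (h : Fus hp c (s • c))
    (h0 : psum D l k c ≠ 0) : s ^ k = 1 := by
  have h1 := h.psum_eq k
  rw [psum_smul] at h1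
  have h2 : (s ^ k - 1) * psum D l k c = 0 := by rw [sub_mul, one_mul, ← h1, sub_self]
  rcases mul_eq_zero.1 h2 with h3 | h3
  · exact sub_eq_zero.1 h3
  · exact absurd h3 h0

end inv

/-! ### quadratic integers -/

/-- product -/
def qmul (s t : ℤ) (a b : ℤ × ℤ) : ℤ × ℤ :=
  (a.1 * b.1 + t * (a.2 * b.2), a.1 * b.2 + a.2 * b.1 + s * (a.2 * b.2))

/-- power -/
def qpow (s t : ℤ) (a : ℤ × ℤ) : ℕ → ℤ × ℤ
  | 0 => (1, 0)
  | n + 1 => qmul s t (qpow s t a n) a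

/-- norm -/
def nrm (s t : ℤ) (a : ℤ × ℤ) : ℤ := a.1 * a.1 + s * (a.1 * a.2) - t * (a.2 * a.2)

/-- evaluation -/
def ev {p : ℕ} (x : ZMod p) (a : ℤ × ℤ) : ZMod p := (a.1 : ZMod p) + (a.2 : ZMod p) * x

theorem ev_add {p : ℕ} (x : ZMod p) (a b : ℤ × ℤ) : ev x (a + b) = ev x a + ev x b := by
  unfold ev
  rw [Prod.fst_add, Prod.snd_add, Int.cast_add, Int.cast_add]
  ring

theorem ev_zero {p : ℕ} (x : ZMod p) : ev x 0 = 0 := by
  unfold ev
  rw [Prod.fst_zero, Prod.snd_zero, Int.cast_zero, zero_mul, add_zero]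

/-- `ev` as an additive map -/
def evHom {p : ℕ} (x : ZMod p) : ℤ × ℤ →+ ZMod p where
  toFun := ev x
  map_zero' := ev_zero x
  map_add' := ev_add x

theorem ev_sum {p : ℕ} (x : ZMod p) {ι : Type*} (I : Finset ι) (f : ι → ℤ × ℤ) :
    ev x (∑ i ∈ I, f i) = ∑ i ∈ I, ev x (f i) := map_sum (evHom x) f I

variable {p : ℕ} {x : ZMod p} {s t : ℤ}

theorem ev_mul (hx : x * x = s * x + t) (a b : ℤ × ℤ) : ev x (qmul s t a b) = ev x a * ev x b := by
  unfold ev qmul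
  push_cast
  linear_combination -((a.2 : ZMod p) * b.2) * hx

theorem ev_pow (hx : x * x = s * x + t) (a : ℤ × ℤ) (n : ℕ) : ev x (qpow s t a n) = ev x a ^ n := by
  induction n with
  | zero =>
    unfold qpow ev
    simp
  | succ n ih =>
    rw [qpow, ev_mul hx, ih, pow_succ]

theorem nrm_of_ev (hx : x * x = s * x + t) {a : ℤ × ℤ} (h : ev x a = 0) : ((nrm s t a : ℤ) : ZMod p) = 0 := by
  have h1 : ((nrm s t a : ℤ) : ZMod p) = ev x a * ((a.1 : ZMod p) + a.2 * (s - x)) := by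
    unfold ev nrm
    push_cast
    linear_combination ((a.2 : ZMod p) * a.2) * hx
  rw [h1, h, zero_mul]

/-- the vector with coordinates `ev x (C n)` -/
def cv {l p : ℕ} (x : ZMod p) (C : Fin l → ℤ × ℤ) : Fin l → ZMod p := fun n => ev x (C n)

/-- the value at a lattice vector -/
def dotx {l : ℕ} (C : Fin l → ℤ × ℤ) (y : Fin l → ℤ) : ℤ × ℤ := (∑ n, y n * (C n).1, ∑ n, y n * (C n).2)

/-- the value at a root -/
def dotv (D : ChevalleyDatum) {l : ℕ} (C : Fin l → ℤ × ℤ) (r : ℕ) : ℤ × ℤ := dotx C (vec D l r)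

theorem lam_cv {l : ℕ} (x : ZMod p) (C : Fin l → ℤ × ℤ) (y : Fin l → ℤ) : lam (cv x C) y = ev x (dotx C y) := by
  unfold lam cv ev dotx
  rw [Int.cast_sum, Int.cast_sum, Finset.sum_mul, ← Finset.sum_add_distrib]
  refine Finset.sum_congr rfl fun n _ => ?_
  push_cast
  ring

theorem psum_cv (hx : x * x = s * x + t) (D : ChevalleyDatum) {l : ℕ} (C : Fin l → ℤ × ℤ) (k : ℕ) :
    psum D l k (cv x C) = ev x (∑ r : Fin D.nroots, qpow s t (dotv D C r) k) := by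
  unfold psum
  rw [ev_sum]
  refine Finset.sum_congr rfl fun r _ => ?_
  rw [lam_cv, ev_pow hx]
  rfl

theorem ev_int (n : ℤ) : ev x (n, 0) = (n : ZMod p) := by
  unfold ev
  simp

theorem intCast_ne_zero (h11 : 11 ≤ p) {n : ℤ} (h0 : 0 < n) (h1 : n < 11) : (n : ZMod p) ≠ 0 := by
  intro h
  rw [ZMod.intCast_zmod_eq_zero_iff_dvd] at h
  have h2 := Int.le_of_dvd h0 h
  have h3 : (11 : ℤ) ≤ p := by exact_mod_cast h11
  omega

/-- the values at the roots are `0` or have small norm -/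
def Small (D : ChevalleyDatum) {l : ℕ} (s t : ℤ) (C : Fin l → ℤ × ℤ) : Prop :=
  ∀ r : Fin D.nroots, dotv D C r = (0, 0) ∨ (0 < nrm s t (dotv D C r) ∧ nrm s t (dotv D C r) < 11)

instance decSmall (D : ChevalleyDatum) {l : ℕ} (s t : ℤ) (C : Fin l → ℤ × ℤ) : Decidable (Small D s t C) := by
  unfold Small; infer_instance

theorem ev_eq_zero_iff (h11 : 11 ≤ p) (hx : x * x = s * x + t) {a : ℤ × ℤ}
    (h : a = (0, 0) ∨ (0 < nrm s t a ∧ nrm s t a < 11)) : ev x a = 0 ↔ a = (0, 0) := by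
  constructor
  · intro h1
    rcases h with h | ⟨h2, h3⟩
    · exact h
    · exact absurd (nrm_of_ev hx h1) (intCast_ne_zero h11 h2 h3)
  · rintro rfl
    exact ev_zero x

theorem zeros_cv (h11 : 11 ≤ p) (hx : x * x = s * x + t) {D : ChevalleyDatum} {l : ℕ} {C : Fin l → ℤ × ℤ}
    (h : Small D s t C) :
    zeros D l (cv x C) = ∑ r : Fin D.nroots, if dotv D C r = (0, 0) then 1 else 0 := by
  unfold zeros
  refine Finset.sum_congr rfl fun r _ => ?_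
  rw [lam_cv]
  have h1 := ev_eq_zero_iff h11 hx (h r)
  unfold dotv at h1 ⊢
  simp only [h1]

/-- the eigenvector check -/
def EigC {l : ℕ} (Th : Mat l) (s t : ℤ) (C : Fin l → ℤ × ℤ) : Prop :=
  ∀ j, dotx C (Th j) = qmul s t (0, 1) (C j)

instance decEigC {l : ℕ} (Th : Mat l) (s t : ℤ) (C : Fin l → ℤ × ℤ) : Decidable (EigC Th s t C) := by
  unfold EigC; infer_instance

theorem mem_Lam {D : ChevalleyDatum} {l : ℕ} {M : CoxeterMatrix (Fin l)} (hp : IsType D l M) {Q : ℕ}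
    {g : (Fin l → ℤ) ≃+ (Fin l → ℤ)} {w : M.Group} {Th : Mat l}
    (hTh : ∀ j, rep M.toCoxeterSystem hp.isCartan w (g (sr j)) = Th j) (hx : x * x = s * x + t)
    (hQ : (Q : ZMod p) = x) {C : Fin l → ℤ × ℤ} (hC : EigC Th s t C) : cv x C ∈ Lam hp p Q g w := by
  intro y
  have h1 := ext_sr ((lamHom (cv x C)).comp ((rep M.toCoxeterSystem hp.isCartan w).toAddMonoidHom.comp g.toAddMonoidHom))
    ((AddMonoidHom.mulLeft (Q : ZMod p)).comp (lamHom (cv x C))) (fun i => by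
      show lam (cv x C) (rep M.toCoxeterSystem hp.isCartan w (g (sr i))) = (Q : ZMod p) * lam (cv x C) (sr i)
      rw [hTh i, lam_sr, lam_cv, hC i, ev_mul hx, hQ]
      congr 1
      unfold ev
      simp) y
  exact h1

end Cfsg.Agent.H267.KE
end

-- part: H267/KE/Line
section
/-!
# S4822, KE: lines in the torus model (helper267)

From `ModelS` (helper765): the hypotheses of `kB_of_one`, `kB_of_two` for `x = X c`.
-/

set_option autoImplicit false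
set_option linter.unusedSectionVars false

namespace Cfsg.Agent.H267.KE

open CoxeterSystem Cfsg Cfsg.Lie Cfsg.Lie.ChevalleyDatum
open Cfsg.Agent.ChevalleyStructure Cfsg.Agent.ChevalleyStructure.Elts Cfsg.Agent.ChevalleyStructure.CoxeterGeom
  Cfsg.Agent.ChevalleyStructure.CoxeterGeomTypes Cfsg.Agent.ChevalleyStructure.NPerm
  Cfsg.Agent.ChevalleyStructure.RootVec
open Cfsg.Agent.Tits.Roots Cfsg.Agent.Tits.Core Cfsg.Agent.Nodes Cfsg.Agent.Nodes.Reps Cfsg.Agent.Nodes.BNOf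
  Cfsg.Agent.Nodes.RGDChev Cfsg.Agent.Nodes.Bruhat Cfsg.Agent.Nodes.SubComb Cfsg.Agent.Nodes.Coroot
open Cfsg.Agent.H129.WData Cfsg.Agent.H210.EL Cfsg.Agent.H440.TD4 Cfsg.Agent.H765.KE
open Cfsg.Agent.H795.Core

universe u v v'

section model

variable {D : ChevalleyDatum} {l : ℕ} {M : CoxeterMatrix (Fin l)} {hp : IsType D l M} {p Q : ℕ} [hpp : Fact p.Prime]
  {g : (Fin l → ℤ) ≃+ (Fin l → ℤ)} {w : M.Group} {G : Type v} [Group G] {X : (Fin l → ZMod p) → G}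

theorem lam_zero' (y : Fin l → ℤ) : lam (0 : Fin l → ZMod p) y = 0 := by
  unfold lam
  simp

theorem zero_mem_Lam : (0 : Fin l → ZMod p) ∈ Lam hp p Q g w := by
  intro x
  rw [lam_zero', lam_zero', mul_zero]

theorem X_zero (m : ModelS hp p Q g w X) : X 0 = 1 := by
  have h1 := m.add 0 zero_mem_Lam 0 zero_mem_Lam
  rw [add_zero] at h1
  exact mul_eq_left.1 h1.symm

theorem X_smul (m : ModelS hp p Q g w X) {c : Fin l → ZMod p} (hc : c ∈ Lam hp p Q g w) (n : ℕ) :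
    X ((n : ZMod p) • c) = X c ^ n := by
  induction n with
  | zero => rw [Nat.cast_zero, zero_smul, pow_zero, X_zero m]
  | succ n ih =>
    rw [Nat.cast_succ, add_smul, one_smul, m.add _ (Lam.smul hp _ hc) _ hc, ih, pow_succ]

theorem fus_of_conj (m : ModelS hp p Q g w X) {c c' : Fin l → ZMod p} (hc : c ∈ Lam hp p Q g w)
    (hc' : c' ∈ Lam hp p Q g w) {h : G} {i : ℕ} (hh : h * X c * h⁻¹ = X c' ^ i) :
    Fus hp c ((i : ZMod p) • c') := by
  rw [← X_smul m hc'] at hh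
  exact m.fus c hc _ (Lam.smul hp _ hc') h hh

/-- **the exponent of the fusion of a line** -/
theorem pow_of_conj (m : ModelS hp p Q g w X) {c : Fin l → ZMod p} (hc : c ∈ Lam hp p Q g w) {k : ℕ}
    (h0 : psum D l k c ≠ 0) (h : G) (i : ℕ) (hh : h * X c * h⁻¹ = X c ^ i) : (i : ZMod p) ^ k = 1 :=
  pow_eq_one_of_fus (fus_of_conj m hc hc hh) h0

/-- **lines which are not fused** -/
theorem ne_of_zeros (m : ModelS hp p Q g w X) {c c' : Fin l → ZMod p} (hc : c ∈ Lam hp p Q g w)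
    (hc' : c' ∈ Lam hp p Q g w) (h0 : c ≠ 0) (hz : zeros D l c ≠ zeros D l c') (h : G) (i : ℕ) :
    h * X c * h⁻¹ ≠ X c' ^ i := by
  intro hh
  by_cases hi : (i : ZMod p) = 0
  · apply h0
    apply m.inj c hc
    rw [← X_smul m hc', hi, zero_smul, X_zero m] at hh
    exact conj_eq_one_iff.1 hh
  · exact hz ((fus_of_conj m hc hc' hh).zeros_eq.trans (zeros_smul hi c'))

theorem orderOf_X (m : ModelS hp p Q g w X) {c : Fin l → ZMod p} (hc : c ∈ Lam hp p Q g w) (h0 : c ≠ 0) :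
    orderOf (X c) = p ^ 1 := by
  rw [pow_one]
  exact orderOf_eq_prime (m.pow c hc) (fun h => h0 (m.inj c hc h))

theorem rank_of_root [Finite G] {Mi : Ideal AlgInt} (m : ModelS hp p Q g w X) (hM : IsPModular p Mi)
    {c b : Fin l → ZMod p} (hc : c ∈ Lam hp p Q g w) (hb : b ∈ Lam hp p Q g w) {r : ℕ} (hr : r < D.nroots)
    (h0 : lam c (vec D l r) = 0) (h1 : lam b (vec D l r) ≠ 0) :
    2 ≤ blockRank p (principalBlock Mi ↥(Subgroup.centralizer ({X c} : Set G))) :=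
  m.two_le_rank hM hc hb (isRoot_vec hp M.toCoxeterSystem hr) h0 h1

end model

/-! ### `x = q mod p` of order 3, 4, 6 -/

section x

variable {p : ℕ} [hpp : Fact p.Prime] {x : ZMod p}

theorem sq_of_three (h : orderOf x = 3) : x * x = ((-1 : ℤ) : ZMod p) * x + ((-1 : ℤ) : ZMod p) := by
  have h1 : x ^ 3 = 1 := by rw [← h]; exact pow_orderOf_eq_one x
  have h2 : x ≠ 1 := by
    rintro rfl
    rw [orderOf_one] at h
    omega
  have h3 : (x - 1) * (x * x + x + 1) = 0 := by linear_combination h1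
  rcases mul_eq_zero.1 h3 with h4 | h4
  · exact absurd (sub_eq_zero.1 h4) h2
  · push_cast
    linear_combination h4

theorem sq_of_four (h : orderOf x = 4) : x * x = ((0 : ℤ) : ZMod p) * x + ((-1 : ℤ) : ZMod p) := by
  have h1 : x ^ 4 = 1 := by rw [← h]; exact pow_orderOf_eq_one x
  have h2 : x ^ 2 ≠ 1 := by
    intro h2
    have := orderOf_dvd_of_pow_eq_one h2
    rw [h] at this
    omega
  have h3 : (x ^ 2 - 1) * (x * x + 1) = 0 := by linear_combination h1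
  rcases mul_eq_zero.1 h3 with h4 | h4
  · exact absurd (sub_eq_zero.1 h4) h2
  · push_cast
    linear_combination h4

theorem sq_of_six (h : orderOf x = 6) : x * x = ((1 : ℤ) : ZMod p) * x + ((-1 : ℤ) : ZMod p) := by
  have h1 : x ^ 6 = 1 := by rw [← h]; exact pow_orderOf_eq_one x
  have h2 : x ^ 3 ≠ 1 := by
    intro h2
    have := orderOf_dvd_of_pow_eq_one h2
    rw [h] at this
    omega
  have h2' : x ^ 2 ≠ 1 := by
    intro h2
    have := orderOf_dvd_of_pow_eq_one h2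
    rw [h] at this
    omega
  have h3 : (x ^ 3 - 1) * ((x + 1) * (x * x - x + 1)) = 0 := by linear_combination h1
  rcases mul_eq_zero.1 h3 with h4 | h4
  · exact absurd (sub_eq_zero.1 h4) h2
  rcases mul_eq_zero.1 h4 with h5 | h5
  · exfalso
    apply h2'
    have h6 : x = -1 := by linear_combination h5
    rw [h6]
    ring
  · push_cast
    linear_combination h5

theorem dvd_sub_one {d : ℕ} (hd : d ≠ 0) (h : orderOf x = d) : d ∣ p - 1 := by
  rw [← h]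
  refine ZMod.orderOf_dvd_card_sub_one ?_
  rintro rfl
  apply hd
  rw [← h, orderOf_eq_zero_iff']
  intro n hn h1
  rw [zero_pow hn.ne'] at h1
  exact zero_ne_one h1

end x

end Cfsg.Agent.H267.KE
end

-- part: H267/KE/DataE6
section
/-!
# S4822, KE3: the data for `E₆` (helper267)

`d = 3` : `w` of type `3A₂`; `d = 4` : `w` of type `D₄(a₁)`; `d = 6` : `w` of type `E₆(a₂)`; lines with roots of value `0`.
-/

set_option autoImplicit false
set_option linter.unusedSectionVars false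

namespace Cfsg.Agent.H267.KE

open CoxeterSystem Cfsg Cfsg.Lie Cfsg.Lie.ChevalleyDatum
open Cfsg.Agent.ChevalleyStructure Cfsg.Agent.ChevalleyStructure.Elts Cfsg.Agent.ChevalleyStructure.CoxeterGeom
  Cfsg.Agent.ChevalleyStructure.CoxeterGeomTypes Cfsg.Agent.ChevalleyStructure.NPerm
  Cfsg.Agent.ChevalleyStructure.RootVec
open Cfsg.Agent.Tits.Roots Cfsg.Agent.Tits.Core Cfsg.Agent.Nodes Cfsg.Agent.Nodes.Reps Cfsg.Agent.Nodes.BNOf
  Cfsg.Agent.Nodes.RGDChev Cfsg.Agent.Nodes.Bruhat Cfsg.Agent.Nodes.SubComb Cfsg.Agent.Nodes.Coroot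
open Cfsg.Agent.H129.WData Cfsg.Agent.H210.EL Cfsg.Agent.H440.TD4 Cfsg.Agent.H765.KE
open Cfsg.Agent.H795.Core

universe u v

/-- the checks for a line `C` and a vector `B`, a root `r` being trivial on `C` but not on `B` -/
def LineOK (D : ChevalleyDatum) {l : ℕ} (Th : Mat l) (s t : ℤ) (C B : Fin l → ℤ × ℤ) (r : ℕ) : Prop :=
  EigC Th s t C ∧ EigC Th s t B ∧ r < D.nroots ∧ dotv D C r = (0, 0) ∧ 0 < nrm s t (dotv D B r) ∧
    nrm s t (dotv D B r) < 11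

instance decLineOK (D : ChevalleyDatum) {l : ℕ} (Th : Mat l) (s t : ℤ) (C B : Fin l → ℤ × ℤ) (r : ℕ) :
    Decidable (LineOK D Th s t C B r) := by
  unfold LineOK; infer_instance

section model

variable {D : ChevalleyDatum} {l : ℕ} {M : CoxeterMatrix (Fin l)} {hp : IsType D l M} {p Q : ℕ} [hpp : Fact p.Prime]
  {g : (Fin l → ℤ) ≃+ (Fin l → ℤ)} {w : M.Group} {G : Type v} [Group G] {X : (Fin l → ZMod p) → G} {s t : ℤ}
  {Th : Mat l} {C B : Fin l → ℤ × ℤ} {r : ℕ}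

theorem LineOK.mem (h : LineOK D Th s t C B r)
    (hTh : ∀ j, rep M.toCoxeterSystem hp.isCartan w (g (sr j)) = Th j)
    (hx : (Q : ZMod p) * Q = s * Q + t) : cv (Q : ZMod p) C ∈ Lam hp p Q g w :=
  mem_Lam hp hTh hx rfl h.1

theorem LineOK.rank [Finite G] {Mi : Ideal AlgInt} (m : ModelS hp p Q g w X) (hM : IsPModular p Mi) (h11 : 11 ≤ p)
    (h : LineOK D Th s t C B r) (hTh : ∀ j, rep M.toCoxeterSystem hp.isCartan w (g (sr j)) = Th j)
    (hx : (Q : ZMod p) * Q = s * Q + t) :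
    2 ≤ blockRank p (principalBlock Mi ↥(Subgroup.centralizer ({X (cv (Q : ZMod p) C)} : Set G))) := by
  refine rank_of_root m hM (h.mem hTh hx) (mem_Lam hp hTh hx rfl h.2.1) h.2.2.1 ?_ ?_
  · rw [lam_cv]
    show ev _ (dotv D C r) = 0
    rw [h.2.2.2.1]
    exact ev_zero _
  · rw [lam_cv]
    show ev _ (dotv D B r) ≠ 0
    intro h1
    exact intCast_ne_zero h11 h.2.2.2.2.1 h.2.2.2.2.2 (nrm_of_ev hx h1)

theorem LineOK.rank_top [Finite G] {Mi : Ideal AlgInt} (m : ModelS hp p Q g w X) (hM : IsPModular p Mi) (h11 : 11 ≤ p)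
    (h : LineOK D Th s t C B r) (hTh : ∀ j, rep M.toCoxeterSystem hp.isCartan w (g (sr j)) = Th j)
    (hx : (Q : ZMod p) * Q = s * Q + t) : 2 ≤ blockRank p (principalBlock Mi G) := by
  refine m.two_le_rank_top hM (mem_Lam hp hTh hx rfl h.2.1) (isRoot_vec hp M.toCoxeterSystem h.2.2.1) ?_
  rw [lam_cv]
  show ev _ (dotv D B r) ≠ 0
  intro h1
  exact intCast_ne_zero h11 h.2.2.2.2.1 h.2.2.2.2.2 (nrm_of_ev hx h1)

end model

theorem ne_zero_of_psum {D : ChevalleyDatum} {l p k : ℕ} [Fact p.Prime] (hk : k ≠ 0) {c : Fin l → ZMod p} (h : psum D l k c ≠ 0) :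
    c ≠ 0 := by
  rintro rfl
  apply h
  unfold psum
  refine Finset.sum_eq_zero fun r _ => ?_
  rw [lam_zero', zero_pow hk]

theorem smooth_ne_zero {p : ℕ} [hpp : Fact p.Prime] (h11 : 11 ≤ p) {n : ℤ} (m : ℕ) (h : n ∣ 210 ^ m) :
    (n : ZMod p) ≠ 0 := by
  intro h0
  rw [ZMod.intCast_zmod_eq_zero_iff_dvd] at h0
  have h1 : (p : ℤ) ∣ 210 ^ m := h0.trans h
  have h2 : p ∣ 210 ^ m := by exact_mod_cast h1
  have h3 : p ∣ 2 * (3 * (5 * 7)) := hpp.out.dvd_of_dvd_pow h2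
  rcases (hpp.out.dvd_mul).1 h3 with h4 | h4
  · have := Nat.le_of_dvd (by norm_num) h4; omega
  rcases (hpp.out.dvd_mul).1 h4 with h4 | h4
  · have := Nat.le_of_dvd (by norm_num) h4; omega
  rcases (hpp.out.dvd_mul).1 h4 with h4 | h4
  · have := Nat.le_of_dvd (by norm_num) h4; omega
  · have := Nat.le_of_dvd (by norm_num) h4; omega

namespace E6

/-- the Cartan matrix -/
def Am : Mat 6 := ![![2, 0, -1, 0, 0, 0], ![0, 2, 0, -1, 0, 0], ![-1, 0, 2, -1, 0, 0], ![0, -1, -1, 2, -1, 0], ![0, 0, 0, -1, 2, -1], ![0, 0, 0, 0, -1, 2]]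

theorem hA : ∀ i j, Am i j = cartanOf chevE6 6 i j := by decide +kernel

/-- the partial products, `d = 3` -/
def chain3 : List (Fin 6 × Mat 6) := [
    (2, ![![0, 1, 1, 1, 0, 0], ![0, 0, 1, 1, 1, 1], ![0, 0, 0, 1, 1, 0], ![-1, -1, -2, -3, -2, -1], ![1, 1, 1, 2, 1, 1], ![0, -1, 0, -1, -1, -1]]),
    (4, ![![0, 1, 0, 1, 0, 0], ![0, 0, 0, 1, 1, 1], ![0, 0, 1, 1, 1, 0], ![-1, -1, -2, -3, -2, -1], ![1, 1, 2, 2, 1, 1], ![0, -1, -1, -1, -1, -1]]),
    (5, ![![0, 1, 0, 1, 1, 0], ![0, 0, 0, 1, 1, 1], ![0, 0, 1, 1, 0, 0], ![-1, -1, -2, -3, -2, -1], ![1, 1, 2, 2, 2, 1], ![0, -1, -1, -1, -1, -1]]),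
    (1, ![![0, 1, 0, 1, 1, 1], ![0, 0, 0, 1, 1, 0], ![0, 0, 1, 1, 0, 0], ![-1, -1, -2, -3, -2, -1], ![1, 1, 2, 2, 2, 1], ![0, -1, -1, -1, -1, 0]]),
    (0, ![![0, 0, 0, 1, 1, 1], ![0, 1, 0, 1, 1, 0], ![0, 1, 1, 1, 0, 0], ![-1, -2, -2, -3, -2, -1], ![1, 1, 2, 2, 2, 1], ![0, 0, -1, -1, -1, 0]]),
    (2, ![![0, 0, 0, 1, 1, 1], ![0, 1, 0, 1, 1, 0], ![1, 1, 1, 1, 0, 0], ![-1, -2, -2, -3, -2, -1], ![1, 1, 2, 2, 2, 1], ![-1, 0, -1, -1, -1, 0]]),
    (3, ![![0, 0, 1, 1, 1, 1], ![0, 1, 1, 1, 1, 0], ![1, 1, 1, 1, 0, 0], ![-1, -2, -2, -3, -2, -1], ![1, 1, 1, 2, 2, 1], ![-1, 0, -1, -1, -1, 0]]),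
    (2, ![![0, 0, 1, 1, 1, 1], ![0, 1, 1, 2, 1, 0], ![1, 1, 1, 1, 0, 0], ![-1, -2, -2, -3, -2, -1], ![1, 1, 1, 2, 2, 1], ![-1, 0, -1, -1, -1, 0]]),
    (4, ![![0, 0, 0, 1, 1, 1], ![0, 1, 1, 2, 1, 0], ![1, 1, 1, 1, 0, 0], ![-1, -2, -2, -3, -2, -1], ![1, 1, 2, 2, 2, 1], ![-1, 0, -1, -1, -1, 0]]),
    (1, ![![0, 0, 0, 1, 1, 1], ![0, 1, 1, 2, 1, 0], ![1, 1, 1, 1, 1, 0], ![-1, -2, -2, -3, -2, -1], ![1, 1, 2, 2, 1, 1], ![-1, 0, -1, -1, 0, 0]]),
    (3, ![![0, 1, 0, 1, 1, 1], ![0, 1, 1, 2, 1, 0], ![1, 0, 1, 1, 1, 0], ![-1, -1, -2, -3, -2, -1], ![1, 1, 2, 2, 1, 1], ![-1, -1, -1, -1, 0, 0]]),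
    (5, ![![0, 1, 0, 1, 1, 1], ![0, 1, 1, 1, 1, 0], ![1, 0, 1, 1, 1, 0], ![-1, -1, -2, -2, -2, -1], ![1, 1, 2, 2, 1, 1], ![-1, -1, -1, -1, 0, 0]]),
    (2, ![![0, 1, 0, 1, 1, 0], ![0, 1, 1, 1, 1, 1], ![1, 0, 1, 1, 1, 1], ![-1, -1, -2, -2, -2, -1], ![1, 1, 2, 2, 1, 0], ![-1, -1, -1, -1, 0, 0]]),
    (4, ![![0, 1, 1, 1, 1, 0], ![0, 1, 0, 1, 1, 1], ![1, 0, 1, 1, 1, 1], ![-1, -1, -1, -2, -2, -1], ![1, 1, 1, 2, 1, 0], ![-1, -1, -1, -1, 0, 0]]),
    (5, ![![0, 1, 1, 1, 0, 0], ![0, 1, 0, 1, 1, 1], ![1, 0, 1, 1, 1, 1], ![-1, -1, -1, -2, -1, -1], ![1, 1, 1, 2, 1, 0], ![-1, -1, -1, -1, -1, 0]]),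
    (1, ![![0, 1, 1, 1, 0, 0], ![0, 1, 0, 1, 1, 0], ![1, 0, 1, 1, 1, 0], ![-1, -1, -1, -2, -1, 0], ![1, 1, 1, 2, 1, 1], ![-1, -1, -1, -1, -1, -1]]),
    (0, ![![0, 0, 1, 1, 0, 0], ![0, 0, 0, 1, 1, 0], ![1, 1, 1, 1, 1, 0], ![-1, -1, -1, -2, -1, 0], ![1, 1, 1, 2, 1, 1], ![-1, 0, -1, -1, -1, -1]]),
    (2, ![![1, 0, 1, 1, 0, 0], ![0, 0, 0, 1, 1, 0], ![0, 1, 1, 1, 1, 0], ![0, -1, -1, -2, -1, 0], ![0, 1, 1, 2, 1, 1], ![0, 0, -1, -1, -1, -1]]),
    (3, ![![1, 0, 1, 1, 0, 0], ![0, 0, 1, 1, 1, 0], ![0, 1, 0, 1, 1, 0], ![0, -1, -1, -2, -1, 0], ![0, 1, 1, 2, 1, 1], ![0, 0, 0, -1, -1, -1]]),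
    (2, ![![1, 0, 1, 0, 0, 0], ![0, 0, 1, 1, 1, 0], ![0, 1, 0, 1, 1, 0], ![0, -1, -1, -1, -1, 0], ![0, 1, 1, 1, 1, 1], ![0, 0, 0, 0, -1, -1]]),
    (4, ![![1, 0, 0, 0, 0, 0], ![0, 0, 0, 1, 1, 0], ![0, 1, 1, 1, 1, 0], ![0, -1, 0, -1, -1, 0], ![0, 1, 0, 1, 1, 1], ![0, 0, 0, 0, -1, -1]]),
    (1, ![![1, 0, 0, 0, 0, 0], ![0, 0, 0, 1, 0, 0], ![0, 1, 1, 1, 0, 0], ![0, -1, 0, -1, 0, 0], ![0, 1, 0, 1, 1, 1], ![0, 0, 0, 0, 0, -1]]),
    (3, ![![1, 0, 0, 0, 0, 0], ![0, 1, 0, 1, 0, 0], ![0, 0, 1, 1, 0, 0], ![0, 0, 0, -1, 0, 0], ![0, 0, 0, 1, 1, 1], ![0, 0, 0, 0, 0, -1]]),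
    (5, ![![1, 0, 0, 0, 0, 0], ![0, 1, 0, 0, 0, 0], ![0, 0, 1, 0, 0, 0], ![0, 0, 0, 1, 0, 0], ![0, 0, 0, 0, 1, 1], ![0, 0, 0, 0, 0, -1]])]

theorem chainOK3 : ChainOK Am chain3 :=
  H129.ChainF.ok H129.ChainF.i6 H129.ChainF.m6 (H129.ChainF.c6 <| H129.ChainF.c6 <| H129.ChainF.c6 <| H129.ChainF.c6 <| H129.ChainF.c6 <| H129.ChainF.c6 <| H129.ChainF.c6 <| H129.ChainF.c6 <| H129.ChainF.c6 <| H129.ChainF.c6 <| H129.ChainF.c6 <| H129.ChainF.c6 <| H129.ChainF.c6 <| H129.ChainF.c6 <| H129.ChainF.c6 <| H129.ChainF.c6 <| H129.ChainF.c6 <| H129.ChainF.c6 <| H129.ChainF.c6 <| H129.ChainF.c6 <| H129.ChainF.c6 <| H129.ChainF.c6 <| H129.ChainF.c6 <| H129.ChainF.c6 <| H129.ChainF.nil) (by decide +kernel)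

/-- a line -/
def C3a : Fin 6 → ℤ × ℤ := ![(1, 1), (0, 0), (0, 0), (-1, 0), (1, 0), (0, 0)]

/-- an auxiliary vector -/
def B3a : Fin 6 → ℤ × ℤ := ![(0, 1), (-1, 0), (-1, -1), (1, 0), (0, 0), (0, 0)]

theorem line3a : LineOK chevE6 (hd chain3) (-1) (-1) C3a B3a 16 := by decide +kernel

theorem small3a : Small chevE6 (-1) (-1) C3a := by decide +kernel

theorem psum3a_6 : ∑ r : Fin chevE6.nroots, qpow (-1) (-1) (dotv chevE6 C3a r) 6 = (48, 0) := by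
  decide +kernel

theorem zeros3a : (∑ r : Fin chevE6.nroots, if dotv chevE6 C3a r = (0, 0) then 1 else 0) = 24 := by
  decide +kernel

/-- a line -/
def C3b : Fin 6 → ℤ × ℤ := ![(0, 0), (0, -1), (1, 0), (-1, 1), (1, 0), (0, 0)]

/-- an auxiliary vector -/
def B3b : Fin 6 → ℤ × ℤ := ![(0, 1), (-1, 0), (-1, -1), (1, 0), (0, 0), (0, 0)]

theorem line3b : LineOK chevE6 (hd chain3) (-1) (-1) C3b B3b 10 := by decide +kernel

theorem small3b : Small chevE6 (-1) (-1) C3b := by decide +kernel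

theorem psum3b_6 : ∑ r : Fin chevE6.nroots, qpow (-1) (-1) (dotv chevE6 C3b r) 6 = (-108, 0) := by
  decide +kernel

theorem zeros3b : (∑ r : Fin chevE6.nroots, if dotv chevE6 C3b r = (0, 0) then 1 else 0) = 12 := by
  decide +kernel

/-- the partial products, `d = 4` -/
def chain4 : List (Fin 6 × Mat 6) := [
    (4, ![![1, 0, 1, 0, 0, 0], ![0, 0, 0, 0, -1, 0], ![0, 1, 1, 2, 1, 0], ![0, -1, -1, -1, 0, 0], ![0, 1, 0, 0, 0, 0], ![0, 0, 1, 1, 1, 1]]),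
    (2, ![![1, 0, 1, 0, 0, 0], ![0, 0, 0, 0, 1, 0], ![0, 1, 1, 2, 1, 0], ![0, -1, -1, -1, -1, 0], ![0, 1, 0, 0, 0, 0], ![0, 0, 1, 1, 1, 1]]),
    (3, ![![1, 0, 0, 0, 0, 0], ![0, 0, 0, 0, 1, 0], ![0, 1, 1, 2, 1, 0], ![0, -1, 0, -1, -1, 0], ![0, 1, 0, 0, 0, 0], ![0, 0, 0, 1, 1, 1]]),
    (1, ![![1, 0, 0, 0, 0, 0], ![0, 0, 0, 1, 1, 0], ![0, 1, 1, 1, 1, 0], ![0, -1, 0, -1, -1, 0], ![0, 1, 0, 1, 0, 0], ![0, 0, 0, 0, 1, 1]]),
    (4, ![![1, 0, 0, 0, 0, 0], ![0, 1, 0, 1, 1, 0], ![0, 0, 1, 1, 1, 0], ![0, 0, 0, -1, -1, 0], ![0, 0, 0, 1, 0, 0], ![0, 0, 0, 0, 1, 1]]),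
    (3, ![![1, 0, 0, 0, 0, 0], ![0, 1, 0, 1, 0, 0], ![0, 0, 1, 1, 0, 0], ![0, 0, 0, -1, 0, 0], ![0, 0, 0, 1, 1, 0], ![0, 0, 0, 0, 0, 1]])]

theorem chainOK4 : ChainOK Am chain4 :=
  H129.ChainF.ok H129.ChainF.i6 H129.ChainF.m6 (H129.ChainF.c6 <| H129.ChainF.c6 <| H129.ChainF.c6 <| H129.ChainF.c6 <| H129.ChainF.c6 <| H129.ChainF.c6 <| H129.ChainF.nil) (by decide +kernel)

/-- a line -/
def C4a : Fin 6 → ℤ × ℤ := ![(1, -1), (0, 0), (0, 2), (-1, -1), (0, 0), (1, 0)]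

/-- an auxiliary vector -/
def B4a : Fin 6 → ℤ × ℤ := ![(1, -1), (0, 2), (0, 2), (-2, -2), (2, 0), (0, 0)]

theorem line4a : LineOK chevE6 (hd chain4) (0) (-1) C4a B4a 9 := by decide +kernel

theorem small4a : Small chevE6 (0) (-1) C4a := by decide +kernel

theorem psum4a_8 : ∑ r : Fin chevE6.nroots, qpow (0) (-1) (dotv chevE6 C4a r) 8 = (1440, 0) := by
  decide +kernel

theorem psum4a_12 : ∑ r : Fin chevE6.nroots, qpow (0) (-1) (dotv chevE6 C4a r) 12 = (14880, 0) := by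
  decide +kernel

theorem zeros4a : (∑ r : Fin chevE6.nroots, if dotv chevE6 C4a r = (0, 0) then 1 else 0) = 12 := by
  decide +kernel

/-- the partial products, `d = 6` -/
def chain6 : List (Fin 6 × Mat 6) := [
    (2, ![![0, 1, 0, 1, 1, 0], ![0, 1, 1, 1, 1, 1], ![1, 0, 1, 1, 1, 1], ![-1, -1, -2, -2, -2, -1], ![1, 1, 2, 2, 1, 0], ![-1, -1, -1, -1, 0, 0]]),
    (4, ![![0, 1, 1, 1, 1, 0], ![0, 1, 0, 1, 1, 1], ![1, 0, 1, 1, 1, 1], ![-1, -1, -1, -2, -2, -1], ![1, 1, 1, 2, 1, 0], ![-1, -1, -1, -1, 0, 0]]),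
    (5, ![![0, 1, 1, 1, 0, 0], ![0, 1, 0, 1, 1, 1], ![1, 0, 1, 1, 1, 1], ![-1, -1, -1, -2, -1, -1], ![1, 1, 1, 2, 1, 0], ![-1, -1, -1, -1, -1, 0]]),
    (1, ![![0, 1, 1, 1, 0, 0], ![0, 1, 0, 1, 1, 0], ![1, 0, 1, 1, 1, 0], ![-1, -1, -1, -2, -1, 0], ![1, 1, 1, 2, 1, 1], ![-1, -1, -1, -1, -1, -1]]),
    (0, ![![0, 0, 1, 1, 0, 0], ![0, 0, 0, 1, 1, 0], ![1, 1, 1, 1, 1, 0], ![-1, -1, -1, -2, -1, 0], ![1, 1, 1, 2, 1, 1], ![-1, 0, -1, -1, -1, -1]]),
    (2, ![![1, 0, 1, 1, 0, 0], ![0, 0, 0, 1, 1, 0], ![0, 1, 1, 1, 1, 0], ![0, -1, -1, -2, -1, 0], ![0, 1, 1, 2, 1, 1], ![0, 0, -1, -1, -1, -1]]),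
    (3, ![![1, 0, 1, 1, 0, 0], ![0, 0, 1, 1, 1, 0], ![0, 1, 0, 1, 1, 0], ![0, -1, -1, -2, -1, 0], ![0, 1, 1, 2, 1, 1], ![0, 0, 0, -1, -1, -1]]),
    (2, ![![1, 0, 1, 0, 0, 0], ![0, 0, 1, 1, 1, 0], ![0, 1, 0, 1, 1, 0], ![0, -1, -1, -1, -1, 0], ![0, 1, 1, 1, 1, 1], ![0, 0, 0, 0, -1, -1]]),
    (4, ![![1, 0, 0, 0, 0, 0], ![0, 0, 0, 1, 1, 0], ![0, 1, 1, 1, 1, 0], ![0, -1, 0, -1, -1, 0], ![0, 1, 0, 1, 1, 1], ![0, 0, 0, 0, -1, -1]]),
    (1, ![![1, 0, 0, 0, 0, 0], ![0, 0, 0, 1, 0, 0], ![0, 1, 1, 1, 0, 0], ![0, -1, 0, -1, 0, 0], ![0, 1, 0, 1, 1, 1], ![0, 0, 0, 0, 0, -1]]),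
    (3, ![![1, 0, 0, 0, 0, 0], ![0, 1, 0, 1, 0, 0], ![0, 0, 1, 1, 0, 0], ![0, 0, 0, -1, 0, 0], ![0, 0, 0, 1, 1, 1], ![0, 0, 0, 0, 0, -1]]),
    (5, ![![1, 0, 0, 0, 0, 0], ![0, 1, 0, 0, 0, 0], ![0, 0, 1, 0, 0, 0], ![0, 0, 0, 1, 0, 0], ![0, 0, 0, 0, 1, 1], ![0, 0, 0, 0, 0, -1]])]

theorem chainOK6 : ChainOK Am chain6 :=
  H129.ChainF.ok H129.ChainF.i6 H129.ChainF.m6 (H129.ChainF.c6 <| H129.ChainF.c6 <| H129.ChainF.c6 <| H129.ChainF.c6 <| H129.ChainF.c6 <| H129.ChainF.c6 <| H129.ChainF.c6 <| H129.ChainF.c6 <| H129.ChainF.c6 <| H129.ChainF.c6 <| H129.ChainF.c6 <| H129.ChainF.c6 <| H129.ChainF.nil) (by decide +kernel)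

/-- a line -/
def C6a : Fin 6 → ℤ × ℤ := ![(-1, 0), (0, -1), (0, 0), (1, 0), (-1, 0), (1, 0)]

/-- an auxiliary vector -/
def B6a : Fin 6 → ℤ × ℤ := ![(0, 0), (1, -1), (1, 0), (-2, 1), (1, 0), (0, 0)]

theorem line6a : LineOK chevE6 (hd chain6) (1) (-1) C6a B6a 11 := by decide +kernel

theorem small6a : Small chevE6 (1) (-1) C6a := by decide +kernel

theorem psum6a_6 : ∑ r : Fin chevE6.nroots, qpow (1) (-1) (dotv chevE6 C6a r) 6 = (-108, 0) := by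
  decide +kernel

theorem zeros6a : (∑ r : Fin chevE6.nroots, if dotv chevE6 C6a r = (0, 0) then 1 else 0) = 12 := by
  decide +kernel

/-- a line -/
def C6b : Fin 6 → ℤ × ℤ := ![(-1, 0), (0, -2), (1, -1), (0, 2), (0, -1), (1, 0)]

/-- an auxiliary vector -/
def B6b : Fin 6 → ℤ × ℤ := ![(0, 0), (1, -1), (1, 0), (-2, 1), (1, 0), (0, 0)]

theorem line6b : LineOK chevE6 (hd chain6) (1) (-1) C6b B6b 7 := by decide +kernel

theorem small6b : Small chevE6 (1) (-1) C6b := by decide +kernel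

theorem psum6b_6 : ∑ r : Fin chevE6.nroots, qpow (1) (-1) (dotv chevE6 C6b r) 6 = (864, 0) := by
  decide +kernel

theorem zeros6b : (∑ r : Fin chevE6.nroots, if dotv chevE6 C6b r = (0, 0) then 1 else 0) = 6 := by
  decide +kernel

end E6

end Cfsg.Agent.H267.KE
end

private theorem dce_a3442180ff8e : _root_.True := by
  try have : _root_.True := by simp only [_root_.Cfsg.Agent.H267.KE.qpow.eq_1]
  try have : _root_.True := by simp only [_root_.Cfsg.Agent.H267.KE.qpow.eq_2]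
  try have : _root_.True := by simp only [_root_.Cfsg.Agent.H267.KE.qpow.eq_def]
  exact _root_.True.intro
end

-- part: H994/KE/EData
section
set_option linter.all false
open scoped Cfsg.Agent.FastGrp

-- part: H994/KE/Lines
section
/-!
# Lines of a torus model and the principal block (S4822, KE5; helper994)

* `two_le_rank_of_eig` : `m y m⁻¹ = y ^ k` with `y` of order `p` and `k ≠ 1` modulo `p` gives `2 ≤ l(B₀)`;
* `kB_two` : two lines;
* `Model.fus_bound`, `Model.rank` : the fusion of an element of the torus model, its centralizer;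
* `kB_model` : the assembly.
-/

set_option autoImplicit false
set_option linter.unusedSectionVars false

namespace Cfsg.Agent.H994.KE

open CoxeterSystem Cfsg Cfsg.Lie Cfsg.Lie.ChevalleyDatum Subgroup
open Cfsg.Agent.ChevalleyStructure Cfsg.Agent.ChevalleyStructure.Elts Cfsg.Agent.ChevalleyStructure.CoxeterGeom
  Cfsg.Agent.ChevalleyStructure.CoxeterGeomTypes Cfsg.Agent.ChevalleyStructure.NPerm
open Cfsg.Agent.Tits.Roots Cfsg.Agent.Tits.Core Cfsg.Agent.Nodes Cfsg.Agent.Nodes.Reps Cfsg.Agent.Nodes.BNOf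
  Cfsg.Agent.Nodes.RGDChev Cfsg.Agent.Nodes.Bruhat
open Cfsg.Agent.H129.TorusChar Cfsg.Agent.H129.WData Cfsg.Agent.H210.EL Cfsg.Agent.H440.TD4
open Cfsg.Agent.H508.KB

universe u v

section group

variable {p : ℕ} [hpp : Fact p.Prime] {Mx : Ideal AlgInt}

/-- conjugation by powers -/
theorem conj_pow_pow {C : Type*} [Group C] {m y : C} {k : ℕ} (h : m * y * m⁻¹ = y ^ k) (n : ℕ) :
    m ^ n * y * (m ^ n)⁻¹ = y ^ (k ^ n) := by
  induction n with
  | zero => rw [pow_zero, pow_zero, one_mul, inv_one, mul_one, pow_one]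
  | succ n ih =>
    calc m ^ (n + 1) * y * (m ^ (n + 1))⁻¹ = m * (m ^ n * y * (m ^ n)⁻¹) * m⁻¹ := by rw [pow_succ']; group
      _ = (m * y * m⁻¹) ^ (k ^ n) := by rw [ih, conj_pow]
      _ = y ^ (k ^ (n + 1)) := by rw [h, ← pow_mul, pow_succ']

theorem two_le_rank_of_eig {C : Type u} [Group C] [Finite C] (hM : IsPModular p Mx) {m y : C} (hy : orderOf y = p)
    {k : ℕ} (h : m * y * m⁻¹ = y ^ k) (hk : (k : ZMod p) ≠ 1) : 2 ≤ blockRank p (principalBlock Mx C) := by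
  have hp : p.Prime := hpp.out
  obtain ⟨a, b, hb, hab⟩ : ∃ a b : ℕ, ¬ p ∣ b ∧ orderOf m = p ^ a * b :=
    ⟨(orderOf m).factorization p, orderOf m / p ^ (orderOf m).factorization p,
      Nat.not_dvd_ordCompl hp (orderOf_pos m).ne', (Nat.ordProj_mul_ordCompl_eq_self _ _).symm⟩
  have h1 : orderOf (m ^ p ^ a) = b := by
    rw [orderOf_pow, hab, Nat.gcd_eq_right (Dvd.intro _ rfl), Nat.mul_div_cancel_left _ (pow_pos hp.pos _)]
  have h2 := conj_pow_pow h (p ^ a)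
  have hk' : ((k ^ p ^ a : ℕ) : ZMod p) = k := by
    rw [Nat.cast_pow]
    exact ZMod.pow_card_pow _
  have hyp : y ^ p = 1 := by rw [← hy]; exact pow_orderOf_eq_one y
  have h3 : y ^ (k ^ p ^ a) = y ^ k := by
    rw [pow_eq_pow_iff_modEq, hy]
    exact (ZMod.natCast_eq_natCast_iff _ _ _).1 hk'
  rw [h3] at h2
  refine Cfsg.Agent.H296.KB.two_le_rank hM (zpowers y) (IsPGroup.of_card (n := 1) (by rw [Nat.card_zpowers, hy, pow_one])) (m ^ p ^ a)
    (by rw [h1]; exact hb) ?_ y (mem_zpowers y) ?_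
  · rintro _ ⟨j, rfl⟩
    show m ^ p ^ a * y ^ j * (m ^ p ^ a)⁻¹ ∈ zpowers y
    rw [← conj_zpow, h2]
    exact zpow_mem (pow_mem (mem_zpowers y) _) _
  · intro h4
    apply hk
    have h5 : y ^ k = y ^ 1 := by
      rw [← h2, h4, mul_inv_cancel_right, pow_one]
    rw [pow_eq_pow_iff_modEq, hy] at h5
    have h6 := (ZMod.natCast_eq_natCast_iff _ _ _).2 h5
    rw [h6, Nat.cast_one]

/-- representatives of the classes of the powers of `x` -/
theorem exists_reps {S : Type u} [Group S] [Finite S] {x : S} (hx : orderOf x = p) {e : ℕ} (he : 0 < e)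
    (hfus : ∀ (g : S) (i : ℕ), g * x * g⁻¹ = x ^ i → (i : ZMod p) ^ e = 1) :
    ∃ R : Finset S, (∀ y ∈ R, ∃ a : ℕ, (a : ZMod p) ≠ 0 ∧ y = x ^ a) ∧ (∀ y ∈ R, ∀ z ∈ R, IsConj y z → y = z) ∧
      (p - 1) / e ≤ R.card := by
  classical
  have hp : p.Prime := hpp.out
  have hxp : x ^ p = 1 := by rw [← hx]; exact pow_orderOf_eq_one x
  let A : Finset (ZMod p) := Finset.univ.erase 0
  let F : ZMod p → ConjClasses S := fun a => ConjClasses.mk (x ^ a.val)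
  let T : Finset (ConjClasses S) := A.image F
  have hsec : ∀ C : ConjClasses S, ∃ y : S, C ∈ T → (∃ a : ℕ, (a : ZMod p) ≠ 0 ∧ y = x ^ a) ∧ ConjClasses.mk y = C := by
    intro C
    by_cases hC : C ∈ T
    · obtain ⟨a, ha, rfl⟩ := Finset.mem_image.1 hC
      refine ⟨x ^ a.val, fun _ => ⟨⟨a.val, ?_, rfl⟩, rfl⟩⟩
      rw [ZMod.natCast_zmod_val]
      exact (Finset.mem_erase.1 ha).1
    · exact ⟨1, fun h => absurd h hC⟩
  choose s hs using hsec
  have hcard : (p - 1) / e ≤ T.card := by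
    rw [Nat.div_le_iff_le_mul_add_pred he]
    have h1 : A.card ≤ T.card * e := by
      rw [mul_comm]
      refine Finset.card_le_mul_card_image (f := F) A e fun C hC => ?_
      obtain ⟨a, ha, rfl⟩ := Finset.mem_image.1 hC
      have ha0 : a ≠ 0 := (Finset.mem_erase.1 ha).1
      -- the fibre
      have h2 : (A.filter fun b => F b = F a).card ≤ (Polynomial.nthRootsFinset e (1 : ZMod p)).card := by
        refine Finset.card_le_card_of_injOn (fun b => a⁻¹ * b) ?_ ?_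
        · intro b hb
          rw [Finset.mem_coe, Finset.mem_filter] at hb
          rw [Finset.mem_coe, Polynomial.mem_nthRootsFinset he]
          obtain ⟨g, hg⟩ := isConj_iff.1 (ConjClasses.mk_eq_mk_iff_isConj.1 hb.2.symm)
          have h3 : g * x * g⁻¹ = x ^ ((a⁻¹).val * b.val) := by
            have h4 : x = (x ^ a.val) ^ (a⁻¹).val := by
              rw [← pow_mul]
              conv_lhs => rw [← pow_one x]
              rw [pow_eq_pow_iff_modEq, hx, ← ZMod.natCast_eq_natCast_iff, Nat.cast_mul, ZMod.natCast_zmod_val,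
                ZMod.natCast_zmod_val, mul_inv_cancel₀ ha0, Nat.cast_one]
            conv_lhs => rw [h4]
            rw [← conj_pow, hg, ← pow_mul, mul_comm]
          have h5 := hfus g _ h3
          rwa [Nat.cast_mul, ZMod.natCast_zmod_val, ZMod.natCast_zmod_val] at h5
        · intro b _ b' _ h
          exact mul_left_cancel₀ (inv_ne_zero ha0) h
      refine h2.trans ?_
      calc (Polynomial.nthRootsFinset e (1 : ZMod p)).card ≤ Multiset.card (Polynomial.nthRoots e (1 : ZMod p)) := by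
            rw [Polynomial.nthRootsFinset_def]
            exact Multiset.toFinset_card_le _
        _ ≤ e := Polynomial.card_nthRoots _ _
    have h2 : A.card = p - 1 := by
      rw [Finset.card_erase_of_mem (Finset.mem_univ _), Finset.card_univ, ZMod.card]
    rw [h2] at h1
    rw [mul_comm e]
    omega
  have hinj : Set.InjOn s T := by
    intro C hC C' hC' h
    rw [← (hs C hC).2, ← (hs C' hC').2, h]
  refine ⟨T.image s, ?_, ?_, ?_⟩
  · intro y hy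
    obtain ⟨C, hC, rfl⟩ := Finset.mem_image.1 hy
    exact (hs C hC).1
  · intro y hy z hz hyz
    obtain ⟨C, hC, rfl⟩ := Finset.mem_image.1 hy
    obtain ⟨C', hC', rfl⟩ := Finset.mem_image.1 hz
    have h1 := ConjClasses.mk_eq_mk_iff_isConj.2 hyz
    rw [(hs C hC).2, (hs C' hC').2] at h1
    rw [h1]
  · rw [Finset.card_image_of_injOn hinj]
    exact hcard

theorem centralizer_pow {S : Type u} [Group S] {x : S} (hx : orderOf x = p) {a : ℕ} (ha : (a : ZMod p) ≠ 0) :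
    centralizer ({x ^ a} : Set S) = centralizer ({x} : Set S) := by
  ext g
  rw [mem_centralizer_singleton_iff, mem_centralizer_singleton_iff]
  constructor
  · intro h
    have h4 : x = (x ^ a) ^ ((a : ZMod p)⁻¹).val := by
      rw [← pow_mul]
      conv_lhs => rw [← pow_one x]
      rw [pow_eq_pow_iff_modEq, hx, ← ZMod.natCast_eq_natCast_iff, Nat.cast_mul, ZMod.natCast_zmod_val,
        mul_inv_cancel₀ ha, Nat.cast_one]
    have h5 : Commute g (x ^ a) := h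
    have h6 := h5.pow_right ((a : ZMod p)⁻¹).val
    rw [← h4] at h6
    exact h6
  · intro h
    exact (show Commute g x from h).pow_right a

/-- **two lines** -/
theorem kB_two {S : Type u} [Group S] [Finite S] (hM : IsPModular p Mx) {x x' : S} (hx : orderOf x = p)
    (hx' : orderOf x' = p) {e e' : ℕ} (he : 0 < e) (he' : 0 < e')
    (hfus : ∀ (g : S) (i : ℕ), g * x * g⁻¹ = x ^ i → (i : ZMod p) ^ e = 1)
    (hfus' : ∀ (g : S) (i : ℕ), g * x' * g⁻¹ = x' ^ i → (i : ZMod p) ^ e' = 1)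
    (hne : ∀ (g : S) (i : ℕ), g * x * g⁻¹ ≠ x' ^ i) {b b' : ℕ}
    (hb : b ≤ blockRank p (principalBlock Mx ↥(centralizer ({x} : Set S))))
    (hb' : b' ≤ blockRank p (principalBlock Mx ↥(centralizer ({x'} : Set S)))) :
    (p - 1) / e * b + (p - 1) / e' * b' + blockRank p (principalBlock Mx S) ≤ kB Mx S := by
  classical
  obtain ⟨R, hR1, hR2, hR3⟩ := exists_reps hx he hfus
  obtain ⟨R', hR1', hR2', hR3'⟩ := exists_reps hx' he' hfus'
  have hxp : x ^ p = 1 := by rw [← hx]; exact pow_orderOf_eq_one x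
  have hxp' : x' ^ p = 1 := by rw [← hx']; exact pow_orderOf_eq_one x'
  have h1R : ∀ {x : S} (_ : orderOf x = p) {R : Finset S} (_ : ∀ y ∈ R, ∃ a : ℕ, (a : ZMod p) ≠ 0 ∧ y = x ^ a),
      (1 : S) ∉ R := by
    intro x hx R hR h
    obtain ⟨a, ha, hax⟩ := hR 1 h
    apply ha
    rw [ZMod.natCast_eq_zero_iff, ← hx]
    exact orderOf_dvd_of_pow_eq_one hax.symm
  have hRR : ∀ y ∈ R, ∀ z ∈ R', ¬ IsConj y z := by
    intro y hy z hz h
    obtain ⟨a, ha, rfl⟩ := hR1 y hy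
    obtain ⟨c, hc, rfl⟩ := hR1' z hz
    obtain ⟨g, hg⟩ := isConj_iff.1 h
    refine hne g (c * ((a : ZMod p)⁻¹).val) ?_
    have h4 : x = (x ^ a) ^ ((a : ZMod p)⁻¹).val := by
      rw [← pow_mul]
      conv_lhs => rw [← pow_one x]
      rw [pow_eq_pow_iff_modEq, hx, ← ZMod.natCast_eq_natCast_iff, Nat.cast_mul, ZMod.natCast_zmod_val,
        mul_inv_cancel₀ ha, Nat.cast_one]
    conv_lhs => rw [h4]
    rw [← conj_pow, hg, ← pow_mul]
  have key := Cfsg.Agent.H296.KB.sum_le_kB (p := p) hM (insert 1 (R ∪ R')) ?_ ?_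
  · rw [Finset.sum_insert, Finset.sum_union] at key
    · have h3 : blockRank p (principalBlock Mx ↥(Subgroup.centralizer ({(1 : S)} : Set S))) =
          blockRank p (principalBlock Mx S) := by
        rw [← Cfsg.Agent.H634.Cols.finrank_secMap_principal hM (x := (1 : S)) ⟨0, by rw [orderOf_one, pow_zero]⟩,
          Cfsg.Agent.H634.Cols.finrank_secMap_one]
      have h4 : R.card * b ≤ ∑ y ∈ R, blockRank p (principalBlock Mx ↥(centralizer ({y} : Set S))) := by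
        rw [← smul_eq_mul]
        refine Finset.card_nsmul_le_sum _ _ _ fun y hy => ?_
        obtain ⟨a, ha, rfl⟩ := hR1 y hy
        rw [centralizer_pow hx ha]
        exact hb
      have h5 : R'.card * b' ≤ ∑ y ∈ R', blockRank p (principalBlock Mx ↥(centralizer ({y} : Set S))) := by
        rw [← smul_eq_mul]
        refine Finset.card_nsmul_le_sum _ _ _ fun y hy => ?_
        obtain ⟨a, ha, rfl⟩ := hR1' y hy
        rw [centralizer_pow hx' ha]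
        exact hb'
      have h6 := Nat.mul_le_mul_right b hR3
      have h7 := Nat.mul_le_mul_right b' hR3'
      rw [h3] at key
      omega
    · rw [Finset.disjoint_left]
      intro y hy hy'
      exact hRR y hy y hy' (IsConj.refl y)
    · rw [Finset.mem_union, not_or]
      exact ⟨h1R hx hR1, h1R hx' hR1'⟩
  · intro y hy
    rcases Finset.mem_insert.1 hy with rfl | hy
    · exact ⟨0, by rw [orderOf_one, pow_zero]⟩
    · rcases Finset.mem_union.1 hy with hy | hy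
      · obtain ⟨a, ha, rfl⟩ := hR1 y hy
        refine ⟨1, ?_⟩
        rw [pow_one, Nat.Coprime.orderOf_pow, hx]
        rw [hx]
        exact ((Nat.Prime.coprime_iff_not_dvd hpp.out).2 fun h => ha ((ZMod.natCast_eq_zero_iff _ _).2 h))
      · obtain ⟨a, ha, rfl⟩ := hR1' y hy
        refine ⟨1, ?_⟩
        rw [pow_one, Nat.Coprime.orderOf_pow, hx']
        rw [hx']
        exact ((Nat.Prime.coprime_iff_not_dvd hpp.out).2 fun h => ha ((ZMod.natCast_eq_zero_iff _ _).2 h))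
  · intro y hy z hz hyz
    rcases Finset.mem_insert.1 hy with rfl | hy
    · exact (isConj_one_right.1 hyz).symm
    · rcases Finset.mem_insert.1 hz with rfl | hz
      · exact isConj_one_left.1 hyz
      · rcases Finset.mem_union.1 hy with hy | hy <;> rcases Finset.mem_union.1 hz with hz | hz
        · exact hR2 y hy z hz hyz
        · exact (hRR y hy z hz hyz).elim
        · exact (hRR z hz y hy hyz.symm).elim
        · exact hR2' y hy z hz hyz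

end group

section model

variable {D : ChevalleyDatum} {l : ℕ} {M : CoxeterMatrix (Fin l)} {hp : IsType D l M} {p : ℕ} [hpp : Fact p.Prime]
  {Q : ℕ} {g : (Fin l → ℤ) ≃+ (Fin l → ℤ)} {w : M.Group} {G : Type u} [Group G] {X : (Fin l → ZMod p) → G}
  (H : Model hp p Q g w X)

theorem smul_mem {c : Fin l → ZMod p} (hc : c ∈ Lam hp p Q g w) (i : ZMod p) : i • c ∈ Lam hp p Q g w := by
  intro x
  rw [lam_smul', lam_smul', hc x]
  ring

include H in
theorem X_pow {c : Fin l → ZMod p} (hc : c ∈ Lam hp p Q g w) (k : ℕ) : X c ^ k = X ((k : ZMod p) • c) := by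
  induction k with
  | zero =>
    have h0 : (0 : Fin l → ZMod p) ∈ Lam hp p Q g w := by
      have := smul_mem hc (0 : ZMod p)
      rwa [zero_smul] at this
    have h1 := H.add 0 h0 0 h0
    rw [add_zero] at h1
    rw [pow_zero, Nat.cast_zero, zero_smul]
    exact (mul_eq_left.1 h1.symm).symm
  | succ k ih =>
    rw [pow_succ, ih, ← H.add _ (smul_mem hc _) _ hc, Nat.cast_succ, add_smul, one_smul]

include H in
theorem orderOf_X {c : Fin l → ZMod p} (hc : c ∈ Lam hp p Q g w) (h0 : c ≠ 0) : orderOf (X c) = p :=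
  orderOf_eq_prime (H.pow c hc) fun h => h0 (H.inj c hc h)

include H in
theorem comm_X {c c' : Fin l → ZMod p} (hc : c ∈ Lam hp p Q g w) (hc' : c' ∈ Lam hp p Q g w) :
    X c * X c' = X c' * X c := by
  rw [← H.add c hc c' hc', ← H.add c' hc' c hc, add_comm]

include H in
/-- the multiplicities of the root values are invariant -/
theorem mu_of_conj {c c' : Fin l → ZMod p} (hc : c ∈ Lam hp p Q g w) (hc' : c' ∈ Lam hp p Q g w) {h : G}
    (hh : h * X c * h⁻¹ = X c') (v : ZMod p) : mu D l c v = mu D l c' v := by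
  obtain ⟨w', hw'⟩ := H.fus c hc c' hc' h hh
  exact mu_eq hp hw' v

theorem mu_zero_smul (c : Fin l → ZMod p) {i : ZMod p} (hi : i ≠ 0) : mu D l (i • c) 0 = mu D l c 0 := by
  have := mu_smul (D := D) c hi 0
  rwa [mul_zero] at this

theorem mu_neg (hp : IsType D l M) (c : Fin l → ZMod p) (v : ZMod p) : mu D l c (-v) = mu D l c v := by
  classical
  have h1 : ∀ r : Fin D.nroots, ∃ s : Fin D.nroots, vec D l s = -vec D l r := by
    intro r
    obtain ⟨s, hs, e⟩ := (isRoot_iff hp M.toCoxeterSystem _).1 (isRoot_vec hp M.toCoxeterSystem r.2).neg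
    exact ⟨⟨s, hs⟩, e⟩
  choose f hf using h1
  have hlam : ∀ r, rv D l c (f r) = -rv D l c r := by
    intro r
    unfold rv
    rw [hf]
    have := lam_add c (vec D l r) (-vec D l r)
    rw [add_neg_cancel, lam_zero] at this
    exact (neg_eq_of_add_eq_zero_right this.symm).symm
  have hff : ∀ r, f (f r) = r := fun r => Fin.ext (vec_inj hp (f (f r)).2 r.2 (by rw [hf, hf, neg_neg]))
  unfold mu
  refine Finset.card_bij (fun r _ => f r) ?_ ?_ ?_
  · intro r hr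
    rw [Finset.mem_filter] at hr ⊢
    exact ⟨Finset.mem_univ _, by rw [hlam, hr.2, neg_neg]⟩
  · intro a _ b _ hab
    rw [← hff a, ← hff b, hab]
  · intro s hs
    rw [Finset.mem_filter] at hs
    exact ⟨f s, Finset.mem_filter.2 ⟨Finset.mem_univ _, by rw [hlam, hs.2]⟩, hff s⟩

/-- invariance under the eigenvalue -/
theorem mu_q {c : Fin l → ZMod p} {q : ℕ} {w : M.Group} (hc : c ∈ Lam hp p q (AddEquiv.refl _) w)
    (hq : (q : ZMod p) ≠ 0) (v : ZMod p) : mu D l c (q * v) = mu D l c v := by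
  have h1 : mu D l ((q : ZMod p) • c) (q * v) = mu D l c (q * v) :=
    mu_eq hp (w := w) (fun x => by
      rw [lam_smul']
      exact hc x) _
  rw [← h1, mu_smul _ hq]

include H in
/-- **the fusion of the powers of an element of the torus model** -/
theorem fus_bound {c : Fin l → ZMod p} (hc : c ∈ Lam hp p Q g w) (h0 : c ≠ 0) {u : ZMod p} {e : ℕ} (hu0 : u ≠ 0)
    (hu : orderOf u = e) (hmu : ∀ v, mu D l c (u * v) = mu D l c v) {v0 : ZMod p} (hv0 : v0 ≠ 0) {m z : ℕ}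
    (hm : m ≤ mu D l c v0) (hz : z ≤ mu D l c 0) (hN : D.nroots < z + 2 * e * m) (h : G) (i : ℕ)
    (hh : h * X c * h⁻¹ = X c ^ i) : (i : ZMod p) ^ e = 1 := by
  have hi : (i : ZMod p) ≠ 0 := by
    intro h1
    rw [X_pow H hc, h1, zero_smul] at hh
    have h2 : X c = 1 := by
      have h3 : X (0 : Fin l → ZMod p) = 1 := by
        have := X_pow H hc 0
        rw [pow_zero, Nat.cast_zero, zero_smul] at this
        exact this.symm
      rw [h3] at hh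
      exact conj_eq_one_iff.1 hh
    exact h0 (H.inj c hc h2)
  refine pow_eq_one_of_mult (rv D l c) hi hu0 hu (fun v => ?_) hmu hv0 hm hz hN
  have h1 : mu D l ((i : ZMod p) • c) (i * v) = mu D l c v := mu_smul c hi v
  rw [X_pow H hc] at hh
  rw [← mu_of_conj H hc (smul_mem hc _) hh] at h1
  exact h1

include H in
/-- powers of elements with different numbers of trivial root values are not conjugate -/
theorem not_conj {c c' : Fin l → ZMod p} (hc : c ∈ Lam hp p Q g w) (hc' : c' ∈ Lam hp p Q g w) (h0 : c ≠ 0)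
    (hne : mu D l c 0 ≠ mu D l c' 0) (h : G) (i : ℕ) : h * X c * h⁻¹ ≠ X c' ^ i := by
  intro hh
  have hi : (i : ZMod p) ≠ 0 := by
    intro h1
    have h3 : X (0 : Fin l → ZMod p) = 1 := by
      have := X_pow H hc 0
      rw [pow_zero, Nat.cast_zero, zero_smul] at this
      exact this.symm
    rw [X_pow H hc', h1, zero_smul, h3] at hh
    exact h0 (H.inj c hc (conj_eq_one_iff.1 hh))
  rw [X_pow H hc'] at hh
  apply hne
  rw [mu_of_conj H hc (smul_mem hc' _) hh, mu_zero_smul _ hi]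

include H in
/-- **the centralizer** -/
theorem rank_centralizer [Finite G] {Mx : Ideal AlgInt} (hM : IsPModular p Mx) {c y : Fin l → ZMod p}
    (hc : c ∈ Lam hp p Q g w) (hy : y ∈ Lam hp p Q g w) (hy0 : y ≠ 0) {v : M.Group}
    (hv : ∀ x, rep M.toCoxeterSystem hp.isCartan v (rep M.toCoxeterSystem hp.isCartan w (g x)) =
      rep M.toCoxeterSystem hp.isCartan w (g (rep M.toCoxeterSystem hp.isCartan v x)))
    (hvc : ∀ x, lam c (rep M.toCoxeterSystem hp.isCartan v x) = lam c x) {t : ZMod p} (ht0 : t ≠ 0) (ht : t ≠ 1)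
    (hvy : ∀ x, lam y (rep M.toCoxeterSystem hp.isCartan v x) = t * lam y x) :
    2 ≤ blockRank p (principalBlock Mx ↥(centralizer ({X c} : Set G))) := by
  obtain ⟨m, hm⟩ := H.act v hv
  have h1 : m * X c * m⁻¹ = X c := hm c hc c hc hvc
  have h2 : m * X y * m⁻¹ = X (t⁻¹ • y) := hm y hy _ (smul_mem hy _) fun x => by
    rw [lam_smul', hvy, ← mul_assoc, inv_mul_cancel₀ ht0, one_mul]
  have h3 : m * X y * m⁻¹ = X y ^ (t⁻¹).val := by
    rw [h2, X_pow H hy, ZMod.natCast_zmod_val]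
  have hmc : m ∈ centralizer ({X c} : Set G) := by
    rw [mem_centralizer_singleton_iff]
    rw [mul_inv_eq_iff_eq_mul] at h1
    exact h1
  have hyc : X y ∈ centralizer ({X c} : Set G) := by
    rw [mem_centralizer_singleton_iff]
    exact comm_X H hy hc
  refine two_le_rank_of_eig hM (m := (⟨m, hmc⟩ : ↥(centralizer ({X c} : Set G)))) (y := ⟨X y, hyc⟩)
    (k := (t⁻¹).val) ?_ ?_ ?_
  · rw [← orderOf_X H hy hy0]
    exact (orderOf_injective (centralizer ({X c} : Set G)).subtype Subtype.val_injective ⟨X y, hyc⟩).symm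
  · exact Subtype.ext h3
  · rw [ZMod.natCast_zmod_val]
    intro h4
    exact ht (inv_eq_one.1 h4)

end model

end Cfsg.Agent.H994.KE
end

-- part: H994/KE/EData
section
/-!
# `E₈(q)`, `q` of order 3, 4, 6 modulo `p` (S4822, KE5; helper994): the Weyl group data

`w6` of order 6 (`w6² = w6 - 1`), `w4` of order 4 (`w4² = -1`), `v6`, `v4` commuting with them; functionals `V + u U`.
-/

set_option autoImplicit false
set_option maxRecDepth 100000
set_option maxHeartbeats 8000000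

namespace Cfsg.Agent.H994.KE.E8

open Cfsg Cfsg.Lie Cfsg.Lie.ChevalleyDatum
open Cfsg.Agent.ChevalleyStructure.CoxeterGeomTypes Cfsg.Agent.Nodes.RGDChev Cfsg.Agent.H129.WData
  Cfsg.Agent.H129.TorusChar Cfsg.Agent.Tits.Roots Cfsg.Agent.Nodes.Reps Cfsg.Agent.Nodes Cfsg.Agent.H210.EL

/-- the Cartan matrix -/
def Am : Mat 8 := ![![2, 0, -1, 0, 0, 0, 0, 0], ![0, 2, 0, -1, 0, 0, 0, 0], ![-1, 0, 2, -1, 0, 0, 0, 0], ![0, -1, -1, 2, -1, 0, 0, 0], ![0, 0, 0, -1, 2, -1, 0, 0], ![0, 0, 0, 0, -1, 2, -1, 0], ![0, 0, 0, 0, 0, -1, 2, -1], ![0, 0, 0, 0, 0, 0, -1, 2]]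

theorem hA : ∀ i j, Am i j = cartanOf chevE8 8 i j :=
  H129.RootF.cE8

/-- decoding of a matrix -/
def dec (N : ℕ) : Mat 8 := fun i j => Int.subNatNat (N / 16 ^ (8 * i.val + j.val) % 16) 7

/-- `w6` -/
def cw6 : List (Fin 8 × Mat 8) := [
    (1, dec 0x7666676777666676777666677777677777788777666556668899a998899aba99),
    (3, dec 0x7666677777666666777666777777676777788787666556668899a988899aba99),
    (4, dec 0x76667777776656667776667777777767777887876665566688999988899aba99),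
    (5, dec 0x76677777776556667777667777777767777787876666566688999988899aba99),
    (6, dec 0x7677777777655666777766777777776777778787666656668889998889aaba99),
    (0, dec 0x7877777776655666777766777777776777778787666656668889998889aaba99),
    (2, dec 0x7877777776655667777766767777776777778787666656678889998889aaba98),
    (3, dec 0x7877777776655667777766767777776777778887666656678889988889aab998),
    (4, dec 0x7877777776655667777776767777676777778887666666678889988889aaa998),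
    (5, dec 0x7877777776665667777776767776676777788887666666678888988889aaa998),
    (1, dec 0x78877777766656677777767677666767778888876666666788889888899aa998),
    (3, dec 0x78877777766656677777767677666777778888776666667788889888899aa988),
    (4, dec 0x78877777766666677777667677667777778888776666667788888888899aa988),
    (2, dec 0x788877777666666777766676776777777788887766666677888888888999a988),
    (3, dec 0x788877777666676777766676776777777788877766666777888888888999a988),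
    (0, dec 0x7888877776666767777666767767777777887777666677778888988889999988),
    (2, dec 0x7888877776666767777666777767777777887777666677778888988789999988),
    (1, dec 0x7888887776666667777667777767777777887777666677778888988789999888),
    (3, dec 0x7888888776666677777667677767777777887777666677778888988789999888),
    (4, dec 0x7888988776666677777667677767777777888777666667778888888789999888),
    (5, dec 0x7889988776666677777767677766777777888777666667778888888789999888),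
    (6, dec 0x7899988776666677777767677776777777788777666667778888888789999888),
    (7, dec 0x7899988777666677777767677776777777788777666667778888888788999888),
    (5, dec 0x8899988777666677777767677776777777788777766667777888888778999888),
    (4, dec 0x8889988777766677777767677766777777888777766667777888888778899888),
    (3, dec 0x8888988777776677777667677767777777888777766667777888888778889888),
    (2, dec 0x8888888777777677777667677767777777887777766677777888988778888888),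
    (1, dec 0x8888878777777877777666677767777777887777766677777888988778888888),
    (3, dec 0x8888877777777877777666777767777777887777766677777888988778888878),
    (4, dec 0x8888777777778877777666777767777777888777766667777888888778888878),
    (5, dec 0x8887777777788877777766777766777777888777766667777888888778888878),
    (6, dec 0x8877777777888877777766777776777777788777766667777888888778888878),
    (2, dec 0x8777777778888877777766777776777777788777776667777788888777888878),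
    (3, dec 0x8777777778888777777767777776777777788877776666777788878777888878),
    (4, dec 0x8777777778887777777787777776677777788877776666777788878777888878),
    (5, dec 0x8777777778877777777887777777677777778877776666777788878777888878),
    (3, dec 0x8777777778777777778887777777677777778877777666777778878777788878),
    (4, dec 0x8777777778777777778877777777877777777877777666777778878777788878),
    (3, dec 0x8777777778777777778777777778877777777877777766777777878777778878),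
    (2, dec 0x8777777778777777778777777778777777778877777776777777778777777878)]

/-- `w4` -/
def cw4 : List (Fin 8 × Mat 8) := [
    (6, dec 0x7777877789abba99777788877665455667777777765556678889988777888787),
    (7, dec 0x7777877789abba99777788877765455666777777765556678889988778888787),
    (5, dec 0x7777877789abba99777788877765455676777777665556677889988788888787),
    (6, dec 0x7777877789abba99777788877765455676677777666556677899988788888787),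
    (4, dec 0x7777877789abba99777788877665455677677777666556677899988788888787),
    (5, dec 0x7778877789aaba99777888877665455677667777666656677899988788888787),
    (1, dec 0x77888777899aba99778888877655455677767777666656677889988788888787),
    (3, dec 0x77888787899aba99778888777655456677767777666656677889988788888777),
    (4, dec 0x77888787899aba99778888777655556677766777666666677889988788887777),
    (2, dec 0x77888787899aba99778888777655556677776777666666677888988788877777),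
    (3, dec 0x77888887899aba99778887777655566677776677666667677888988788877777),
    (0, dec 0x77889887899aba99778877777655566677777677666667677888888788877777),
    (2, dec 0x77889888899aba98778877777655566777777676666667677888888888877777),
    (1, dec 0x77889988899ab998778877777655566777777776666666677888888888877777),
    (3, dec 0x77889988899ab998778877777655566777777776666666777888887888877777),
    (4, dec 0x77889988899aa998778887777655566777777776666666777888887888877777),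
    (5, dec 0x778999888999a998778887777655566777777776666666777888887888887777),
    (6, dec 0x778999888999a998777887777665566777777776666666777888887888887777),
    (7, dec 0x788999888899a998777887777765566777777776666666777788887888887777),
    (4, dec 0x888999887899a998777887777765566777777776766666777788887878887777),
    (2, dec 0x88889988789aa998777787777766566777777776766666777788887878877777),
    (3, dec 0x88889888789aa998777788777766566777777676766667777788887878877777),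
    (0, dec 0x88888888789ab998777778777766666777776676766677777788887878877777),
    (2, dec 0x88888887789ab998777778787766666677776677766677777788887778877777),
    (1, dec 0x88888787789aba98777777787766666677776777766677777788877778877777),
    (3, dec 0x88888777789aba98777777787766667677776767766677777788878778877777),
    (4, dec 0x88887777789aba98777777787766667677777767766667777788878778877777),
    (5, dec 0x88877777789aba98777777787766667677777767766667777788878778887777),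
    (6, dec 0x88777777789aba98777777787776667677777767766667777778878778887777),
    (2, dec 0x87777777789aba98777777787776667677777767776667777778878777887777),
    (3, dec 0x87777777789ab998777778787776667677777767776666777778888777887777),
    (4, dec 0x87777777789aa998777788787776667677776767776666777778988777888777),
    (5, dec 0x877777777899a998777888787777667677766767776666777778988777888777),
    (1, dec 0x877777777889a998778888787777667677666767777666777788988777788777),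
    (3, dec 0x877777777889a988778888887777666677666777777666677788988777788787),
    (4, dec 0x8777777778899988778898887777666677667777777656677788888777788787),
    (2, dec 0x8777777778889988778998887776666677677777777656677788888777778787),
    (3, dec 0x8777777778889888778999887776666677677777777656677788878777778887),
    (0, dec 0x87777777788888887789a9887776566677677777777666677788878777778887),
    (2, dec 0x87777777788888877789a9887776566777677777777666667788878777778888),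
    (1, dec 0x87777777788887877789a9887776566777677777777666667788888777778888),
    (3, dec 0x87777777788887777789a9987776566777677777777666767788887777778878),
    (4, dec 0x87777777788877777789a9987776666777677777777666767788887777777878),
    (5, dec 0x87777777788777777789a9987777666777667777777766767788887777777878),
    (1, dec 0x87777777787777777789a9987777666777767777777766767778887777777878),
    (3, dec 0x87777777787777777789a9887777667777767777777766667778888777777878),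
    (4, dec 0x8777777778777777778999887777767777766777777766667778988777778878),
    (2, dec 0x8777777778777777778899887777767777776777777666667778988777788878),
    (3, dec 0x8777777778777777778898887777787777776677777666667778988777788878),
    (0, dec 0x8777777778777777778888887777887777777677777656667778888777788878),
    (2, dec 0x8777777778777777778888877777887877777676777656677778888877788877),
    (1, dec 0x8777777778777777778887877777887877777776777656677778888877788777),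
    (3, dec 0x8777777778777777778887777777888877777776777656677778887877788787),
    (4, dec 0x8777777778777777778877777777888877777776777666677778887877788787),
    (0, dec 0x8777777778777777778777777778888877777776777766677777887877778787),
    (2, dec 0x8777777778777777778777777778888777777778777766667777887777778787),
    (1, dec 0x8777777778777777778777777778878777777878777766667777877777778887),
    (3, dec 0x8777777778777777778777777778877777777878777766767777878777778877),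
    (0, dec 0x8777777778777777778777777778777777778878777776767777778777777877),
    (2, dec 0x8777777778777777778777777778777777778877777776777777778777777878)]

/-- `v6` -/
def cv6 : List (Fin 8 × Mat 8) := [
    (3, dec 0x8777777778777777778887777776677777787777777788777777878777777778),
    (4, dec 0x8777777778777777778877777776777777788777777778777777778777777778)]

/-- `v4` -/
def cv4 : List (Fin 8 × Mat 8) := [
    (7, dec 0x6777777788777777778777777778877777776777777788777777878777777778),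
    (3, dec 0x8777777778777777778777777778877777776777777788777777878777777778)]

theorem cw6_ok : ChainOK Am cw6 :=
  H129.ChainF.ok H129.ChainF.i8 H129.ChainF.m8 rfl (by decide +kernel)
theorem cw4_ok : ChainOK Am cw4 :=
  H129.ChainF.ok H129.ChainF.i8 H129.ChainF.m8 rfl (by decide +kernel)
theorem cv6_ok : ChainOK Am cv6 :=
  H129.ChainF.ok H129.ChainF.i8 H129.ChainF.m8 rfl (by decide +kernel)
theorem cv4_ok : ChainOK Am cv4 :=
  H129.ChainF.ok H129.ChainF.i8 H129.ChainF.m8 rfl (by decide +kernel)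
/-- the matrices of the four elements -/
def W6 : Mat 8 := hd cw6
def W4 : Mat 8 := hd cw4
def T6 : Mat 8 := hd cv6
def T4 : Mat 8 := hd cv4

theorem comm6 : CommOK T6 W6 := by decide +kernel
theorem comm4 : CommOK T4 W4 := by decide +kernel

def V1 : Fin 8 → ℤ := ![0, 1, -1, 0, 0, 0, 1, -1]
def U1 : Fin 8 → ℤ := ![0, 0, 0, 0, 0, 0, -1, 2]
def V2 : Fin 8 → ℤ := ![0, 0, -1, 0, 0, 1, 1, -1]
def U2 : Fin 8 → ℤ := ![0, 0, 0, 0, 0, -1, 0, 2]
def V3 : Fin 8 → ℤ := ![0, 1, 1, -1, -1, 1, 0, 0]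
def U3 : Fin 8 → ℤ := ![0, -1, -1, 2, -1, 0, 0, 0]
def V4 : Fin 8 → ℤ := ![0, -1, 1, 0, 0, -1, 1, 0]
def U4 : Fin 8 → ℤ := ![2, 0, -1, 0, 0, 0, 0, 0]
def V5 : Fin 8 → ℤ := ![0, 0, 0, 0, 0, 0, -1, 2]
def U5 : Fin 8 → ℤ := ![0, -1, -1, 2, -1, 0, 0, 0]

/-- the action of a matrix on integral functionals -/
def Act (W : Mat 8) (V V' : Fin 8 → ℤ) : Prop := ∀ j, ∑ n, W j n * V n = V' j

instance (W : Mat 8) (V V' : Fin 8 → ℤ) : Decidable (Act W V V') := by unfold Act; infer_instance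

theorem w1 : Act W6 V1 (-U1) ∧ Act W6 U1 (V1 + U1) := by decide +kernel
theorem w2 : Act W6 V2 (-U2) ∧ Act W6 U2 (V2 + U2) := by decide +kernel
theorem w3 : Act W6 V3 (-U3) ∧ Act W6 U3 (V3 + U3) := by decide +kernel
theorem w4 : Act W4 V4 (-U4) ∧ Act W4 U4 V4 := by decide +kernel
theorem w5 : Act W4 V5 (-U5) ∧ Act W4 U5 V5 := by decide +kernel
theorem v1 : Act T6 V1 V1 ∧ Act T6 U1 U1 := by decide +kernel
theorem v2 : Act T6 V2 V2 ∧ Act T6 U2 U2 := by decide +kernel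
theorem v3 : Act T6 V3 (-V3 - U3) ∧ Act T6 U3 V3 := by decide +kernel
theorem v4 : Act T4 V4 V4 ∧ Act T4 U4 U4 := by decide +kernel
theorem v5 : Act T4 V5 (-V5) ∧ Act T4 U5 (-U5) := by decide +kernel

end Cfsg.Agent.H994.KE.E8
end
end

-- part: H97/KB/TwFDat
section
prune_inst 0x4014068650160120000042086b12020a50d0004b0002004008c270140010001280882a94005003005422a020100050020001000c00040000004000000000001001008000081480000000098000184000000000000000000000000000000000004000000000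
set_option linter.all false
open scoped Cfsg.Agent.FastGrp

-- part: H97/KB/TwFTor
section
/-!
# Two commuting torus elements of `²F₄(q)` and an element normalizing them

`exists_xyc` : `q = 2 ^ (2m+1)`; from words for `w`, `v` in the Weyl group of type `F₄` and functionals `Lx`, `Ly` on the
root lattice modulo `N` there are elements `x`, `y` of order `N` with `⟨x⟩ ⊓ ⟨y⟩ = 1` and `c` centralizing `x`, with
`c y c⁻¹ = y ^ j`; conjugate powers of `x` come from the Weyl group.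
-/

set_option autoImplicit false
set_option linter.unusedSectionVars false

namespace Cfsg.Agent.H97.KB.TwFTor

open CoxeterSystem Cfsg Cfsg.Lie Cfsg.Lie.ChevalleyDatum
open Cfsg.Agent.ChevalleyStructure Cfsg.Agent.ChevalleyStructure.Elts Cfsg.Agent.ChevalleyStructure.CoxeterGeom
  Cfsg.Agent.ChevalleyStructure.CoxeterGeomTypes Cfsg.Agent.ChevalleyStructure.NPerm
open Cfsg.Agent.Tits.Roots Cfsg.Agent.Tits.Core Cfsg.Agent.Nodes Cfsg.Agent.Nodes.Reps Cfsg.Agent.Nodes.BNOf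
  Cfsg.Agent.Nodes.RGDChev Cfsg.Agent.Nodes.Bruhat Cfsg.Agent.Nodes.SubComb Cfsg.Agent.Nodes.Coroot
open Cfsg.Agent.KFacts.RgdField Cfsg.Agent.KFacts.RgdChevCoord Cfsg.Agent.BpExc.TorCent Cfsg.Agent.BpExc.TorChev
open Cfsg.Agent.GpExc.Field Cfsg.Agent.BpExc.Tow Cfsg.Agent.BpExc.TowChev
  Cfsg.Agent.BpExc.LangFr Cfsg.Agent.BpExc Cfsg.Agent.H129.TorusChar Cfsg.Agent.H129.TorusUntw
open Cfsg.Agent.H129.TorusCent Cfsg.Agent.H129.StabGen Cfsg.Agent.H129.TorAct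
open Cfsg.Agent.H493.F4End Cfsg.Agent.H493.F4Tor Cfsg.Agent.H129 Cfsg.Agent.H129.SuzT

universe u

/-! ### the group generated by the `n_i(1)` in characteristic 2 -/

section NW

variable {k : Type u} [Field k] [CharP k 2]

theorem sp_simple : ∀ i : Fin 4, TwF4.Rel.sp i = chevF4.simple i ∧ TwF4.Rel.bar (chevF4.simple i) = chevF4.simple (rv i) := by
  decide +kernel

/-- the product of the `n_i` along a word -/
noncomputable def nw (k : Type u) [Field k] (w : List (Fin 4)) : ↥(chevF4.group k) := (w.map fun i => nc hp k i).prod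

theorem nw_nil : nw k [] = 1 := rfl

theorem nw_cons (i : Fin 4) (w : List (Fin 4)) : nw k (i :: w) = nc hp k i * nw k w := by
  unfold nw
  rw [List.map_cons, List.prod_cons]

theorem nw_append (w w' : List (Fin 4)) : nw k (w ++ w') = nw k w * nw k w' := by
  unfold nw
  rw [List.map_append, List.prod_append]

theorem nc_eq_ng (i : Fin 4) : nc hp k i = ng (chevF4.simple i) 1 := Subtype.ext (coe_ng (simple_tab i).1 1).symm

theorem coe_nc (i : Fin 4) :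
    ((nc hp k i : ↥(chevF4.group k)) : GL chevF4.Idx k) = TwF4.Rel.nG k (TwF4.Rel.sp i) := by
  rw [nc_eq_ng, (sp_simple i).1]
  show TwF4.Rel.X _ 1 * (TwF4.Rel.X _ (-1⁻¹) * TwF4.Rel.X _ 1) = _
  unfold TwF4.Rel.nG
  rw [CharTwo.neg_eq, inv_one, mul_assoc]

theorem coe_nw (w : List (Fin 4)) :
    ((nw k w : ↥(chevF4.group k)) : GL chevF4.Idx k) = TwF4.RankOne.NW k (w.map Fin.val) := by
  induction w with
  | nil => rfl
  | cons i w ih => rw [nw_cons, Subgroup.coe_mul, ih, coe_nc, List.map_cons, TwF4.RankOne.NW_cons]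

/-- the check for two words with the same product -/
def weq (w w' : List (Fin 4)) : Bool :=
  TwF4.RankOne.mat1 (TwF4.RankOne.letters (w.map Fin.val)) ==
    TwF4.RankOne.mat1 (TwF4.RankOne.letters (w'.map Fin.val))

theorem nw_eq {w w' : List (Fin 4)} (h : weq w w' = true) : nw k w = nw k w' := by
  apply Subtype.ext
  rw [coe_nw, coe_nw]
  exact TwF4.RankOne.NW_eq_of_mat1 _ _ h

theorem ste_nc (m : ℕ) (i : Fin 4) : ste k m (nc hp k i) = nc hp k (rv i) := by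
  rw [nc_eq_ng, nc_eq_ng, ste_ng m (simple_tab i).1, lm_one, (simple_tab i).2.1]

theorem ste_nw (m : ℕ) (w : List (Fin 4)) : ste k m (nw k w) = nw k (w.map rv) := by
  induction w with
  | nil => rw [nw_nil, map_one]; rfl
  | cons i w ih => rw [nw_cons, map_mul, ih, ste_nc, List.map_cons, nw_cons]

theorem rp_nw {W : Type*} [Group W] (cs : CoxeterSystem CoxeterMatrix.F₄ W)
    {hN : NSys CoxeterMatrix.F₄ (TT chevF4 k) (nc hp k)} (w : List (Fin 4)) : Rp cs hN (cs.wordProd w) (nw k w) := by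
  induction w with
  | nil => rw [wordProd_nil]; exact rp_one
  | cons i w ih => rw [wordProd_cons, nw_cons]; exact (rp_simple cs hN i).mul ih

end NW

/-! ### the torus -/

section Alg

variable {k : Type u} [Field k] [IsAlgClosed k] [CharP k 2] {W : Type*} [Group W]
  (cs : CoxeterSystem CoxeterMatrix.F₄ W)

/-- **conjugate elements of the torus are conjugate under the Weyl group** -/
theorem exists_w [Finite W] (hk : LocFin k) {t t' g : ↥(chevF4.group k)} (ht : t ∈ TT chevF4 k) (ht' : t' ∈ TT chevF4 k)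
    (h : g * t * g⁻¹ = t') : ∃ w : W, ∀ x, cX hp t' (rep cs hp.isCartan w x) = cX hp t x := by
  have : Fact (Nat.Prime 2) := ⟨Nat.prime_two⟩
  have hN := nsys_of_locFin hp cs hk 2
  have H := tow hp cs hk 2
  have C := coordsL hp cs hk 2
  rw [← TL_eq hp hk, ← XL_eq hp hk] at C
  have h1 : t ∈ TL (Tj hp (k := k)) := by rw [TL_eq hp hk]; exact ht
  have h2 : t' ∈ TL (Tj hp (k := k)) := by rw [TL_eq hp hk]; exact ht'
  have hgG : g ∈ GG cs hp.isCartan (TL (Tj hp (k := k))) (XL (Xj hp)) := by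
    rw [GG_eq_top hp cs hk]; exact Subgroup.mem_top _
  have h3 : g * t = t' * g := by rw [← h]; group
  obtain ⟨m', -, w, n, hn, hnt, -⟩ := BpExc.Fr.exists_form H C h1 h2 hgG h3
  have hn' : Rp cs hN w n := by
    have key : ∀ (T : Subgroup ↥(chevF4.group k)) (h1 : NSys CoxeterMatrix.F₄ T (nc hp k)) (h2 : T = TT chevF4 k),
        Rp cs h1 w n → Rp cs hN w n := by
      intro T h1 h2 h3
      subst h2
      exact h3
    exact key _ _ (TL_eq hp hk) hn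
  refine ⟨w, fun x => ?_⟩
  have h4 : n * t * n⁻¹ = t' := by rw [hnt]; group
  rw [← cX_rp hp cs hk 2 hn' ht x, h4]

/-- the elements of the algebraic group -/
structure YD (m N : ℕ) (Lx Ly : Fin 4 → ℤ) (j : ℕ) (n z s t v : ↥(chevF4.group k)) (u : k) : Prop where
  hz : n = z⁻¹ * ste k m z
  hs : s ∈ TT chevF4 k
  ht : t ∈ TT chevF4 k
  hu : IsPrimitiveRoot u N
  hcs : ∀ x, cX hp s x = u ^ La Lx x
  hct : ∀ x, cX hp t x = u ^ La Ly x
  fs : n * ste k m s * n⁻¹ = s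
  ft : n * ste k m t * n⁻¹ = t
  fv : n * ste k m v * n⁻¹ = v
  vs : v * s * v⁻¹ = s
  vt : v * t * v⁻¹ = t ^ j

theorem exists_cX_La {N : ℕ} (hN0 : N ≠ 0) {u : k} (hu : IsPrimitiveRoot u N) (L : Fin 4 → ℤ) :
    ∃ t ∈ TT chevF4 k, ∀ x, cX hp t x = u ^ La L x := by
  have hu0 : u ≠ 0 := hu.ne_zero hN0
  have hMC : IsMC (fun x : Fin 4 → ℤ => u ^ La L x) :=
    ⟨by show u ^ La L 0 = 1; rw [La_zero, zpow_zero],
      fun x y => by show u ^ La L (x + y) = _; rw [La_add, zpow_add₀ hu0]⟩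
  obtain ⟨t, ht, hcX⟩ := exists_cX hp invC_F4 one_ne_zero hMC fun i => ⟨_, pow_one _⟩
  exact ⟨t, ht, hcX⟩

/-- the fixed elements -/
theorem fix_of [Finite W] (hk : LocFin k) {hN : NSys CoxeterMatrix.F₄ (TT chevF4 k) (nc hp k)} {w : W}
    {n : ↥(chevF4.group k)} (hn : Rp cs hN w n) {Th : Fin 4 → Fin 4 → ℤ}
    (hTh : ∀ j, rep cs hp.isCartan w (sr (rv j)) = Th j) (m : ℕ) {N : ℕ} {u : k} (hu : IsPrimitiveRoot u N)
    {L : Fin 4 → ℤ} (hL : ∀ j, (N : ℤ) ∣ ∑ i, rowM Th (2 ^ m) j i * L i) {t : ↥(chevF4.group k)}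
    (ht : t ∈ TT chevF4 k) (hct : ∀ x, cX hp t x = u ^ La L x) : n * ste k m t * n⁻¹ = t := by
  have hone : ∀ z : ℤ, u ^ z = 1 ↔ (N : ℤ) ∣ z := fun z => hu.zpow_eq_one_iff_dvd z
  rw [fix_iff cs hk hn hTh m ht]
  intro j
  have hrow : Th j = rowM Th (2 ^ m) j + ((eN j : ℤ) * 2 ^ m) • (sr j : Fin 4 → ℤ) := by
    rw [rowM_eq, sub_add_cancel]
  have h1 := isMC_cX hp ht
  conv_lhs => rw [hrow]
  rw [h1.add, h1.zsmul]
  have h2 : cX hp t (rowM Th (2 ^ m) j) = 1 := by rw [hct, hone]; exact hL j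
  rw [h2, one_mul, show ((eN j : ℤ) * 2 ^ m) = ((eN j * 2 ^ m : ℕ) : ℤ) by push_cast; ring, zpow_natCast]

/-- the conjugation of elements of the torus by representatives -/
theorem conj_of [Finite W] (hk : LocFin k) {hN : NSys CoxeterMatrix.F₄ (TT chevF4 k) (nc hp k)} {w : W}
    {n : ↥(chevF4.group k)} (hn : Rp cs hN w n) {V : Fin 4 → Fin 4 → ℤ}
    (hV : ∀ j, rep cs hp.isCartan w (sr j) = V j) {N : ℕ} {u : k} (hu : IsPrimitiveRoot u N) (hN0 : N ≠ 0)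
    {L : Fin 4 → ℤ} {e : ℕ} (hL : ∀ j, (N : ℤ) ∣ e * La L (V j) - L j) {t : ↥(chevF4.group k)}
    (ht : t ∈ TT chevF4 k) (hct : ∀ x, cX hp t x = u ^ La L x) : n * t * n⁻¹ = t ^ e := by
  have : Fact (Nat.Prime 2) := ⟨Nat.prime_two⟩
  have hu0 : u ≠ 0 := hu.ne_zero hN0
  have hone : ∀ z : ℤ, u ^ z = 1 ↔ (N : ℤ) ∣ z := fun z => hu.zpow_eq_one_iff_dvd z
  have hnt : n * t * n⁻¹ ∈ TT chevF4 k := (Subgroup.mem_normalizer_iff.1 hn.mem_normalizer _).1 ht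
  have hte := pow_mem ht e
  have h1 : ∀ x, cX hp (t ^ e) (rep cs hp.isCartan w x) = cX hp t x := by
    intro x
    refine ((isMC_cX hp hte).comp (rep cs hp.isCartan w).toAddMonoidHom).ext (isMC_cX hp ht) (fun i => ?_) x
    show cX hp (t ^ e) (rep cs hp.isCartan w (sr i)) = _
    rw [hV, cX_pow hp ht, hct, hct, La_sr, ← zpow_natCast, ← zpow_mul]
    have h2 := (hone _).2 (hL i)
    rw [zpow_sub₀ hu0, div_eq_one_iff_eq (zpow_ne_zero _ hu0)] at h2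
    rw [← h2, mul_comm]
  refine cX_inj hp hnt hte fun i => ?_
  have h8 : sr i = rep cs hp.isCartan w (rep cs hp.isCartan w⁻¹ (sr i)) := by
    rw [← Module.End.mul_apply, ← map_mul, mul_inv_cancel, map_one, Module.End.one_apply]
  rw [h8, h1, cX_rp hp cs hk 2 hn ht]

theorem exists_YD [Finite CoxeterMatrix.F₄.Group] (hk : LocFin k) {C : List (Fin 4 × WData.Mat 4)} {Am : WData.Mat 4}
    (hAm : ∀ i j, Am i j = cartanOf chevF4 4 i j) (hC : WData.ChainOK Am C) {Th : Fin 4 → Fin 4 → ℤ}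
    (hTh : ∀ j, WData.hd C (rv j) = Th j) {Cv : List (Fin 4 × WData.Mat 4)} (hCv : WData.ChainOK Am Cv)
    (hw : weq (C.map Prod.fst ++ (Cv.map Prod.fst).map rv) (Cv.map Prod.fst ++ C.map Prod.fst) = true)
    (m : ℕ) {Lx Ly : Fin 4 → ℤ} {N : ℕ} (hN2 : ¬ 2 ∣ N)
    (hLx : ∀ j, (N : ℤ) ∣ ∑ i, rowM Th (2 ^ m) j i * Lx i) (hLy : ∀ j, (N : ℤ) ∣ ∑ i, rowM Th (2 ^ m) j i * Ly i)
    {j : ℕ} (hvx : ∀ i, (N : ℤ) ∣ (1 : ℕ) * La Lx (WData.hd Cv i) - Lx i)
    (hvy : ∀ i, (N : ℤ) ∣ j * La Ly (WData.hd Cv i) - Ly i) :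
    ∃ n z s t v u, YD (k := k) m N Lx Ly j n z s t v u := by
  have : Fact (Nat.Prime 2) := ⟨Nat.prime_two⟩
  have cs := CoxeterMatrix.F₄.toCoxeterSystem
  have hN := nsys_of_locFin hp cs hk 2
  have hN0 : N ≠ 0 := by rintro rfl; exact hN2 (dvd_zero 2)
  have hNk : (N : k) ≠ 0 := by
    rw [Ne, CharP.cast_eq_zero_iff k 2]
    exact hN2
  have : NeZero (N : k) := ⟨hNk⟩
  have : NeZero N := ⟨hN0⟩
  have hn := rp_nw (k := k) cs (hN := hN) (C.map Prod.fst)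
  have hv := rp_nw (k := k) cs (hN := hN) (Cv.map Prod.fst)
  set n := nw k (C.map Prod.fst) with hndef
  set v := nw k (Cv.map Prod.fst) with hvdef
  obtain ⟨z, hz⟩ := Cfsg.Agent.H493.F4Lang.lang_ste m n
  obtain ⟨u, hu⟩ := HasEnoughRootsOfUnity.exists_primitiveRoot k N
  obtain ⟨s, hs, hcs⟩ := exists_cX_La hN0 hu Lx
  obtain ⟨t, ht, hct⟩ := exists_cX_La hN0 hu Ly
  have hTh' : ∀ j, rep cs hp.isCartan (cs.wordProd (C.map Prod.fst)) (sr (rv j)) = Th j := fun j => by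
    rw [H129.WData.chain_rep hp _ hAm hC, hTh]
  have hV : ∀ j, rep cs hp.isCartan (cs.wordProd (Cv.map Prod.fst)) (sr j) = WData.hd Cv j := fun j =>
    H129.WData.chain_rep hp _ hAm hCv j
  refine ⟨n, z, s, t, v, u, hz, hs, ht, hu, hcs, hct, fix_of cs hk hn hTh' m hu hLx hs hcs,
    fix_of cs hk hn hTh' m hu hLy ht hct, ?_, ?_, conj_of cs hk hv hV hu hN0 hvy ht hct⟩
  · rw [hvdef, ste_nw, ← hvdef]
    rw [mul_inv_eq_iff_eq_mul, hndef, hvdef, ← nw_append, ← nw_append]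
    exact nw_eq hw
  · rw [conj_of cs hk hv hV hu hN0 hvx hs hcs, pow_one]

end Alg

/-! ### the finite group -/

section Fin

/-- the descent -/
theorem YD.descent {K : Type u} [Field K] [Fintype K] [CharP K 2] {k : Type u} [Field k] [IsAlgClosed k] [CharP k 2]
    (f : K →+* k) (hk : LocFin k) {m : ℕ} (hK : Fintype.card K = 2 ^ (2 * m + 1)) [Finite CoxeterMatrix.F₄.Group]
    {Lx Ly : Fin 4 → ℤ} {N j : ℕ} {n z s t v : ↥(chevF4.group k)} {u : k} (X : YD m N Lx Ly j n z s t v u)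
    (hN0 : N ≠ 0) {bx by' : Fin 4 → ℤ}
    (hbx : ∀ a : ℤ, (N : ℤ) ∣ a * La Lx bx → (N : ℤ) ∣ a) (hbx0 : La Ly bx = 0)
    (hby : ∀ a : ℤ, (N : ℤ) ∣ a * La Ly by' → (N : ℤ) ∣ a) :
    ∃ x y c : ↥(twistedF4 K (2 ^ m)), orderOf x = N ∧ orderOf y = N ∧ Commute x y ∧
      Subgroup.zpowers x ⊓ Subgroup.zpowers y = ⊥ ∧ Commute c x ∧ c * y * c⁻¹ = y ^ j ∧
      ∀ (g : ↥(twistedF4 K (2 ^ m))) (i : ℕ), g * x * g⁻¹ = x ^ i → ∃ w : CoxeterMatrix.F₄.Group,
        ∀ a, (N : ℤ) ∣ i * La Lx (rep CoxeterMatrix.F₄.toCoxeterSystem hp.isCartan w a) - La Lx a := by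
  classical
  have hone : ∀ z : ℤ, u ^ z = 1 ↔ (N : ℤ) ∣ z := fun z => X.hu.zpow_eq_one_iff_dvd z
  have hu0 : u ≠ 0 := X.hu.ne_zero hN0
  let ι : ↥(twistedF4 K (2 ^ m)) →* ↥(chevF4.group K) := Subgroup.inclusion (twisted_le K m)
  let e0 : ↥(twistedF4 K (2 ^ m)) →* ↥(chevF4.group k) := (emb hD f).comp ι
  have he0 : Function.Injective e0 := fun x y hxy =>
    Subgroup.inclusion_injective _ (emb_injective hD f hxy)
  have hσz : ste k m z = z * n := by rw [X.hz]; group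
  have hdesc : ∀ r, n * ste k m r * n⁻¹ = r → ∃ x, e0 x = z * r * z⁻¹ := by
    intro r hr
    have hσa : ste k m (z * r * z⁻¹) = z * r * z⁻¹ := by
      rw [map_mul, map_mul, map_inv, hσz]
      calc z * n * ste k m r * (z * n)⁻¹ = z * (n * ste k m r * n⁻¹) * z⁻¹ := by group
        _ = z * r * z⁻¹ := by rw [hr]
    obtain ⟨g, hg, hgm⟩ := exists_fin f hK hσa
    exact ⟨⟨g, hgm⟩, hg⟩
  obtain ⟨x, hx⟩ := hdesc s X.fs
  obtain ⟨y, hy⟩ := hdesc t X.ft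
  obtain ⟨c, hc⟩ := hdesc v X.fv
  have hxi : ∀ i : ℤ, e0 (x ^ i) = z * s ^ i * z⁻¹ := fun i => by rw [map_zpow, hx, conj_zpow]
  have hyi : ∀ i : ℤ, e0 (y ^ i) = z * t ^ i * z⁻¹ := fun i => by rw [map_zpow, hy, conj_zpow]
  have hcan : ∀ {a b : ↥(chevF4.group k)}, z * a * z⁻¹ = z * b * z⁻¹ → a = b := fun h =>
    mul_left_cancel (mul_right_cancel h)
  have hpz : ∀ {r : ↥(chevF4.group k)} {L : Fin 4 → ℤ}, r ∈ TT chevF4 k → (∀ x, cX hp r x = u ^ La L x) → ∀ (i : ℤ) b,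
      cX hp (r ^ i) b = u ^ (i * La L b) := by
    intro r L hr hc i b
    obtain ⟨i, rfl | rfl⟩ := Int.eq_nat_or_neg i
    · rw [zpow_natCast, cX_pow hp hr, hc, ← zpow_natCast, ← zpow_mul, mul_comm]
    · have h1 := cX_mul hp (zpow_mem hr (-(i : ℤ))) (pow_mem hr i) b
      rw [← zpow_natCast, ← zpow_add, neg_add_cancel, zpow_zero, cX_one] at h1
      have h2 := eq_inv_of_mul_eq_one_left h1.symm
      rw [h2, zpow_natCast, cX_pow hp hr, hc, ← zpow_natCast, ← zpow_mul, ← zpow_neg]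
      congr 1
      ring
  have hsN : s ^ N = 1 := by
    refine cX_inj hp (pow_mem X.hs N) (one_mem _) fun i => ?_
    rw [cX_pow hp X.hs, cX_one, X.hcs, ← zpow_natCast, ← zpow_mul, hone]
    exact dvd_mul_left _ _
  have htN : t ^ N = 1 := by
    refine cX_inj hp (pow_mem X.ht N) (one_mem _) fun i => ?_
    rw [cX_pow hp X.ht, cX_one, X.hct, ← zpow_natCast, ← zpow_mul, hone]
    exact dvd_mul_left _ _
  have hxN : x ^ N = 1 := by
    apply he0
    rw [← zpow_natCast, hxi, zpow_natCast, hsN, map_one]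
    group
  have hyN : y ^ N = 1 := by
    apply he0
    rw [← zpow_natCast, hyi, zpow_natCast, htN, map_one]
    group
  refine ⟨x, y, c, ?_, ?_, ?_, ?_, ?_, ?_, ?_⟩
  · refine Nat.dvd_antisymm (orderOf_dvd_of_pow_eq_one hxN) ?_
    have h1 : e0 (x ^ (orderOf x : ℤ)) = 1 := by rw [zpow_natCast, pow_orderOf_eq_one, map_one]
    rw [hxi] at h1
    have h2 : s ^ (orderOf x : ℤ) = 1 := hcan (h1.trans (by group))
    have h3 := hpz X.hs X.hcs (orderOf x) bx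
    rw [h2, cX_one] at h3
    exact_mod_cast hbx _ ((hone _).1 h3.symm)
  · refine Nat.dvd_antisymm (orderOf_dvd_of_pow_eq_one hyN) ?_
    have h1 : e0 (y ^ (orderOf y : ℤ)) = 1 := by rw [zpow_natCast, pow_orderOf_eq_one, map_one]
    rw [hyi] at h1
    have h2 : t ^ (orderOf y : ℤ) = 1 := hcan (h1.trans (by group))
    have h3 := hpz X.ht X.hct (orderOf y) by'
    rw [h2, cX_one] at h3
    exact_mod_cast hby _ ((hone _).1 h3.symm)
  · apply he0
    rw [map_mul, map_mul, hx, hy]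
    have h1 : s * t = t * s := TT_comm hp (K := k) s X.hs t X.ht
    calc z * s * z⁻¹ * (z * t * z⁻¹) = z * (s * t) * z⁻¹ := by group
      _ = z * (t * s) * z⁻¹ := by rw [h1]
      _ = _ := by group
  · rw [eq_bot_iff]
    rintro g ⟨⟨i, hi⟩, ⟨i', hi'⟩⟩
    have hi : x ^ i = g := hi
    have hi' : y ^ i' = g := hi'
    have h1 : z * s ^ i * z⁻¹ = z * t ^ i' * z⁻¹ := by rw [← hxi, ← hyi, hi, hi']
    have h2 := hcan h1
    have h3 := hpz X.hs X.hcs i bx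
    rw [h2, hpz X.ht X.hct i' bx, hbx0, mul_zero, zpow_zero] at h3
    obtain ⟨a, ha⟩ := hbx _ ((hone _).1 h3.symm)
    rw [Subgroup.mem_bot, ← hi, ha, zpow_mul, zpow_natCast, hxN, one_zpow]
  · apply he0
    rw [map_mul, map_mul, hx, hc]
    have h1 : v * s = s * v := by
      conv_rhs => rw [← X.vs]
      group
    calc z * v * z⁻¹ * (z * s * z⁻¹) = z * (v * s) * z⁻¹ := by group
      _ = z * (s * v) * z⁻¹ := by rw [h1]
      _ = _ := by group
  · apply he0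
    rw [map_mul, map_mul, map_inv, hc, hy, ← zpow_natCast, hyi, zpow_natCast, ← X.vt]
    group
  · intro g i hg
    have h1 : e0 g * (z * s * z⁻¹) * (e0 g)⁻¹ = z * s ^ i * z⁻¹ := by
      rw [← hx, ← map_mul, ← map_inv, ← map_mul, hg, ← zpow_natCast, hxi, zpow_natCast]
    obtain ⟨w, hw'⟩ := exists_w CoxeterMatrix.F₄.toCoxeterSystem hk (t := s) (t' := s ^ i) (g := z⁻¹ * e0 g * z) X.hs
      (pow_mem X.hs i) (by
        calc z⁻¹ * e0 g * z * s * (z⁻¹ * e0 g * z)⁻¹ = z⁻¹ * (e0 g * (z * s * z⁻¹) * (e0 g)⁻¹) * z := by group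
          _ = s ^ i := by rw [h1]; group)
    refine ⟨w, fun a => ?_⟩
    have h2 := hw' a
    rw [← zpow_natCast, hpz X.hs X.hcs, X.hcs] at h2
    rw [← hone, zpow_sub₀ hu0, h2, div_self (zpow_ne_zero _ hu0)]


/-- **The elements of `²F₄(q)`.** -/
theorem exists_xyc {K : Type u} [Field K] [Fintype K] {m : ℕ} (hK : Fintype.card K = 2 ^ (2 * m + 1))
    {C : List (Fin 4 × WData.Mat 4)} {Am : WData.Mat 4}
    (hAm : ∀ i j, Am i j = cartanOf chevF4 4 i j) (hC : WData.ChainOK Am C) {Th : Fin 4 → Fin 4 → ℤ}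
    (hTh : ∀ j, WData.hd C (rv j) = Th j) {Cv : List (Fin 4 × WData.Mat 4)} (hCv : WData.ChainOK Am Cv)
    (hw : weq (C.map Prod.fst ++ (Cv.map Prod.fst).map rv) (Cv.map Prod.fst ++ C.map Prod.fst) = true)
    {Lx Ly : Fin 4 → ℤ} {N : ℕ} (hN2 : ¬ 2 ∣ N)
    (hLx : ∀ j, (N : ℤ) ∣ ∑ i, rowM Th (2 ^ m) j i * Lx i) (hLy : ∀ j, (N : ℤ) ∣ ∑ i, rowM Th (2 ^ m) j i * Ly i)
    {j : ℕ} (hvx : ∀ i, (N : ℤ) ∣ (1 : ℕ) * La Lx (WData.hd Cv i) - Lx i)
    (hvy : ∀ i, (N : ℤ) ∣ j * La Ly (WData.hd Cv i) - Ly i) {bx by' : Fin 4 → ℤ}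
    (hbx : ∀ a : ℤ, (N : ℤ) ∣ a * La Lx bx → (N : ℤ) ∣ a) (hbx0 : La Ly bx = 0)
    (hby : ∀ a : ℤ, (N : ℤ) ∣ a * La Ly by' → (N : ℤ) ∣ a) :
    ∃ x y c : ↥(twistedF4 K (2 ^ m)), orderOf x = N ∧ orderOf y = N ∧ Commute x y ∧
      Subgroup.zpowers x ⊓ Subgroup.zpowers y = ⊥ ∧ Commute c x ∧ c * y * c⁻¹ = y ^ j ∧
      ∀ (g : ↥(twistedF4 K (2 ^ m))) (i : ℕ), g * x * g⁻¹ = x ^ i → ∃ w : CoxeterMatrix.F₄.Group,
        ∀ a, (N : ℤ) ∣ i * La Lx (rep CoxeterMatrix.F₄.toCoxeterSystem hp.isCartan w a) - La Lx a := by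
  have hWf : Finite CoxeterMatrix.F₄.Group := Nat.finite_of_card_ne_zero (by rw [CycT.cardW_F4]; norm_num)
  have : Fact (Nat.Prime 2) := ⟨Nat.prime_two⟩
  have hc2 : CharP K 2 := F4Fixed.charP_two hK
  obtain ⟨p, e, hpF, hpc, hpk, he, hpe, hk⟩ := _root_.Cfsg.Agent.H129.TorusUntw.exists_closure hK
  have hp2 : p = 2 := CharP.eq K hpc hc2
  subst hp2
  have hN0 : N ≠ 0 := by rintro rfl; exact hN2 (dvd_zero 2)
  obtain ⟨n, z, s, t, v, u, X⟩ := exists_YD hk hAm hC hTh hCv hw m hN2 hLx hLy hvx hvy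
  exact X.descent (algebraMap K (AlgebraicClosure K)) hk hK hN0 hbx hbx0 hby

end Fin

end Cfsg.Agent.H97.KB.TwFTor
end

-- part: H97/KB/TwFFus
section
/-!
# Power sums over the roots of `F₄`

A functional `L` modulo `p` which is multiplied by `i` by an element of the Weyl group: `i ^ n = 1` if the sum of the
`n`-th powers of the values of `L` on the roots is not zero, `n` even (`pow_eq_one`).  The functionals of the tori of
`²F₄(q)`: `sum_lin`, `sum_six`, `sum_eight`, `sum_eight'`, `sum_twelve`.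
-/

set_option autoImplicit false
set_option linter.unusedSectionVars false

namespace Cfsg.Agent.H97.KB.TwFFus

open CoxeterSystem Cfsg Cfsg.Lie Cfsg.Lie.ChevalleyDatum
open Cfsg.Agent.ChevalleyStructure Cfsg.Agent.ChevalleyStructure.Elts Cfsg.Agent.ChevalleyStructure.CoxeterGeom
  Cfsg.Agent.ChevalleyStructure.CoxeterGeomTypes Cfsg.Agent.ChevalleyStructure.NPerm
open Cfsg.Agent.Tits.Roots Cfsg.Agent.Tits.Core Cfsg.Agent.Nodes Cfsg.Agent.Nodes.Reps Cfsg.Agent.Nodes.BNOf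
  Cfsg.Agent.Nodes.RGDChev Cfsg.Agent.Nodes.Bruhat Cfsg.Agent.Nodes.SubComb Cfsg.Agent.Nodes.Coroot
open Cfsg.Agent.H493.F4End Cfsg.Agent.H493.F4Tor Cfsg.Agent.H129 Cfsg.Agent.H129.SuzT

/-- the roots -/
def RR : Finset (Fin 4 → ℤ) := Finset.univ.image RT ∪ Finset.univ.image (fun s => - RT s)

theorem RT_root : ∀ s : Fin 24, ∃ r : Fin 48, ∀ i, vec chevF4 4 r i = RT s i := by
  decide +kernel

theorem RT_inj : ∀ s t : Fin 24, (∀ i, RT s i = RT t i) → s = t := by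
  decide +kernel

theorem RT_neg : ∀ s t : Fin 24, ¬ ∀ i, RT s i = - RT t i := by
  decide +kernel

theorem isRoot_RT (s : Fin 24) : IsRoot CoxeterMatrix.F₄.toCoxeterSystem hp.isCartan (RT s) := by
  obtain ⟨r, hr⟩ := RT_root s
  exact (isRoot_iff hp CoxeterMatrix.F₄.toCoxeterSystem (RT s)).2 ⟨r, r.2, funext hr⟩

theorem mem_RR {a : Fin 4 → ℤ} : a ∈ RR ↔ IsRoot CoxeterMatrix.F₄.toCoxeterSystem hp.isCartan a := by
  unfold RR
  rw [Finset.mem_union, Finset.mem_image, Finset.mem_image]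
  constructor
  · rintro (⟨s, -, rfl⟩ | ⟨s, -, rfl⟩)
    · exact isRoot_RT s
    · exact (isRoot_RT s).neg
  · intro ha
    obtain ⟨n, hn, rfl⟩ := (isRoot_iff hp CoxeterMatrix.F₄.toCoxeterSystem a).1 ha
    obtain ⟨s, hs | hs⟩ := RT_tab ⟨n, hn⟩
    · exact Or.inl ⟨s, Finset.mem_univ _, (funext hs).symm⟩
    · exact Or.inr ⟨s, Finset.mem_univ _, (funext hs).symm⟩

variable {R : Type*} [CommRing R]

theorem sum_RR {F : (Fin 4 → ℤ) → R} (hF : ∀ a, F (-a) = F a) : ∑ a ∈ RR, F a = 2 * ∑ s, F (RT s) := by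
  unfold RR
  rw [Finset.sum_union, Finset.sum_image, Finset.sum_image]
  · simp only [hF]
    ring
  · intro s _ t _ h
    exact RT_inj s t fun i => congrFun (neg_injective h) i
  · intro s _ t _ h
    exact RT_inj s t fun i => congrFun h i
  · rw [Finset.disjoint_left]
    intro a h1 h2
    obtain ⟨s, -, rfl⟩ := Finset.mem_image.1 h1
    obtain ⟨t, -, ht⟩ := Finset.mem_image.1 h2
    exact RT_neg s t fun i => (congrFun ht i).symm

theorem sum_act (w : CoxeterMatrix.F₄.Group) (F : (Fin 4 → ℤ) → R) :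
    ∑ a ∈ RR, F (rep CoxeterMatrix.F₄.toCoxeterSystem hp.isCartan w a) = ∑ a ∈ RR, F a := by
  refine Finset.sum_bij (fun a _ => rep CoxeterMatrix.F₄.toCoxeterSystem hp.isCartan w a) ?_ ?_ ?_ ?_
  · intro a ha
    rw [mem_RR] at ha ⊢
    exact ha.act w
  · intro a _ b _ h
    have h2 := congrArg (rep CoxeterMatrix.F₄.toCoxeterSystem hp.isCartan w⁻¹) h
    simpa only [← Module.End.mul_apply, ← map_mul, inv_mul_cancel, map_one, Module.End.one_apply] using h2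
  · intro b hb
    rw [mem_RR] at hb
    refine ⟨rep CoxeterMatrix.F₄.toCoxeterSystem hp.isCartan w⁻¹ b, mem_RR.2 (hb.act w⁻¹), ?_⟩
    rw [← Module.End.mul_apply, ← map_mul, mul_inv_cancel, map_one, Module.End.one_apply]
  · intro a _
    rfl

theorem La_neg (L x : Fin 4 → ℤ) : La L (-x) = - La L x := by
  unfold La
  rw [← Finset.sum_neg_distrib]
  exact Finset.sum_congr rfl fun i _ => by rw [Pi.neg_apply, neg_mul]

/-- **The exponents of the fusion.** -/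
theorem pow_eq_one {p N : ℕ} [Fact p.Prime] (hp2 : p ≠ 2) (hpN : p ∣ N) {L : Fin 4 → ℤ} {i : ℕ}
    {w : CoxeterMatrix.F₄.Group}
    (h : ∀ a, (N : ℤ) ∣ i * La L (rep CoxeterMatrix.F₄.toCoxeterSystem hp.isCartan w a) - La L a) {n : ℕ} (hn : Even n)
    (hs : ¬ (p : ℤ) ∣ ∑ s, La L (RT s) ^ n) : (i : ZMod p) ^ n = 1 := by
  have h1 : ∀ a, ((i : ZMod p) * (La L (rep CoxeterMatrix.F₄.toCoxeterSystem hp.isCartan w a) : ℤ)) = (La L a : ℤ) := by
    intro a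
    have h2 := (Int.natCast_dvd_natCast.2 hpN).trans (h a)
    rw [← ZMod.intCast_zmod_eq_zero_iff_dvd] at h2
    push_cast at h2
    exact sub_eq_zero.1 h2
  set F : (Fin 4 → ℤ) → ZMod p := fun a => ((La L a : ℤ) : ZMod p) ^ n with hF
  have h2 : ∑ a ∈ RR, F a = (i : ZMod p) ^ n * ∑ a ∈ RR, F a := by
    rw [← sum_act w F, Finset.mul_sum, sum_act w F]
    refine Finset.sum_congr rfl fun a _ => ?_
    show _ = (i : ZMod p) ^ n * ((La L (rep CoxeterMatrix.F₄.toCoxeterSystem hp.isCartan w a) : ℤ) : ZMod p) ^ n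
    rw [← mul_pow, h1]
  have h3 : ∑ a ∈ RR, F a ≠ 0 := by
    rw [sum_RR (fun a => by show ((La L (-a) : ℤ) : ZMod p) ^ n = _; rw [La_neg]; push_cast; exact hn.neg_pow _)]
    refine mul_ne_zero ?_ ?_
    · intro h4
      have h5 : p ∣ 2 := (ZMod.natCast_eq_zero_iff 2 p).1 (by exact_mod_cast h4)
      exact hp2 ((Nat.prime_dvd_prime_iff_eq Fact.out Nat.prime_two).1 h5)
    · intro h4
      apply hs
      rw [← ZMod.intCast_zmod_eq_zero_iff_dvd]
      push_cast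
      exact h4
  have h4 : ((i : ZMod p) ^ n - 1) * ∑ a ∈ RR, F a = 0 := by rw [sub_mul, one_mul, ← h2, sub_self]
  exact sub_eq_zero.1 ((mul_eq_zero.1 h4).resolve_right h3)

/-! ### the functionals -/

/-- the functional of the tori `q ∓ 1` -/
def L1 (u : ℤ) : Fin 4 → ℤ := ![2 * u, -u, -1, 2]

/-- the functional of the tori `q ± √2q + 1` -/
def L2 (u : ℤ) : Fin 4 → ℤ := ![1 - u, 0, 0, 2 * u - 1]

theorem sum_lin (u : ℤ) : ∑ s, La (L1 u) (RT s) ^ 2 = 36 + (2 * u ^ 2 - 1) * 18 := by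
  simp only [Fin.sum_univ_succ, La, L1, RT, _root_.Matrix.cons_val', _root_.Matrix.cons_val_fin_one, _root_.Int.reduceNeg, _root_.Fin.isValue, _root_.Matrix.cons_val_zero, _root_.Matrix.cons_val_succ, _root_.mul_neg, _root_.mul_one, _root_.Finset.univ_unique, _root_.Fin.default_eq_zero, _root_.Finset.sum_const, _root_.Finset.card_singleton, _root_.Int.nsmul_eq_mul, _root_.Nat.cast_one, _root_.one_mul, _root_.MulZeroClass.zero_mul, _root_.neg_zero, _root_.zero_add, _root_.Int.reducePow, _root_.add_zero, _root_.even_two, _root_.Even.neg_pow, _root_.one_pow, _root_.Int.reduceAdd, _root_.neg_add_cancel, _root_.add_neg_cancel_left, _root_.add_neg_cancel, _root_.ne_eq, _root_.OfNat.ofNat_ne_zero, _root_.not_false_eq_true, _root_.zero_pow, _root_.Int.reduceMul]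
  ring

theorem sum_six (u : ℤ) : ∑ s, La (L1 u) (RT s) ^ 6 = 126 + (2 * u ^ 2 + 1) * (-48 + 396 * u ^ 2 + 228 * u ^ 4) := by
  simp only [Fin.sum_univ_succ, La, L1, RT, _root_.Matrix.cons_val', _root_.Matrix.cons_val_fin_one, _root_.Int.reduceNeg, _root_.Fin.isValue, _root_.Matrix.cons_val_zero, _root_.Matrix.cons_val_succ, _root_.mul_neg, _root_.mul_one, _root_.Finset.univ_unique, _root_.Fin.default_eq_zero, _root_.Finset.sum_const, _root_.Finset.card_singleton, _root_.Int.nsmul_eq_mul, _root_.Nat.cast_one, _root_.one_mul, _root_.MulZeroClass.zero_mul, _root_.neg_zero, _root_.zero_add, _root_.Int.reducePow, _root_.add_zero, _root_.Int.reduceAdd, _root_.one_pow, _root_.neg_add_cancel, _root_.add_neg_cancel_left, _root_.add_neg_cancel, _root_.ne_eq, _root_.OfNat.ofNat_ne_zero, _root_.not_false_eq_true, _root_.zero_pow, _root_.Int.reduceMul]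
  ring

theorem sum_eight (u : ℤ) : 2 * ∑ s, La (L1 u) (RT s) ^ 8 =
    765 + (2 * u ^ 2 + 1) * (-225 + 1570 * u ^ 2 + 6380 * u ^ 4 + 1800 * u ^ 6) := by
  simp only [Fin.sum_univ_succ, La, L1, RT, _root_.Matrix.cons_val', _root_.Matrix.cons_val_fin_one, _root_.Int.reduceNeg, _root_.Fin.isValue, _root_.Matrix.cons_val_zero, _root_.Matrix.cons_val_succ, _root_.mul_neg, _root_.mul_one, _root_.Finset.univ_unique, _root_.Fin.default_eq_zero, _root_.Finset.sum_const, _root_.Finset.card_singleton, _root_.Int.nsmul_eq_mul, _root_.Nat.cast_one, _root_.one_mul, _root_.MulZeroClass.zero_mul, _root_.neg_zero, _root_.zero_add, _root_.Int.reducePow, _root_.add_zero, _root_.Int.reduceAdd, _root_.one_pow, _root_.neg_add_cancel, _root_.add_neg_cancel_left, _root_.add_neg_cancel, _root_.ne_eq, _root_.OfNat.ofNat_ne_zero, _root_.not_false_eq_true, _root_.zero_pow, _root_.Int.reduceMul]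
  ring

theorem sum_eight' (u : ℤ) : 2 * ∑ s, La (L2 u) (RT s) ^ 8 =
    85 + (2 * u ^ 2 - 2 * u + 1) * (455 - 3410 * u + 7950 * u ^ 2 - 10880 * u ^ 3 + 9940 * u ^ 4 - 5400 * u ^ 5 +
      1800 * u ^ 6) := by
  simp only [Fin.sum_univ_succ, La, L2, RT, _root_.Matrix.cons_val', _root_.Matrix.cons_val_fin_one, _root_.Fin.isValue, _root_.Matrix.cons_val_zero, _root_.Matrix.cons_val_succ, _root_.MulZeroClass.mul_zero, _root_.Finset.univ_unique, _root_.Fin.default_eq_zero, _root_.Finset.sum_const, _root_.Finset.card_singleton, _root_.Int.nsmul_eq_mul, _root_.Nat.cast_one, _root_.one_mul, _root_.zero_add, _root_.MulZeroClass.zero_mul, _root_.add_zero, _root_.ne_eq, _root_.OfNat.ofNat_ne_zero, _root_.not_false_eq_true, _root_.zero_pow, _root_.sub_add_sub_cancel']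
  ring

theorem sum_twelve (u : ℤ) : 8 * ∑ s, La (L2 u) (RT s) ^ 12 =
    -945 + (2 * u ^ 2 - 2 * u + 1) * (33825 - 326910 * u + 1453890 * u ^ 2 - 3724800 * u ^ 3 + 6195420 * u ^ 4 -
      7150920 * u ^ 5 + 5979960 * u ^ 6 - 3770880 * u ^ 7 + 1803120 * u ^ 8 - 573600 * u ^ 9 + 114720 * u ^ 10) := by
  simp only [Fin.sum_univ_succ, La, L2, RT, _root_.Matrix.cons_val', _root_.Matrix.cons_val_fin_one, _root_.Fin.isValue, _root_.Matrix.cons_val_zero, _root_.Matrix.cons_val_succ, _root_.MulZeroClass.mul_zero, _root_.Finset.univ_unique, _root_.Fin.default_eq_zero, _root_.Finset.sum_const, _root_.Finset.card_singleton, _root_.Int.nsmul_eq_mul, _root_.Nat.cast_one, _root_.one_mul, _root_.zero_add, _root_.MulZeroClass.zero_mul, _root_.add_zero, _root_.ne_eq, _root_.OfNat.ofNat_ne_zero, _root_.not_false_eq_true, _root_.zero_pow, _root_.sub_add_sub_cancel', _root_.Int.reduceNeg]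
  ring

/-! ### the bounds -/

theorem not_dvd_of {p : ℕ} {m S c r q : ℤ} (h : m * S = c + r * q) (hr : (p : ℤ) ∣ r) (hc : ¬ (p : ℤ) ∣ c) :
    ¬ (p : ℤ) ∣ S := by
  intro hS
  apply hc
  have h1 : c = m * S - r * q := by rw [h]; ring
  rw [h1]
  exact dvd_sub (hS.mul_left _) (hr.mul_right _)

/-- a prime `≥ 11` different from `17` dividing a product of powers of `2, 3, 5, 7, 17` -/
theorem aux {r a b c d e : ℕ} (hr : r.Prime) (h11 : 11 ≤ r) (h17 : r ≠ 17)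
    (h : r ∣ 2 ^ a * 3 ^ b * 5 ^ c * 7 ^ d * 17 ^ e) : False := by
  have key : ∀ s k : ℕ, s.Prime → r ≠ s → r ∣ s ^ k → False := fun s k hs hne h1 =>
    hne ((Nat.prime_dvd_prime_iff_eq hr hs).1 (hr.dvd_of_dvd_pow h1))
  rcases hr.dvd_mul.1 h with h | h
  · rcases hr.dvd_mul.1 h with h | h
    · rcases hr.dvd_mul.1 h with h | h
      · rcases hr.dvd_mul.1 h with h | h
        · exact key 2 a Nat.prime_two (by omega) h
        · exact key 3 b Nat.prime_three (by omega) h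
      · exact key 5 c Nat.prime_five (by omega) h
    · exact key 7 d (by norm_num) (by omega) h
  · exact key 17 e (by norm_num) h17 h

theorem aux' {r a b c d : ℕ} (hr : r.Prime) (h11 : 11 ≤ r)
    (h : r ∣ 2 ^ a * 3 ^ b * 5 ^ c * 7 ^ d) : False := by
  by_cases h17 : r = 17
  · subst h17
    have key : ∀ s k : ℕ, s.Prime → 17 ≠ s → 17 ∣ s ^ k → False := fun s k hs hne h1 =>
      hne ((Nat.prime_dvd_prime_iff_eq hr hs).1 (hr.dvd_of_dvd_pow h1))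
    rcases hr.dvd_mul.1 h with h | h
    · rcases hr.dvd_mul.1 h with h | h
      · rcases hr.dvd_mul.1 h with h | h
        · exact key 2 a Nat.prime_two (by omega) h
        · exact key 3 b Nat.prime_three (by omega) h
      · exact key 5 c Nat.prime_five (by omega) h
    · exact key 7 d (by norm_num) (by omega) h
  · exact aux hr h11 h17 (a := a) (b := b) (c := c) (d := d) (e := 0) (by rwa [pow_zero 17, mul_one])

section

variable {p N : ℕ} [Fact p.Prime] (h11 : 11 ≤ p) (hpN : p ∣ N) {u : ℤ} {i : ℕ} {w : CoxeterMatrix.F₄.Group}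

include h11 hpN

/-- `p ∣ q - 1` -/
theorem fus_one (hu : (p : ℤ) ∣ 2 * u ^ 2 - 1)
    (h : ∀ a, (N : ℤ) ∣ i * La (L1 u) (rep CoxeterMatrix.F₄.toCoxeterSystem hp.isCartan w a) - La (L1 u) a) :
    (i : ZMod p) ^ 2 = 1 := by
  have hp : p.Prime := Fact.out
  refine pow_eq_one (by omega) hpN h (by decide) ?_
  refine not_dvd_of (m := 1) (by rw [one_mul]; exact sum_lin u) hu ?_
  intro h1
  exact aux' hp h11 (a := 2) (b := 2) (c := 0) (d := 0) (Int.natCast_dvd_natCast.1 (by exact_mod_cast h1))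

/-- `p ∣ q + 1` -/
theorem fus_two (hu : (p : ℤ) ∣ 2 * u ^ 2 + 1)
    (h : ∀ a, (N : ℤ) ∣ i * La (L1 u) (rep CoxeterMatrix.F₄.toCoxeterSystem hp.isCartan w a) - La (L1 u) a) :
    (i : ZMod p) ^ 2 = 1 := by
  have hp : p.Prime := Fact.out
  have h6 : (i : ZMod p) ^ 6 = 1 := by
    refine pow_eq_one (by omega) hpN h (by decide) ?_
    refine not_dvd_of (m := 1) (by rw [one_mul]; exact sum_six u) hu ?_
    intro h1
    exact aux' hp h11 (a := 1) (b := 2) (c := 0) (d := 1) (Int.natCast_dvd_natCast.1 (by exact_mod_cast h1))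
  by_cases h17 : p = 17
  · subst h17
    have h0 : (i : ZMod 17) ≠ 0 := by
      intro h0
      rw [h0, zero_pow (by norm_num)] at h6
      exact zero_ne_one h6
    have h16 := ZMod.pow_card_sub_one_eq_one h0
    calc (i : ZMod 17) ^ 2 = (i : ZMod 17) ^ (17 - 1) * (i : ZMod 17) ^ 2 := by rw [h16, one_mul]
      _ = ((i : ZMod 17) ^ 6) ^ 3 := by ring
      _ = 1 := by rw [h6, one_pow]
  · have h8 : (i : ZMod p) ^ 8 = 1 := by
      refine pow_eq_one (by omega) hpN h (by decide) ?_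
      refine not_dvd_of (sum_eight u) hu ?_
      intro h1
      exact aux hp h11 h17 (a := 0) (b := 2) (c := 1) (d := 0) (e := 1) (Int.natCast_dvd_natCast.1 (by exact_mod_cast h1))
    calc (i : ZMod p) ^ 2 = (i : ZMod p) ^ 6 * (i : ZMod p) ^ 2 := by rw [h6, one_mul]
      _ = (i : ZMod p) ^ 8 := by ring
      _ = 1 := h8

/-- `p ∣ q ± √(2q) + 1` -/
theorem fus_three (hu : (p : ℤ) ∣ 2 * u ^ 2 - 2 * u + 1)
    (h : ∀ a, (N : ℤ) ∣ i * La (L2 u) (rep CoxeterMatrix.F₄.toCoxeterSystem hp.isCartan w a) - La (L2 u) a) :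
    (i : ZMod p) ^ 4 = 1 := by
  have hp : p.Prime := Fact.out
  have h12 : (i : ZMod p) ^ 12 = 1 := by
    refine pow_eq_one (by omega) hpN h (by decide) ?_
    refine not_dvd_of (sum_twelve u) hu ?_
    intro h1
    rw [dvd_neg] at h1
    exact aux' hp h11 (a := 0) (b := 3) (c := 1) (d := 1) (Int.natCast_dvd_natCast.1 (by exact_mod_cast h1))
  by_cases h17 : p = 17
  · subst h17
    have h0 : (i : ZMod 17) ≠ 0 := by
      intro h0
      rw [h0, zero_pow (by norm_num)] at h12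
      exact zero_ne_one h12
    have h16 := ZMod.pow_card_sub_one_eq_one h0
    calc (i : ZMod 17) ^ 4 = (i : ZMod 17) ^ 12 * (i : ZMod 17) ^ 4 := by rw [h12, one_mul]
      _ = (i : ZMod 17) ^ (17 - 1) := by ring
      _ = 1 := h16
  · have h8 : (i : ZMod p) ^ 8 = 1 := by
      refine pow_eq_one (by omega) hpN h (by decide) ?_
      refine not_dvd_of (sum_eight' u) hu ?_
      intro h1
      exact aux hp h11 h17 (a := 0) (b := 0) (c := 1) (d := 0) (e := 1) (Int.natCast_dvd_natCast.1 (by exact_mod_cast h1))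
    calc (i : ZMod p) ^ 4 = (i : ZMod p) ^ 8 * (i : ZMod p) ^ 4 := by rw [h8, one_mul]
      _ = (i : ZMod p) ^ 12 := by ring
      _ = 1 := h12

end

end Cfsg.Agent.H97.KB.TwFFus
end

-- part: H97/KB/TwFData
section
/-!
# Elements generating a Sylow subgroup of `²F₄(q)`, and elements normalizing it

`q = 2 u²`, `u = 2 ^ m`.  For `N ∣ q - 1`, `N ∣ q + 1` (`ex_one`, `ex_two`): elements `x`, `y` of order `N` and `c`
centralizing `x` and inverting `y`.  For `N ∣ 2 u² ± 2 u + 1` (`ex_three`, `ex_four`): `c y c⁻¹ = y ^ q`.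
-/

set_option autoImplicit false
set_option linter.unusedSectionVars false
set_option linter.unnecessarySeqFocus false
set_option linter.unreachableTactic false
set_option linter.unusedTactic false

namespace Cfsg.Agent.H97.KB.TwFData

open CoxeterSystem Cfsg Cfsg.Lie Cfsg.Lie.ChevalleyDatum
open Cfsg.Agent.ChevalleyStructure.CoxeterGeom Cfsg.Agent.ChevalleyStructure.CoxeterGeomTypes
open Cfsg.Agent.H129 Cfsg.Agent.H129.WData Cfsg.Agent.H129.SuzT Cfsg.Agent.H493.F4Tor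
open Cfsg.Agent.H97.KB.TwFTor Cfsg.Agent.H97.KB.TwFFus

universe u

/-- the Cartan matrix -/
def Am : Mat 4 := ![![2, -1, 0, 0], ![-1, 2, -2, 0], ![0, -1, 2, -1], ![0, 0, -1, 2]]

theorem hAm : ∀ i j, Am i j = cartanOf chevF4 4 i j := by decide +kernel

/-- the product of the reflections in two orthogonal long roots -/
def C2 : List (Fin 4 × Mat 4) := [(3, ![![1, 0, 0, 0], ![-2, -3, -2, -1], ![2, 4, 3, 2], ![0, 0, 0, -1]]),
  (1, ![![1, 0, 0, 0], ![-2, -3, -2, -1], ![2, 4, 3, 1], ![0, 0, 0, 1]]),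
  (2, ![![1, 1, 0, 0], ![-2, -3, -2, -1], ![2, 4, 3, 1], ![0, 0, 0, 1]]),
  (0, ![![1, 1, 1, 0], ![-2, -3, -2, -1], ![2, 4, 2, 1], ![0, 0, 1, 1]]),
  (1, ![![0, 1, 1, 0], ![-1, -3, -2, -1], ![2, 4, 2, 1], ![0, 0, 1, 1]]),
  (2, ![![0, 1, 1, 0], ![-1, -2, -2, -1], ![2, 2, 2, 1], ![0, 2, 1, 1]]),
  (3, ![![0, 1, 0, 0], ![-1, -2, -1, -1], ![2, 2, 1, 1], ![0, 2, 2, 1]]),
  (2, ![![0, 1, 0, 0], ![-1, -2, -1, 0], ![2, 2, 1, 0], ![0, 2, 2, 1]]),
  (1, ![![0, 1, 1, 0], ![-1, -2, -1, 0], ![2, 2, 1, 0], ![0, 2, 1, 1]]),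
  (2, ![![0, 1, 1, 0], ![-1, -1, -1, 0], ![2, 2, 1, 0], ![0, 0, 1, 1]]),
  (0, ![![0, 1, 0, 0], ![-1, -1, 0, 0], ![2, 2, 1, 0], ![0, 0, 0, 1]]),
  (1, ![![1, 1, 0, 0], ![0, -1, 0, 0], ![0, 2, 1, 0], ![0, 0, 0, 1]])]

/-- the product of the reflections in two orthogonal roots -/
def V1 : List (Fin 4 × Mat 4) := [(2, ![![1, 0, 0, 0], ![-1, -1, 0, 0], ![0, 0, -1, -1], ![0, 0, 0, 1]]),
  (1, ![![1, 0, 0, 0], ![-1, -1, -1, 0], ![0, 0, 0, -1], ![0, 0, 1, 1]]),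
  (2, ![![1, 1, 0, 0], ![-1, -2, -1, 0], ![0, 0, 0, -1], ![0, 2, 1, 1]]),
  (0, ![![1, 1, 1, 0], ![-1, -2, -1, 0], ![0, 0, -1, -1], ![0, 2, 2, 1]]),
  (1, ![![0, 1, 1, 0], ![-1, -2, -1, 0], ![0, 0, -1, -1], ![2, 2, 2, 1]]),
  (2, ![![0, 1, 1, 0], ![-1, -1, -1, 0], ![0, -2, -1, -1], ![2, 4, 2, 1]]),
  (3, ![![0, 1, 0, 0], ![-1, -1, 0, 0], ![0, -2, -2, -1], ![2, 4, 3, 1]]),
  (2, ![![0, 1, 0, 0], ![-1, -1, 0, 0], ![0, -2, -2, -1], ![2, 4, 3, 2]]),
  (1, ![![0, 1, 1, 0], ![-1, -1, -1, 0], ![0, -2, -1, -1], ![2, 4, 3, 2]]),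
  (2, ![![0, 1, 1, 0], ![-1, -2, -1, 0], ![0, 0, -1, -1], ![2, 4, 3, 2]]),
  (0, ![![0, 1, 0, 0], ![-1, -2, -1, 0], ![0, 0, 0, -1], ![2, 4, 3, 2]]),
  (1, ![![1, 1, 0, 0], ![-1, -2, -1, 0], ![0, 0, 0, -1], ![2, 4, 3, 2]]),
  (2, ![![1, 0, 0, 0], ![-1, -1, -1, 0], ![0, 0, 0, -1], ![2, 4, 3, 2]]),
  (3, ![![1, 0, 0, 0], ![-1, -1, 0, 0], ![0, 0, -1, -1], ![2, 4, 3, 2]]),
  (2, ![![1, 0, 0, 0], ![-1, -1, 0, 0], ![0, 0, -1, 0], ![2, 4, 3, 1]]),
  (1, ![![1, 0, 0, 0], ![-1, -1, -1, 0], ![0, 0, 1, 0], ![2, 4, 2, 1]]),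
  (2, ![![1, 1, 0, 0], ![-1, -2, -1, 0], ![0, 2, 1, 0], ![2, 2, 2, 1]]),
  (0, ![![1, 1, 1, 0], ![-1, -2, -1, 0], ![0, 2, 1, 0], ![2, 2, 1, 1]]),
  (1, ![![0, 1, 1, 0], ![-1, -2, -1, 0], ![2, 2, 1, 0], ![0, 2, 1, 1]]),
  (2, ![![0, 1, 1, 0], ![-1, -1, -1, 0], ![2, 2, 1, 0], ![0, 0, 1, 1]]),
  (0, ![![0, 1, 0, 0], ![-1, -1, 0, 0], ![2, 2, 1, 0], ![0, 0, 0, 1]]),
  (1, ![![1, 1, 0, 0], ![0, -1, 0, 0], ![0, 2, 1, 0], ![0, 0, 0, 1]])]

/-- the product of the reflections in two orthogonal long roots -/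
def C3 : List (Fin 4 × Mat 4) := [(2, ![![-1, -2, -1, 0], ![0, 1, 1, 0], ![0, 0, -1, 0], ![2, 2, 2, 1]]),
  (0, ![![-1, -2, -1, 0], ![0, 1, 0, 0], ![0, 0, 1, 0], ![2, 2, 1, 1]]),
  (1, ![![-1, -2, -1, 0], ![1, 1, 0, 0], ![0, 0, 1, 0], ![0, 2, 1, 1]]),
  (2, ![![-1, -1, -1, 0], ![1, 0, 0, 0], ![0, 2, 1, 0], ![0, 0, 1, 1]]),
  (1, ![![-1, -1, 0, 0], ![1, 0, 0, 0], ![0, 2, 1, 0], ![0, 0, 0, 1]]),
  (0, ![![-1, 0, 0, 0], ![1, 1, 0, 0], ![0, 0, 1, 0], ![0, 0, 0, 1]])]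

/-- the product of the reflections in two orthogonal long roots -/
def C4 : List (Fin 4 × Mat 4) := [(3, ![![1, 2, 1, 0], ![0, -1, -1, 0], ![0, 0, 1, 0], ![-2, -2, -2, -1]]),
  (2, ![![1, 2, 1, 1], ![0, -1, -1, -1], ![0, 0, 1, 1], ![-2, -2, -2, -1]]),
  (1, ![![1, 2, 2, 1], ![0, -1, -1, -1], ![0, 0, 0, 1], ![-2, -2, -1, -1]]),
  (2, ![![1, 3, 2, 1], ![0, -1, -1, -1], ![0, 0, 0, 1], ![-2, -2, -1, -1]]),
  (0, ![![1, 3, 2, 1], ![0, -1, -1, -1], ![0, 0, 1, 1], ![-2, -2, -2, -1]]),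
  (1, ![![2, 3, 2, 1], ![-1, -1, -1, -1], ![0, 0, 1, 1], ![0, -2, -2, -1]]),
  (2, ![![2, 3, 2, 1], ![-1, -2, -1, -1], ![0, 2, 1, 1], ![0, -2, -2, -1]]),
  (3, ![![2, 3, 2, 1], ![-1, -2, -2, -1], ![0, 2, 2, 1], ![0, -2, -1, -1]]),
  (2, ![![2, 3, 2, 1], ![-1, -2, -2, -1], ![0, 2, 2, 1], ![0, -2, -1, 0]]),
  (1, ![![2, 3, 2, 1], ![-1, -2, -1, -1], ![0, 2, 1, 1], ![0, -2, -1, 0]]),
  (2, ![![2, 3, 2, 1], ![-1, -1, -1, -1], ![0, 0, 1, 1], ![0, 0, -1, 0]]),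
  (0, ![![2, 3, 2, 1], ![-1, -1, -1, -1], ![0, 0, 0, 1], ![0, 0, 1, 0]]),
  (1, ![![1, 3, 2, 1], ![0, -1, -1, -1], ![0, 0, 0, 1], ![0, 0, 1, 0]]),
  (2, ![![1, 2, 2, 1], ![0, -1, -1, -1], ![0, 0, 0, 1], ![0, 2, 1, 0]]),
  (3, ![![1, 2, 1, 1], ![0, -1, -1, -1], ![0, 0, 1, 1], ![0, 2, 1, 0]]),
  (1, ![![1, 2, 1, 0], ![0, -1, -1, 0], ![0, 0, 1, 0], ![0, 2, 1, 1]]),
  (2, ![![1, 1, 1, 0], ![0, -1, -1, 0], ![0, 2, 1, 0], ![0, 0, 1, 1]]),
  (1, ![![1, 1, 0, 0], ![0, -1, 0, 0], ![0, 2, 1, 0], ![0, 0, 0, 1]])]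

/-- a product of two simple reflections -/
def V3 : List (Fin 4 × Mat 4) := [(1, ![![1, 1, 0, 0], ![0, 1, 1, 0], ![0, -2, -1, 0], ![0, 2, 1, 1]]),
  (2, ![![1, 0, 0, 0], ![0, 1, 1, 0], ![0, 0, -1, 0], ![0, 0, 1, 1]])]

theorem ok_C2 : ChainOK Am C2 :=
  H129.ChainF.ok H129.ChainF.i4 H129.ChainF.m4 (H129.ChainF.c4 <| H129.ChainF.c4 <| H129.ChainF.c4 <| H129.ChainF.c4 <| H129.ChainF.c4 <| H129.ChainF.c4 <| H129.ChainF.c4 <| H129.ChainF.c4 <| H129.ChainF.c4 <| H129.ChainF.c4 <| H129.ChainF.c4 <| H129.ChainF.c4 <| H129.ChainF.nil) (by decide +kernel)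

theorem ok_V1 : ChainOK Am V1 :=
  H129.ChainF.ok H129.ChainF.i4 H129.ChainF.m4 (H129.ChainF.c4 <| H129.ChainF.c4 <| H129.ChainF.c4 <| H129.ChainF.c4 <| H129.ChainF.c4 <| H129.ChainF.c4 <| H129.ChainF.c4 <| H129.ChainF.c4 <| H129.ChainF.c4 <| H129.ChainF.c4 <| H129.ChainF.c4 <| H129.ChainF.c4 <| H129.ChainF.c4 <| H129.ChainF.c4 <| H129.ChainF.c4 <| H129.ChainF.c4 <| H129.ChainF.c4 <| H129.ChainF.c4 <| H129.ChainF.c4 <| H129.ChainF.c4 <| H129.ChainF.c4 <| H129.ChainF.c4 <| H129.ChainF.nil) (by decide +kernel)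

theorem ok_C3 : ChainOK Am C3 :=
  H129.ChainF.ok H129.ChainF.i4 H129.ChainF.m4 (H129.ChainF.c4 <| H129.ChainF.c4 <| H129.ChainF.c4 <| H129.ChainF.c4 <| H129.ChainF.c4 <| H129.ChainF.c4 <| H129.ChainF.nil) (by decide +kernel)

theorem ok_C4 : ChainOK Am C4 :=
  H129.ChainF.ok H129.ChainF.i4 H129.ChainF.m4 (H129.ChainF.c4 <| H129.ChainF.c4 <| H129.ChainF.c4 <| H129.ChainF.c4 <| H129.ChainF.c4 <| H129.ChainF.c4 <| H129.ChainF.c4 <| H129.ChainF.c4 <| H129.ChainF.c4 <| H129.ChainF.c4 <| H129.ChainF.c4 <| H129.ChainF.c4 <| H129.ChainF.c4 <| H129.ChainF.c4 <| H129.ChainF.c4 <| H129.ChainF.c4 <| H129.ChainF.c4 <| H129.ChainF.c4 <| H129.ChainF.nil) (by decide +kernel)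

theorem ok_V3 : ChainOK Am V3 :=
  H129.ChainF.ok H129.ChainF.i4 H129.ChainF.m4 (H129.ChainF.c4 <| H129.ChainF.c4 <| H129.ChainF.nil) (by decide +kernel)

/-- the images of the simple roots -/
def T1 : Fin 4 → Fin 4 → ℤ := ![![0, 0, 0, 1], ![0, 0, 1, 0], ![0, 1, 0, 0], ![1, 0, 0, 0]]

/-- the images of the simple roots -/
def T2 : Fin 4 → Fin 4 → ℤ := ![![0, 0, 0, -1], ![2, 4, 3, 2], ![-2, -3, -2, -1], ![1, 0, 0, 0]]

/-- the images of the simple roots -/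
def T3 : Fin 4 → Fin 4 → ℤ := ![![2, 2, 2, 1], ![0, 0, -1, 0], ![0, 1, 1, 0], ![-1, -2, -1, 0]]

/-- the images of the simple roots -/
def T4 : Fin 4 → Fin 4 → ℤ := ![![-2, -2, -2, -1], ![0, 0, 1, 0], ![0, -1, -1, 0], ![1, 2, 1, 0]]

theorem hT1 : ∀ j, hd ([] : List (Fin 4 × Mat 4)) (rv j) = T1 j := by decide +kernel

theorem hT2 : ∀ j, hd C2 (rv j) = T2 j := by decide +kernel

theorem hT3 : ∀ j, hd C3 (rv j) = T3 j := by decide +kernel

theorem hT4 : ∀ j, hd C4 (rv j) = T4 j := by decide +kernel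

theorem weq1 : weq (([] : List (Fin 4 × Mat 4)).map Prod.fst ++ (V1.map Prod.fst).map rv)
    (V1.map Prod.fst ++ ([] : List (Fin 4 × Mat 4)).map Prod.fst) = true := by decide +kernel

theorem weq2 : weq (C2.map Prod.fst ++ (V1.map Prod.fst).map rv) (V1.map Prod.fst ++ C2.map Prod.fst) = true := by
  decide +kernel

theorem weq3 : weq (C3.map Prod.fst ++ (V3.map Prod.fst).map rv) (V3.map Prod.fst ++ C3.map Prod.fst) = true := by
  decide +kernel

theorem weq4 : weq (C4.map Prod.fst ++ (V3.map Prod.fst).map rv) (V3.map Prod.fst ++ C4.map Prod.fst) = true := by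
  decide +kernel

/-- the second functional of the tori `q ∓ 1` -/
def M1 (u : ℤ) : Fin 4 → ℤ := ![0, 1 - u, 2 * u - 1, 0]

/-- the second functional of the tori `q ± √2q + 1` -/
def M2 (u : ℤ) : Fin 4 → ℤ := ![-u, 2 * u - 1, 2 - 2 * u, -1]

theorem row_1_L1 (u : ℤ) (j : Fin 4) : (2 * u ^ 2 - 1) ∣ ∑ i, rowM T1 u j i * L1 u i := by
  fin_cases j
  · exact ⟨(-2), by simp only [rowM, T1, L1, eN, Fin.sum_univ_succ, _root_.Fin.zero_eta, _root_.Fin.isValue, _root_.Matrix.cons_val', _root_.Matrix.cons_val_fin_one, _root_.Matrix.cons_val_zero, _root_.Nat.cast_ofNat, _root_.Int.reduceNeg, ↓ _root_.reduceIte, _root_.zero_sub, _root_.neg_mul, _root_.Matrix.cons_val_succ, _root_.Fin.succ_zero_eq_one, _root_.zero_ne_one, _root_.sub_self, _root_.mul_neg, _root_.MulZeroClass.zero_mul, _root_.neg_zero, _root_.Fin.succ_one_eq_two, _root_.Fin.reduceEq, _root_.mul_one, _root_.Finset.univ_unique, _root_.Fin.default_eq_zero,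 _root_.Finset.sum_singleton, _root_.Fin.reduceSucc, _root_.sub_zero, _root_.one_mul, _root_.zero_add]; try ring⟩
  · exact ⟨(1), by simp only [rowM, T1, L1, eN, Fin.sum_univ_succ, _root_.Fin.mk_one, _root_.Fin.isValue, _root_.Matrix.cons_val', _root_.Matrix.cons_val_fin_one, _root_.Matrix.cons_val_one, _root_.Matrix.cons_val_zero, _root_.Nat.cast_ofNat, _root_.Int.reduceNeg, _root_.one_ne_zero, ↓ _root_.reduceIte, _root_.sub_self, _root_.MulZeroClass.zero_mul, _root_.Matrix.cons_val_succ, _root_.Fin.succ_zero_eq_one, _root_.zero_sub, _root_.mul_neg, _root_.neg_mul, _root_.neg_neg, _root_.Fin.succ_one_eq_two, _root_.Fin.reduceEq, _root_.sub_zero, _root_.mul_one, _root_.Finset.univ_unique, _root_.Fin.default_eq_zero, _root_.ite_mul, _root_.Finset.sum_neg_distrib, _root_.Finset.sum_singleton, _root_.Fin.reduceSucc, _root_.neg_zero, _root_.add_zero, _root_.zero_add]; try ring⟩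
  · exact ⟨0, by simp only [rowM, T1, L1, eN, Fin.sum_univ_succ, _root_.Fin.reduceFinMk, _root_.Matrix.cons_val', _root_.Matrix.cons_val_fin_one, _root_.Fin.isValue, _root_.Matrix.cons_val, _root_.Matrix.cons_val_one, _root_.Matrix.cons_val_zero, _root_.Nat.cast_one, _root_.one_mul, _root_.Int.reduceNeg, _root_.Fin.reduceEq, ↓ _root_.reduceIte, _root_.sub_self, _root_.MulZeroClass.zero_mul, _root_.Matrix.cons_val_succ, _root_.Fin.succ_zero_eq_one, _root_.sub_zero, _root_.mul_neg, _root_.Fin.succ_one_eq_two, _root_.zero_sub, _root_.mul_one, _root_.neg_neg, _root_.Finset.univ_unique, _root_.Fin.default_eq_zero, _root_.neg_mul, _root_.ite_mul, _root_.Finset.sum_neg_distrib, _root_.Finset.sum_singleton, _root_.Fin.reduceSucc, _root_.neg_zero, _root_.add_zero, _root_.neg_add_cancel, _root_.MulZeroClass.mul_zero]; try ring⟩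
  · exact ⟨0, by simp only [rowM, T1, L1, eN, Fin.sum_univ_succ, _root_.Fin.reduceFinMk, _root_.Matrix.cons_val', _root_.Matrix.cons_val_fin_one, _root_.Fin.isValue, _root_.Matrix.cons_val, _root_.Matrix.cons_val_one, _root_.Nat.cast_one, _root_.one_mul, _root_.Int.reduceNeg, _root_.Matrix.cons_val_zero, _root_.Fin.reduceEq, ↓ _root_.reduceIte, _root_.sub_zero, _root_.Matrix.cons_val_succ, _root_.Fin.succ_zero_eq_one, _root_.sub_self, _root_.mul_neg, _root_.MulZeroClass.zero_mul, _root_.neg_zero, _root_.Fin.succ_one_eq_two, _root_.mul_one, _root_.Finset.univ_unique, _root_.Fin.default_eq_zero, _root_.zero_sub, _root_.neg_mul, _root_.ite_mul, _root_.Finset.sum_neg_distrib, _root_.Finset.sum_singleton, _root_.Fin.reduceSucc, _root_.zero_add, _root_.MulZeroClass.mul_zero]; try ring⟩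

theorem row_1_M1 (u : ℤ) (j : Fin 4) : (2 * u ^ 2 - 1) ∣ ∑ i, rowM T1 u j i * M1 u i := by
  fin_cases j
  · exact ⟨0, by simp only [rowM, T1, M1, eN, Fin.sum_univ_succ, _root_.Fin.zero_eta, _root_.Fin.isValue, _root_.Matrix.cons_val', _root_.Matrix.cons_val_fin_one, _root_.Matrix.cons_val_zero, _root_.Nat.cast_ofNat, ↓ _root_.reduceIte, _root_.zero_sub, _root_.MulZeroClass.mul_zero, _root_.Matrix.cons_val_succ, _root_.Fin.succ_zero_eq_one, _root_.zero_ne_one, _root_.sub_self, _root_.MulZeroClass.zero_mul, _root_.Fin.succ_one_eq_two, _root_.Fin.reduceEq, _root_.Finset.univ_unique, _root_.Fin.default_eq_zero, _root_.Finset.sum_const_zero, _root_.add_zero]; try ring⟩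
  · exact ⟨(1), by simp only [rowM, T1, M1, eN, Fin.sum_univ_succ, _root_.Fin.mk_one, _root_.Fin.isValue, _root_.Matrix.cons_val', _root_.Matrix.cons_val_fin_one, _root_.Matrix.cons_val_one, _root_.Matrix.cons_val_zero, _root_.Nat.cast_ofNat, _root_.one_ne_zero, ↓ _root_.reduceIte, _root_.sub_self, _root_.MulZeroClass.mul_zero, _root_.Matrix.cons_val_succ, _root_.Fin.succ_zero_eq_one, _root_.zero_sub, _root_.neg_mul, _root_.Fin.succ_one_eq_two, _root_.Fin.reduceEq, _root_.sub_zero, _root_.one_mul, _root_.Finset.univ_unique, _root_.Fin.default_eq_zero, _root_.Finset.sum_const_zero, _root_.add_zero, _root_.zero_add, _root_.mul_one]; try ring⟩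
  · exact ⟨(-1), by simp only [rowM, T1, M1, eN, Fin.sum_univ_succ, _root_.Fin.reduceFinMk, _root_.Matrix.cons_val', _root_.Matrix.cons_val_fin_one, _root_.Fin.isValue, _root_.Matrix.cons_val, _root_.Matrix.cons_val_one, _root_.Matrix.cons_val_zero, _root_.Nat.cast_one, _root_.one_mul, _root_.Fin.reduceEq, ↓ _root_.reduceIte, _root_.sub_self, _root_.MulZeroClass.mul_zero, _root_.Matrix.cons_val_succ, _root_.Fin.succ_zero_eq_one, _root_.sub_zero, _root_.Fin.succ_one_eq_two, _root_.zero_sub, _root_.neg_mul, _root_.Finset.univ_unique, _root_.Fin.default_eq_zero, _root_.Finset.sum_const_zero, _root_.add_zero, _root_.zero_add, _root_.Int.reduceNeg, _root_.mul_neg, _root_.mul_one, _root_.neg_sub]; try ring⟩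
  · exact ⟨0, by simp [rowM, T1, M1, eN, Fin.sum_univ_succ]; try ring⟩

theorem row_2_L1 (u : ℤ) (j : Fin 4) : (2 * u ^ 2 + 1) ∣ ∑ i, rowM T2 u j i * L1 u i := by
  fin_cases j
  · exact ⟨(-2), by simp only [rowM, T2, L1, eN, Fin.sum_univ_succ, _root_.Int.reduceNeg, _root_.Fin.zero_eta, _root_.Fin.isValue, _root_.Matrix.cons_val', _root_.Matrix.cons_val_fin_one, _root_.Matrix.cons_val_zero, _root_.Nat.cast_ofNat, ↓ _root_.reduceIte, _root_.zero_sub, _root_.neg_mul, _root_.Matrix.cons_val_succ, _root_.Fin.succ_zero_eq_one, _root_.zero_ne_one, _root_.sub_self, _root_.mul_neg, _root_.MulZeroClass.zero_mul, _root_.neg_zero, _root_.Fin.succ_one_eq_two, _root_.Fin.reduceEq, _root_.mul_one, _root_.Finset.univ_unique, _root_.Fin.default_eq_zero, _root_.Finset.sum_singleton, _root_.Fin.reduceSucc, _root_.sub_zero, _root_.one_mul, _root_.zero_add]; try ring⟩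
  · exact ⟨(1), by simp only [rowM, T2, L1, eN, Fin.sum_univ_succ, _root_.Int.reduceNeg, _root_.Fin.mk_one, _root_.Fin.isValue, _root_.Matrix.cons_val', _root_.Matrix.cons_val_fin_one, _root_.Matrix.cons_val_one, _root_.Matrix.cons_val_zero, _root_.Nat.cast_ofNat, _root_.one_ne_zero, ↓ _root_.reduceIte, _root_.sub_zero, _root_.Matrix.cons_val_succ, _root_.Fin.succ_zero_eq_one, _root_.mul_neg, _root_.Fin.succ_one_eq_two, _root_.Fin.reduceEq, _root_.mul_one, _root_.Finset.univ_unique, _root_.Fin.default_eq_zero, _root_.Finset.sum_singleton, _root_.Fin.reduceSucc, _root_.Int.reduceMul, _root_.Int.reduceAdd]; try ring⟩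
  · exact ⟨0, by simp only [rowM, T2, L1, eN, Fin.sum_univ_succ, _root_.Int.reduceNeg, _root_.Fin.reduceFinMk, _root_.Matrix.cons_val', _root_.Matrix.cons_val_fin_one, _root_.Fin.isValue, _root_.Matrix.cons_val, _root_.Matrix.cons_val_one, _root_.Matrix.cons_val_zero, _root_.Nat.cast_one, _root_.one_mul, _root_.Fin.reduceEq, ↓ _root_.reduceIte, _root_.sub_zero, _root_.neg_mul, _root_.Matrix.cons_val_succ, _root_.Fin.succ_zero_eq_one, _root_.mul_neg, _root_.neg_neg, _root_.Fin.succ_one_eq_two, _root_.mul_one, _root_.neg_sub, _root_.sub_neg_eq_add, _root_.Finset.univ_unique, _root_.Fin.default_eq_zero, _root_.Finset.sum_singleton, _root_.Fin.reduceSucc, _root_.add_neg_cancel_right, _root_.MulZeroClass.mul_zero]; try ring⟩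
  · exact ⟨0, by simp only [rowM, T2, L1, eN, Fin.sum_univ_succ, _root_.Int.reduceNeg, _root_.Fin.reduceFinMk, _root_.Matrix.cons_val', _root_.Matrix.cons_val_fin_one, _root_.Fin.isValue, _root_.Matrix.cons_val, _root_.Matrix.cons_val_one, _root_.Nat.cast_one, _root_.one_mul, _root_.Matrix.cons_val_zero, _root_.Fin.reduceEq, ↓ _root_.reduceIte, _root_.sub_zero, _root_.Matrix.cons_val_succ, _root_.Fin.succ_zero_eq_one, _root_.sub_self, _root_.mul_neg, _root_.MulZeroClass.zero_mul, _root_.neg_zero, _root_.Fin.succ_one_eq_two, _root_.mul_one, _root_.Finset.univ_unique, _root_.Fin.default_eq_zero, _root_.zero_sub, _root_.neg_mul, _root_.ite_mul, _root_.Finset.sum_neg_distrib, _root_.Finset.sum_singleton, _root_.Fin.reduceSucc, _root_.zero_add, _root_.MulZeroClass.mul_zero]; try ring⟩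

theorem row_2_M1 (u : ℤ) (j : Fin 4) : (2 * u ^ 2 + 1) ∣ ∑ i, rowM T2 u j i * M1 u i := by
  fin_cases j
  · exact ⟨0, by simp only [rowM, T2, M1, eN, Fin.sum_univ_succ, _root_.Int.reduceNeg, _root_.Fin.zero_eta, _root_.Fin.isValue, _root_.Matrix.cons_val', _root_.Matrix.cons_val_fin_one, _root_.Matrix.cons_val_zero, _root_.Nat.cast_ofNat, ↓ _root_.reduceIte, _root_.zero_sub, _root_.MulZeroClass.mul_zero, _root_.Matrix.cons_val_succ, _root_.Fin.succ_zero_eq_one, _root_.zero_ne_one, _root_.sub_self, _root_.MulZeroClass.zero_mul, _root_.Fin.succ_one_eq_two, _root_.Fin.reduceEq, _root_.Finset.univ_unique, _root_.Fin.default_eq_zero, _root_.Finset.sum_const_zero, _root_.add_zero]; try ring⟩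
  · exact ⟨(1), by simp only [rowM, T2, M1, eN, Fin.sum_univ_succ, _root_.Int.reduceNeg, _root_.Fin.mk_one, _root_.Fin.isValue, _root_.Matrix.cons_val', _root_.Matrix.cons_val_fin_one, _root_.Matrix.cons_val_one, _root_.Matrix.cons_val_zero, _root_.Nat.cast_ofNat, _root_.one_ne_zero, ↓ _root_.reduceIte, _root_.sub_zero, _root_.MulZeroClass.mul_zero, _root_.Matrix.cons_val_succ, _root_.Fin.succ_zero_eq_one, _root_.Fin.succ_one_eq_two, _root_.Fin.reduceEq, _root_.Finset.univ_unique, _root_.Fin.default_eq_zero, _root_.Finset.sum_const_zero, _root_.add_zero, _root_.zero_add, _root_.mul_one]; try ring⟩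
  · exact ⟨(-1), by simp only [rowM, T2, M1, eN, Fin.sum_univ_succ, _root_.Int.reduceNeg, _root_.Fin.reduceFinMk, _root_.Matrix.cons_val', _root_.Matrix.cons_val_fin_one, _root_.Fin.isValue, _root_.Matrix.cons_val, _root_.Matrix.cons_val_one, _root_.Matrix.cons_val_zero, _root_.Nat.cast_one, _root_.one_mul, _root_.Fin.reduceEq, ↓ _root_.reduceIte, _root_.sub_zero, _root_.MulZeroClass.mul_zero, _root_.Matrix.cons_val_succ, _root_.Fin.succ_zero_eq_one, _root_.neg_mul, _root_.Fin.succ_one_eq_two, _root_.Finset.univ_unique, _root_.Fin.default_eq_zero, _root_.Finset.sum_const_zero, _root_.add_zero, _root_.zero_add, _root_.mul_neg, _root_.mul_one, _root_.neg_add_rev]; try ring⟩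
  · exact ⟨0, by simp only [rowM, T2, M1, eN, Fin.sum_univ_succ, _root_.Int.reduceNeg, _root_.Fin.reduceFinMk, _root_.Matrix.cons_val', _root_.Matrix.cons_val_fin_one, _root_.Fin.isValue, _root_.Matrix.cons_val, _root_.Matrix.cons_val_one, _root_.Nat.cast_one, _root_.one_mul, _root_.Matrix.cons_val_zero, _root_.Fin.reduceEq, ↓ _root_.reduceIte, _root_.sub_zero, _root_.MulZeroClass.mul_zero, _root_.Matrix.cons_val_succ, _root_.Fin.succ_zero_eq_one, _root_.sub_self, _root_.MulZeroClass.zero_mul, _root_.Fin.succ_one_eq_two, _root_.Finset.univ_unique, _root_.Fin.default_eq_zero, _root_.zero_sub, _root_.Finset.sum_const_zero, _root_.add_zero]; try ring⟩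

theorem row_3_L2 (u : ℤ) (j : Fin 4) : (2 * u ^ 2 - 2 * u + 1) ∣ ∑ i, rowM T3 u j i * L2 u i := by
  fin_cases j
  · exact ⟨(1), by simp only [rowM, T3, L2, eN, Fin.sum_univ_succ, _root_.Int.reduceNeg, _root_.Fin.zero_eta, _root_.Fin.isValue, _root_.Matrix.cons_val', _root_.Matrix.cons_val_fin_one, _root_.Matrix.cons_val_zero, _root_.Nat.cast_ofNat, ↓ _root_.reduceIte, _root_.Matrix.cons_val_succ, _root_.Fin.succ_zero_eq_one, _root_.zero_ne_one, _root_.sub_zero, _root_.MulZeroClass.mul_zero, _root_.Fin.succ_one_eq_two, _root_.Fin.reduceEq, _root_.Finset.univ_unique, _root_.Fin.default_eq_zero, _root_.Finset.sum_singleton, _root_.Fin.reduceSucc, _root_.one_mul, _root_.zero_add, _root_.mul_one]; try ring⟩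
  · exact ⟨0, by simp only [rowM, T3, L2, eN, Fin.sum_univ_succ, _root_.Int.reduceNeg, _root_.Fin.mk_one, _root_.Fin.isValue, _root_.Matrix.cons_val', _root_.Matrix.cons_val_fin_one, _root_.Matrix.cons_val_one, _root_.Matrix.cons_val_zero, _root_.Nat.cast_ofNat, _root_.one_ne_zero, ↓ _root_.reduceIte, _root_.sub_self, _root_.MulZeroClass.zero_mul, _root_.Matrix.cons_val_succ, _root_.Fin.succ_zero_eq_one, _root_.zero_sub, _root_.MulZeroClass.mul_zero, _root_.Fin.succ_one_eq_two, _root_.Fin.reduceEq, _root_.sub_zero, _root_.Finset.univ_unique, _root_.Fin.default_eq_zero, _root_.neg_mul, _root_.ite_mul, _root_.Finset.sum_neg_distrib, _root_.Finset.sum_singleton, _root_.Fin.reduceSucc, _root_.neg_zero, _root_.add_zero]; try ring⟩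
  · exact ⟨0, by simp only [rowM, T3, L2, eN, Fin.sum_univ_succ, _root_.Int.reduceNeg, _root_.Fin.reduceFinMk, _root_.Matrix.cons_val', _root_.Matrix.cons_val_fin_one, _root_.Fin.isValue, _root_.Matrix.cons_val, _root_.Matrix.cons_val_one, _root_.Matrix.cons_val_zero, _root_.Nat.cast_one, _root_.one_mul, _root_.Fin.reduceEq, ↓ _root_.reduceIte, _root_.sub_self, _root_.MulZeroClass.zero_mul, _root_.Matrix.cons_val_succ, _root_.Fin.succ_zero_eq_one, _root_.sub_zero, _root_.MulZeroClass.mul_zero, _root_.Fin.succ_one_eq_two, _root_.Finset.univ_unique, _root_.Fin.default_eq_zero, _root_.zero_sub, _root_.neg_mul, _root_.ite_mul, _root_.Finset.sum_neg_distrib, _root_.Finset.sum_singleton, _root_.Fin.reduceSucc, _root_.neg_zero, _root_.add_zero]; try ring⟩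
  · exact ⟨(-1), by simp only [rowM, T3, L2, eN, Fin.sum_univ_succ, _root_.Int.reduceNeg, _root_.Fin.reduceFinMk, _root_.Matrix.cons_val', _root_.Matrix.cons_val_fin_one, _root_.Fin.isValue, _root_.Matrix.cons_val, _root_.Matrix.cons_val_one, _root_.Nat.cast_one, _root_.one_mul, _root_.Matrix.cons_val_zero, _root_.Fin.reduceEq, ↓ _root_.reduceIte, _root_.sub_zero, _root_.neg_mul, _root_.neg_sub, _root_.Matrix.cons_val_succ, _root_.Fin.succ_zero_eq_one, _root_.MulZeroClass.mul_zero, _root_.Fin.succ_one_eq_two, _root_.Finset.univ_unique, _root_.Fin.default_eq_zero, _root_.zero_sub, _root_.ite_mul, _root_.MulZeroClass.zero_mul, _root_.Finset.sum_neg_distrib, _root_.Finset.sum_singleton, _root_.Fin.reduceSucc, _root_.zero_add, _root_.mul_neg, _root_.mul_one, _root_.neg_add_rev]; try ring⟩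

theorem row_3_M2 (u : ℤ) (j : Fin 4) : (2 * u ^ 2 - 2 * u + 1) ∣ ∑ i, rowM T3 u j i * M2 u i := by
  fin_cases j
  · exact ⟨(1), by simp only [rowM, T3, M2, eN, Fin.sum_univ_succ, _root_.Int.reduceNeg, _root_.Fin.zero_eta, _root_.Fin.isValue, _root_.Matrix.cons_val', _root_.Matrix.cons_val_fin_one, _root_.Matrix.cons_val_zero, _root_.Nat.cast_ofNat, ↓ _root_.reduceIte, _root_.mul_neg, _root_.Matrix.cons_val_succ, _root_.Fin.succ_zero_eq_one, _root_.zero_ne_one, _root_.sub_zero, _root_.Fin.succ_one_eq_two, _root_.Fin.reduceEq, _root_.Finset.univ_unique, _root_.Fin.default_eq_zero, _root_.mul_one, _root_.neg_sub, _root_.Finset.sum_sub_distrib, _root_.Finset.sum_singleton, _root_.Fin.reduceSucc, _root_.Finset.sum_const, _root_.Finset.card_singleton, _root_.Int.nsmul_eq_mul, _root_.Nat.cast_one, _root_.zero_sub]; try ring⟩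
  · exact ⟨(-2), by simp only [rowM, T3, M2, eN, Fin.sum_univ_succ, _root_.Int.reduceNeg, _root_.Fin.mk_one, _root_.Fin.isValue, _root_.Matrix.cons_val', _root_.Matrix.cons_val_fin_one, _root_.Matrix.cons_val_one, _root_.Matrix.cons_val_zero, _root_.Nat.cast_ofNat, _root_.one_ne_zero, ↓ _root_.reduceIte, _root_.sub_self, _root_.mul_neg, _root_.MulZeroClass.zero_mul, _root_.neg_zero, _root_.Matrix.cons_val_succ, _root_.Fin.succ_zero_eq_one, _root_.zero_sub, _root_.neg_mul, _root_.Fin.succ_one_eq_two, _root_.Fin.reduceEq, _root_.sub_zero, _root_.one_mul, _root_.neg_sub, _root_.Finset.univ_unique, _root_.Fin.default_eq_zero, _root_.mul_one, _root_.neg_neg, _root_.Finset.sum_singleton, _root_.Fin.reduceSucc, _root_.add_zero, _root_.zero_add]; try ring⟩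
  · exact ⟨(1), by simp only [rowM, T3, M2, eN, Fin.sum_univ_succ, _root_.Int.reduceNeg, _root_.Fin.reduceFinMk, _root_.Matrix.cons_val', _root_.Matrix.cons_val_fin_one, _root_.Fin.isValue, _root_.Matrix.cons_val, _root_.Matrix.cons_val_one, _root_.Matrix.cons_val_zero, _root_.Nat.cast_one, _root_.one_mul, _root_.Fin.reduceEq, ↓ _root_.reduceIte, _root_.sub_self, _root_.mul_neg, _root_.MulZeroClass.zero_mul, _root_.neg_zero, _root_.Matrix.cons_val_succ, _root_.Fin.succ_zero_eq_one, _root_.sub_zero, _root_.Fin.succ_one_eq_two, _root_.Finset.univ_unique, _root_.Fin.default_eq_zero, _root_.zero_sub, _root_.mul_one, _root_.neg_neg, _root_.Finset.sum_singleton, _root_.Fin.reduceSucc, _root_.add_zero, _root_.zero_add]; try ring⟩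
  · exact ⟨0, by simp only [rowM, T3, M2, eN, Fin.sum_univ_succ, _root_.Int.reduceNeg, _root_.Fin.reduceFinMk, _root_.Matrix.cons_val', _root_.Matrix.cons_val_fin_one, _root_.Fin.isValue, _root_.Matrix.cons_val, _root_.Matrix.cons_val_one, _root_.Nat.cast_one, _root_.one_mul, _root_.Matrix.cons_val_zero, _root_.Fin.reduceEq, ↓ _root_.reduceIte, _root_.sub_zero, _root_.mul_neg, _root_.neg_mul, _root_.neg_neg, _root_.Matrix.cons_val_succ, _root_.Fin.succ_zero_eq_one, _root_.Fin.succ_one_eq_two, _root_.neg_sub, _root_.Finset.univ_unique, _root_.Fin.default_eq_zero, _root_.zero_sub, _root_.mul_one, _root_.Finset.sum_singleton, _root_.Fin.reduceSucc, _root_.MulZeroClass.mul_zero]; try ring⟩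

theorem row_4_L2 (u : ℤ) (j : Fin 4) : (2 * u ^ 2 + 2 * u + 1) ∣ ∑ i, rowM T4 u j i * L2 (-u) i := by
  fin_cases j
  · exact ⟨(-1), by simp only [rowM, T4, L2, eN, Fin.sum_univ_succ, _root_.Int.reduceNeg, _root_.Fin.zero_eta, _root_.Fin.isValue, _root_.Matrix.cons_val', _root_.Matrix.cons_val_fin_one, _root_.Matrix.cons_val_zero, _root_.Nat.cast_ofNat, _root_.sub_neg_eq_add, _root_.mul_neg, ↓ _root_.reduceIte, _root_.Matrix.cons_val_succ, _root_.Fin.succ_zero_eq_one, _root_.zero_ne_one, _root_.sub_zero, _root_.MulZeroClass.mul_zero, _root_.Fin.succ_one_eq_two, _root_.Fin.reduceEq, _root_.Finset.univ_unique, _root_.Fin.default_eq_zero, _root_.Finset.sum_singleton, _root_.Fin.reduceSucc, _root_.neg_mul, _root_.one_mul, _root_.neg_sub, _root_.zero_add, _root_.mul_one, _root_.neg_add_rev]; try ring⟩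
  · exact ⟨0, by simp only [rowM, T4, L2, eN, Fin.sum_univ_succ, _root_.Int.reduceNeg, _root_.Fin.mk_one, _root_.Fin.isValue, _root_.Matrix.cons_val', _root_.Matrix.cons_val_fin_one, _root_.Matrix.cons_val_one, _root_.Matrix.cons_val_zero, _root_.Nat.cast_ofNat, _root_.sub_neg_eq_add, _root_.mul_neg, _root_.one_ne_zero, ↓ _root_.reduceIte, _root_.sub_self, _root_.MulZeroClass.zero_mul, _root_.Matrix.cons_val_succ, _root_.Fin.succ_zero_eq_one, _root_.zero_sub, _root_.MulZeroClass.mul_zero, _root_.Fin.succ_one_eq_two, _root_.Fin.reduceEq, _root_.sub_zero, _root_.Finset.univ_unique, _root_.Fin.default_eq_zero, _root_.neg_mul, _root_.ite_mul, _root_.Finset.sum_neg_distrib, _root_.Finset.sum_singleton, _root_.Fin.reduceSucc, _root_.neg_zero, _root_.add_zero]; try ring⟩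
  · exact ⟨0, by simp only [rowM, T4, L2, eN, Fin.sum_univ_succ, _root_.Int.reduceNeg, _root_.Fin.reduceFinMk, _root_.Matrix.cons_val', _root_.Matrix.cons_val_fin_one, _root_.Fin.isValue, _root_.Matrix.cons_val, _root_.Matrix.cons_val_one, _root_.Matrix.cons_val_zero, _root_.Nat.cast_one, _root_.one_mul, _root_.sub_neg_eq_add, _root_.mul_neg, _root_.Fin.reduceEq, ↓ _root_.reduceIte, _root_.sub_self, _root_.MulZeroClass.zero_mul, _root_.Matrix.cons_val_succ, _root_.Fin.succ_zero_eq_one, _root_.sub_zero, _root_.MulZeroClass.mul_zero, _root_.Fin.succ_one_eq_two, _root_.Finset.univ_unique, _root_.Fin.default_eq_zero, _root_.zero_sub, _root_.neg_mul, _root_.ite_mul, _root_.Finset.sum_neg_distrib, _root_.Finset.sum_singleton, _root_.Fin.reduceSucc, _root_.neg_zero, _root_.add_zero]; try ring⟩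
  · exact ⟨(1), by simp only [rowM, T4, L2, eN, Fin.sum_univ_succ, _root_.Int.reduceNeg, _root_.Fin.reduceFinMk, _root_.Matrix.cons_val', _root_.Matrix.cons_val_fin_one, _root_.Fin.isValue, _root_.Matrix.cons_val, _root_.Matrix.cons_val_one, _root_.Nat.cast_one, _root_.one_mul, _root_.sub_neg_eq_add, _root_.mul_neg, _root_.Matrix.cons_val_zero, _root_.Fin.reduceEq, ↓ _root_.reduceIte, _root_.sub_zero, _root_.Matrix.cons_val_succ, _root_.Fin.succ_zero_eq_one, _root_.MulZeroClass.mul_zero, _root_.Fin.succ_one_eq_two, _root_.Finset.univ_unique, _root_.Fin.default_eq_zero, _root_.zero_sub, _root_.neg_mul, _root_.ite_mul, _root_.MulZeroClass.zero_mul, _root_.Finset.sum_neg_distrib, _root_.Finset.sum_singleton, _root_.Fin.reduceSucc, _root_.zero_add, _root_.mul_one]; try ring⟩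

theorem row_4_M2 (u : ℤ) (j : Fin 4) : (2 * u ^ 2 + 2 * u + 1) ∣ ∑ i, rowM T4 u j i * M2 (-u) i := by
  fin_cases j
  · exact ⟨(-1), by simp only [rowM, T4, M2, eN, Fin.sum_univ_succ, _root_.Int.reduceNeg, _root_.Fin.zero_eta, _root_.Fin.isValue, _root_.Matrix.cons_val', _root_.Matrix.cons_val_fin_one, _root_.Matrix.cons_val_zero, _root_.Nat.cast_ofNat, _root_.neg_neg, _root_.mul_neg, _root_.sub_neg_eq_add, ↓ _root_.reduceIte, _root_.Matrix.cons_val_succ, _root_.Fin.succ_zero_eq_one, _root_.zero_ne_one, _root_.sub_zero, _root_.neg_mul, _root_.Fin.succ_one_eq_two, _root_.Fin.reduceEq, _root_.Finset.univ_unique, _root_.Fin.default_eq_zero, _root_.mul_one, _root_.neg_sub, _root_.Finset.sum_singleton, _root_.Fin.reduceSucc, _root_.zero_add, _root_.neg_add_rev]; try ring⟩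
  · exact ⟨(2), by simp only [rowM, T4, M2, eN, Fin.sum_univ_succ, _root_.Int.reduceNeg, _root_.Fin.mk_one, _root_.Fin.isValue, _root_.Matrix.cons_val', _root_.Matrix.cons_val_fin_one, _root_.Matrix.cons_val_one, _root_.Matrix.cons_val_zero, _root_.Nat.cast_ofNat, _root_.neg_neg, _root_.mul_neg, _root_.sub_neg_eq_add, _root_.one_ne_zero, ↓ _root_.reduceIte, _root_.sub_self, _root_.MulZeroClass.zero_mul, _root_.Matrix.cons_val_succ, _root_.Fin.succ_zero_eq_one, _root_.zero_sub, _root_.neg_mul, _root_.Fin.succ_one_eq_two, _root_.Fin.reduceEq, _root_.sub_zero, _root_.one_mul, _root_.Finset.univ_unique, _root_.Fin.default_eq_zero, _root_.mul_one, _root_.Finset.sum_singleton, _root_.Fin.reduceSucc, _root_.add_zero, _root_.zero_add]; try ring⟩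
  · exact ⟨(-1), by simp only [rowM, T4, M2, eN, Fin.sum_univ_succ, _root_.Int.reduceNeg, _root_.Fin.reduceFinMk, _root_.Matrix.cons_val', _root_.Matrix.cons_val_fin_one, _root_.Fin.isValue, _root_.Matrix.cons_val, _root_.Matrix.cons_val_one, _root_.Matrix.cons_val_zero, _root_.Nat.cast_one, _root_.one_mul, _root_.neg_neg, _root_.mul_neg, _root_.sub_neg_eq_add, _root_.Fin.reduceEq, ↓ _root_.reduceIte, _root_.sub_self, _root_.MulZeroClass.zero_mul, _root_.Matrix.cons_val_succ, _root_.Fin.succ_zero_eq_one, _root_.sub_zero, _root_.neg_mul, _root_.neg_sub, _root_.Fin.succ_one_eq_two, _root_.Finset.univ_unique, _root_.Fin.default_eq_zero, _root_.zero_sub, _root_.mul_one, _root_.Finset.sum_singleton, _root_.Fin.reduceSucc, _root_.add_zero, _root_.zero_add, _root_.neg_add_rev]; try ring⟩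
  · exact ⟨0, by simp only [rowM, T4, M2, eN, Fin.sum_univ_succ, _root_.Int.reduceNeg, _root_.Fin.reduceFinMk, _root_.Matrix.cons_val', _root_.Matrix.cons_val_fin_one, _root_.Fin.isValue, _root_.Matrix.cons_val, _root_.Matrix.cons_val_one, _root_.Nat.cast_one, _root_.one_mul, _root_.neg_neg, _root_.mul_neg, _root_.sub_neg_eq_add, _root_.Matrix.cons_val_zero, _root_.Fin.reduceEq, ↓ _root_.reduceIte, _root_.sub_zero, _root_.Matrix.cons_val_succ, _root_.Fin.succ_zero_eq_one, _root_.Fin.succ_one_eq_two, _root_.Finset.univ_unique, _root_.Fin.default_eq_zero, _root_.zero_sub, _root_.mul_one, _root_.Finset.sum_singleton, _root_.Fin.reduceSucc, _root_.MulZeroClass.mul_zero]; try ring⟩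

theorem v_L1 (u : ℤ) (i : Fin 4) : La (L1 u) (hd V1 i) = L1 u i := by
  (revert i; simp only [La, L1, V1, hd, Fin.sum_univ_succ, _root_.Fin.forall_fin_succ, Fin.isValue, Int.reduceNeg, _root_.Matrix.cons_val', _root_.Matrix.cons_val_fin_one, _root_.Matrix.cons_val_zero, _root_.Matrix.cons_val_succ, _root_.mul_neg, _root_.mul_one, _root_.Finset.univ_unique, _root_.Fin.default_eq_zero, _root_.Finset.sum_const, _root_.Finset.card_singleton, _root_.Int.nsmul_eq_mul, _root_.Nat.cast_one, _root_.one_mul, _root_.MulZeroClass.zero_mul, _root_.neg_zero, _root_.add_zero, _root_.neg_mul, _root_.neg_neg, Int.reduceAdd, _root_.zero_add, _root_.implies_true, _root_.and_self, _root_.and_true, _root_.true_and]) <;> (repeat' with_reducible apply And.intro) <;> try ring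

theorem v_M1 (u : ℤ) (i : Fin 4) : La (M1 u) (hd V1 i) = - M1 u i := by
  (revert i; simp only [La, M1, V1, hd, Fin.sum_univ_succ, _root_.Fin.forall_fin_succ, Fin.isValue, Int.reduceNeg, _root_.Matrix.cons_val', _root_.Matrix.cons_val_fin_one, _root_.Matrix.cons_val_zero, _root_.MulZeroClass.mul_zero, _root_.Matrix.cons_val_succ, _root_.Finset.univ_unique, _root_.Fin.default_eq_zero, _root_.Finset.sum_const_zero, _root_.add_zero, _root_.zero_add, _root_.MulZeroClass.zero_mul, _root_.neg_zero, _root_.neg_mul, _root_.one_mul, _root_.neg_sub, _root_.implies_true, _root_.and_self]) <;> (repeat' with_reducible apply And.intro) <;> try ring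

theorem v_L2 (u : ℤ) (i : Fin 4) : La (L2 u) (hd V3 i) = L2 u i := by
  (revert i; simp only [La, L2, V3, hd, Fin.sum_univ_succ, _root_.Fin.forall_fin_succ, Fin.isValue, Int.reduceNeg, _root_.Matrix.cons_val', _root_.Matrix.cons_val_fin_one, _root_.Matrix.cons_val_zero, _root_.Matrix.cons_val_succ, _root_.MulZeroClass.mul_zero, _root_.Finset.univ_unique, _root_.Fin.default_eq_zero, _root_.Finset.sum_const, _root_.Finset.card_singleton, _root_.Int.nsmul_eq_mul, _root_.Nat.cast_one, _root_.one_mul, _root_.zero_add, _root_.MulZeroClass.zero_mul, _root_.add_zero, _root_.implies_true, _root_.and_self]) <;> (repeat' with_reducible apply And.intro) <;> try ring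

theorem v_M2 (u : ℤ) (i : Fin 4) : 2 * u ^ 2 - 2 * u + 1 ∣ 2 * u ^ 2 * La (M2 u) (hd V3 i) - M2 u i := by
  fin_cases i
  · exact ⟨(1) * u, by simp only [La, M2, V3, hd, Fin.sum_univ_succ, _root_.Fin.isValue, _root_.Int.reduceNeg, _root_.Fin.zero_eta, _root_.Matrix.cons_val', _root_.Matrix.cons_val_fin_one, _root_.Matrix.cons_val_zero, _root_.mul_neg, _root_.one_mul, _root_.Matrix.cons_val_succ, _root_.MulZeroClass.zero_mul, _root_.Finset.univ_unique, _root_.Fin.default_eq_zero, _root_.mul_one, _root_.neg_zero, _root_.Finset.sum_const_zero, _root_.add_zero, _root_.sub_neg_eq_add]; try ring⟩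
  · exact ⟨(1), by simp only [La, M2, V3, hd, Fin.sum_univ_succ, _root_.Fin.isValue, _root_.Int.reduceNeg, _root_.Fin.mk_one, _root_.Matrix.cons_val', _root_.Matrix.cons_val_fin_one, _root_.Matrix.cons_val_one, _root_.Matrix.cons_val_zero, _root_.mul_neg, _root_.MulZeroClass.zero_mul, _root_.neg_zero, _root_.Matrix.cons_val_succ, _root_.one_mul, _root_.Finset.univ_unique, _root_.Fin.default_eq_zero, _root_.mul_one, _root_.Finset.sum_const_zero, _root_.add_zero, _root_.sub_add_sub_cancel', _root_.Int.reduceSub, _root_.zero_add]; try ring⟩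
  · exact ⟨(-2) + (-2) * u, by simp only [La, M2, V3, hd, Fin.sum_univ_succ, _root_.Fin.isValue, _root_.Int.reduceNeg, _root_.Fin.reduceFinMk, _root_.Matrix.cons_val', _root_.Matrix.cons_val_fin_one, _root_.Matrix.cons_val, _root_.Matrix.cons_val_one, _root_.Matrix.cons_val_zero, _root_.mul_neg, _root_.MulZeroClass.zero_mul, _root_.neg_zero, _root_.Matrix.cons_val_succ, _root_.neg_mul, _root_.one_mul, _root_.neg_sub, _root_.Finset.univ_unique, _root_.Fin.default_eq_zero, _root_.mul_one, _root_.Finset.sum_const_zero, _root_.add_zero, _root_.zero_add]; try ring⟩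
  · exact ⟨(1) + (2) * u, by simp only [La, M2, V3, hd, Fin.sum_univ_succ, _root_.Fin.isValue, _root_.Int.reduceNeg, _root_.Fin.reduceFinMk, _root_.Matrix.cons_val', _root_.Matrix.cons_val_fin_one, _root_.Matrix.cons_val, _root_.Matrix.cons_val_one, _root_.Matrix.cons_val_zero, _root_.mul_neg, _root_.MulZeroClass.zero_mul, _root_.neg_zero, _root_.Matrix.cons_val_succ, _root_.one_mul, _root_.Finset.univ_unique, _root_.Fin.default_eq_zero, _root_.mul_one, _root_.Finset.sum_neg_distrib, _root_.Finset.sum_const, _root_.Finset.card_singleton, _root_.Int.nsmul_eq_mul, _root_.Nat.cast_one, _root_.zero_add, _root_.sub_neg_eq_add]; try ring⟩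

/-! ### separation -/

theorem odd_of {N : ℕ} (hN2 : ¬ 2 ∣ N) (a : ℤ) (h : (N : ℤ) ∣ a * 2) : (N : ℤ) ∣ a := by
  have h1 : IsCoprime (N : ℤ) 2 := by
    have h2 : Nat.Coprime N 2 := ((Nat.Prime.coprime_iff_not_dvd Nat.prime_two).2 hN2).symm
    exact_mod_cast Nat.isCoprime_iff_coprime.2 h2
  exact h1.dvd_of_dvd_mul_right h

/-! ### the elements -/

section

variable {K : Type u} [Field K] [Fintype K] {m : ℕ} (hK : Fintype.card K = 2 ^ (2 * m + 1)) {N : ℕ} (hN2 : ¬ 2 ∣ N)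

/-- the elements `x`, `y`, `c` -/
def Ex (K : Type u) [Field K] (m N j : ℕ) (L : Fin 4 → ℤ) : Prop :=
  ∃ x y c : ↥(twistedF4 K (2 ^ m)), orderOf x = N ∧ orderOf y = N ∧ Commute x y ∧
      Subgroup.zpowers x ⊓ Subgroup.zpowers y = ⊥ ∧ Commute c x ∧ c * y * c⁻¹ = y ^ j ∧
      ∀ (g : ↥(twistedF4 K (2 ^ m))) (i : ℕ), g * x * g⁻¹ = x ^ i → ∃ w : CoxeterMatrix.F₄.Group,
        ∀ a, (N : ℤ) ∣ i * La L (rep CoxeterMatrix.F₄.toCoxeterSystem hp.isCartan w a) - La L a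

include hK hN2

theorem ex_one (h : (N : ℤ) ∣ 2 * (2 ^ m) ^ 2 - 1) {j : ℕ} (hj : (N : ℤ) ∣ j + 1) : Ex K m N j (L1 (2 ^ m)) := by
  refine exists_xyc (C := []) (Cv := V1) (Th := T1) (Ly := M1 (2 ^ m)) (bx := ![0, 0, 0, 1]) (by' := ![2, 4, 2, 1]) hK
    hAm trivial hT1 ok_V1 weq1 hN2 (fun j => h.trans (row_1_L1 _ j)) (fun j => h.trans (row_1_M1 _ j)) ?_ ?_ ?_ ?_ ?_
  · intro i
    rw [v_L1, Nat.cast_one, one_mul, sub_self]
    exact dvd_zero _
  · intro i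
    rw [v_M1]
    have e : (j : ℤ) * -M1 (2 ^ m) i - M1 (2 ^ m) i = (j + 1) * -M1 (2 ^ m) i := by ring
    rw [e]
    exact hj.mul_right _
  · intro a ha
    have e : La (L1 (2 ^ m)) ![0, 0, 0, 1] = 2 := by simp [La, L1, Fin.sum_univ_succ]
    rw [e] at ha
    exact odd_of hN2 a ha
  · simp [La, M1, Fin.sum_univ_succ]
  · intro a ha
    have e : La (M1 (2 ^ m)) ![2, 4, 2, 1] = 2 := by simp only [La, M1, Fin.sum_univ_succ, _root_.Fin.isValue, _root_.Matrix.cons_val_zero, _root_.MulZeroClass.mul_zero, _root_.Matrix.cons_val_succ, _root_.Finset.univ_unique, _root_.Fin.default_eq_zero, _root_.Matrix.cons_val_fin_one, _root_.Finset.sum_const_zero, _root_.add_zero, _root_.zero_add]; try ring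
    rw [e] at ha
    exact odd_of hN2 a ha

theorem ex_two (h : (N : ℤ) ∣ 2 * (2 ^ m) ^ 2 + 1) {j : ℕ} (hj : (N : ℤ) ∣ j + 1) : Ex K m N j (L1 (2 ^ m)) := by
  refine exists_xyc (C := C2) (Cv := V1) (Th := T2) (Ly := M1 (2 ^ m)) (bx := ![0, 0, 0, 1]) (by' := ![2, 4, 2, 1]) hK
    hAm ok_C2 hT2 ok_V1 weq2 hN2 (fun j => h.trans (row_2_L1 _ j)) (fun j => h.trans (row_2_M1 _ j)) ?_ ?_ ?_ ?_ ?_
  · intro i
    rw [v_L1, Nat.cast_one, one_mul, sub_self]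
    exact dvd_zero _
  · intro i
    rw [v_M1]
    have e : (j : ℤ) * -M1 (2 ^ m) i - M1 (2 ^ m) i = (j + 1) * -M1 (2 ^ m) i := by ring
    rw [e]
    exact hj.mul_right _
  · intro a ha
    have e : La (L1 (2 ^ m)) ![0, 0, 0, 1] = 2 := by simp [La, L1, Fin.sum_univ_succ]
    rw [e] at ha
    exact odd_of hN2 a ha
  · simp [La, M1, Fin.sum_univ_succ]
  · intro a ha
    have e : La (M1 (2 ^ m)) ![2, 4, 2, 1] = 2 := by simp only [La, M1, Fin.sum_univ_succ, _root_.Fin.isValue, _root_.Matrix.cons_val_zero, _root_.MulZeroClass.mul_zero, _root_.Matrix.cons_val_succ, _root_.Finset.univ_unique, _root_.Fin.default_eq_zero, _root_.Matrix.cons_val_fin_one, _root_.Finset.sum_const_zero, _root_.add_zero, _root_.zero_add]; try ring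
    rw [e] at ha
    exact odd_of hN2 a ha

theorem ex_three (h : (N : ℤ) ∣ 2 * (2 ^ m) ^ 2 - 2 * 2 ^ m + 1) {j : ℕ} (hj : (j : ℤ) = 2 * (2 ^ m) ^ 2) :
    Ex K m N j (L2 (2 ^ m)) := by
  refine exists_xyc (C := C3) (Cv := V3) (Th := T3) (Ly := M2 (2 ^ m)) (bx := ![2, 3, 2, 1]) (by' := ![0, 1, 1, 0]) hK
    hAm ok_C3 hT3 ok_V3 weq3 hN2 (fun j => h.trans (row_3_L2 _ j)) (fun j => h.trans (row_3_M2 _ j)) ?_ ?_ ?_ ?_ ?_
  · intro i
    rw [v_L2, Nat.cast_one, one_mul, sub_self]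
    exact dvd_zero _
  · intro i
    rw [hj]
    exact h.trans (v_M2 _ i)
  · intro a ha
    have e : La (L2 (2 ^ m)) ![2, 3, 2, 1] = 1 := by simp only [La, L2, Fin.sum_univ_succ, _root_.Fin.isValue, _root_.Matrix.cons_val_zero, _root_.Matrix.cons_val_succ, _root_.MulZeroClass.mul_zero, _root_.Finset.univ_unique, _root_.Fin.default_eq_zero, _root_.Matrix.cons_val_fin_one, _root_.one_mul, _root_.Finset.sum_sub_distrib, _root_.Finset.sum_const, _root_.Finset.card_singleton, _root_.Int.nsmul_eq_mul, _root_.Nat.cast_one, _root_.mul_one, _root_.zero_add]; try ring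
    rwa [e, mul_one] at ha
  · simp only [La, M2, Fin.sum_univ_succ, _root_.Int.reduceNeg, _root_.Fin.isValue, _root_.Matrix.cons_val_zero, _root_.mul_neg, _root_.Matrix.cons_val_succ, _root_.Finset.univ_unique, _root_.Fin.default_eq_zero, _root_.Matrix.cons_val_fin_one, _root_.mul_one, _root_.Finset.sum_neg_distrib, _root_.Finset.sum_const, _root_.Finset.card_singleton, _root_.Int.nsmul_eq_mul, _root_.Nat.cast_one]; try ring
  · intro a ha
    have e : La (M2 (2 ^ m)) ![0, 1, 1, 0] = 1 := by simp [La, M2, Fin.sum_univ_succ]; try ring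
    rwa [e, mul_one] at ha

theorem ex_four (h : (N : ℤ) ∣ 2 * (2 ^ m) ^ 2 + 2 * 2 ^ m + 1) {j : ℕ} (hj : (j : ℤ) = 2 * (2 ^ m) ^ 2) :
    Ex K m N j (L2 (-2 ^ m)) := by
  refine exists_xyc (C := C4) (Cv := V3) (Th := T4) (Ly := M2 (-2 ^ m)) (bx := ![2, 3, 2, 1]) (by' := ![0, 1, 1, 0]) hK
    hAm ok_C4 hT4 ok_V3 weq4 hN2 (fun j => h.trans (row_4_L2 _ j)) (fun j => h.trans (row_4_M2 _ j)) ?_ ?_ ?_ ?_ ?_
  · intro i
    rw [v_L2, Nat.cast_one, one_mul, sub_self]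
    exact dvd_zero _
  · intro i
    rw [hj]
    have h1 := v_M2 (-2 ^ m) i
    have e1 : 2 * (-2 ^ m : ℤ) ^ 2 - 2 * (-2 ^ m) + 1 = 2 * (2 ^ m) ^ 2 + 2 * 2 ^ m + 1 := by ring
    have e2 : 2 * (-2 ^ m : ℤ) ^ 2 = 2 * (2 ^ m) ^ 2 := by ring
    rw [e1, e2] at h1
    exact h.trans h1
  · intro a ha
    have e : La (L2 (-2 ^ m)) ![2, 3, 2, 1] = 1 := by simp only [La, L2, Fin.sum_univ_succ, _root_.sub_neg_eq_add, _root_.mul_neg, _root_.Fin.isValue, _root_.Matrix.cons_val_zero, _root_.Matrix.cons_val_succ, _root_.MulZeroClass.mul_zero, _root_.Finset.univ_unique, _root_.Fin.default_eq_zero, _root_.Matrix.cons_val_fin_one, _root_.one_mul, _root_.Finset.sum_sub_distrib, _root_.Finset.sum_neg_distrib, _root_.Finset.sum_const, _root_.Finset.card_singleton, _root_.Int.nsmul_eq_mul, _root_.Nat.cast_one, _root_.mul_one, _root_.zero_add]; try ring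
    rwa [e, mul_one] at ha
  · simp only [La, M2, Fin.sum_univ_succ, _root_.neg_neg, _root_.mul_neg, _root_.sub_neg_eq_add, _root_.Int.reduceNeg, _root_.Fin.isValue, _root_.Matrix.cons_val_zero, _root_.Matrix.cons_val_succ, _root_.Finset.univ_unique, _root_.Fin.default_eq_zero, _root_.Matrix.cons_val_fin_one, _root_.mul_one, _root_.Finset.sum_neg_distrib, _root_.Finset.sum_const, _root_.Finset.card_singleton, _root_.Int.nsmul_eq_mul, _root_.Nat.cast_one]; try ring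
  · intro a ha
    have e : La (M2 (-2 ^ m)) ![0, 1, 1, 0] = 1 := by simp only [La, M2, Fin.sum_univ_succ, _root_.neg_neg, _root_.mul_neg, _root_.sub_neg_eq_add, _root_.Int.reduceNeg, _root_.Fin.isValue, _root_.Matrix.cons_val_zero, _root_.MulZeroClass.zero_mul, _root_.Matrix.cons_val_succ, _root_.one_mul, _root_.Finset.univ_unique, _root_.Fin.default_eq_zero, _root_.Matrix.cons_val_fin_one, _root_.mul_one, _root_.neg_zero, _root_.Finset.sum_const_zero, _root_.add_zero, _root_.zero_add]; try ring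
    rwa [e, mul_one] at ha

end

end Cfsg.Agent.H97.KB.TwFData
end

-- part: H97/KB/TwFAr
section
/-!
# Sylow subgroups generated by two commuting elements; the order of `²F₄(q)`

* `sylow_two` : two commuting elements of order `p ^ v_p(B)` with trivial intersection generate a Sylow `p`-subgroup of a
  group of order `B² C`, `p ∤ C`;
* `cyc_of_T` : Sylow subgroups are cyclic if there is a cyclic subgroup of index prime to `p`;
* `dec_one`, `dec_two`, `dec_three`, `dec_four`, `dec_rest` : the decomposition of the order of `²F₄(q)`.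
-/

set_option autoImplicit false
set_option linter.unusedSectionVars false

namespace Cfsg.Agent.H97.KB.TwFAr

open Subgroup

section Grp

variable {G : Type*} [Group G] [Finite G] {p : ℕ} [Fact p.Prime]

theorem closure_pair (x y : G) : _root_.Subgroup.closure {x, y} = zpowers x ⊔ zpowers y := by
  rw [zpowers_eq_closure, zpowers_eq_closure, ← Subgroup.closure_union]
  rfl

theorem card_sup {x y : G} (hxy : Commute x y) (hd : zpowers x ⊓ zpowers y = ⊥) :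
    Nat.card ↥(zpowers x ⊔ zpowers y) = orderOf x * orderOf y := by
  have comm : ∀ (a : ↥(zpowers x)) (b : ↥(zpowers y)), Commute ((zpowers x).subtype a) ((zpowers y).subtype b) := by
    rintro ⟨_, i, rfl⟩ ⟨_, j, rfl⟩
    exact (hxy.zpow_left i).zpow_right j
  have h1 := MonoidHom.noncommCoprod_range (zpowers x).subtype (zpowers y).subtype comm
  rw [range_subtype, range_subtype] at h1
  have h2 : Function.Injective (MonoidHom.noncommCoprod (zpowers x).subtype (zpowers y).subtype comm) := by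
    rw [MonoidHom.noncommCoprod_injective]
    refine ⟨subtype_injective _, subtype_injective _, ?_⟩
    rw [range_subtype, range_subtype, disjoint_iff]
    exact hd
  rw [← h1, ← Nat.card_congr (MonoidHom.ofInjective h2).toEquiv, Nat.card_prod, Nat.card_zpowers, Nat.card_zpowers]

theorem fact_sq {B C : ℕ} (hB0 : B ≠ 0) (hC : ¬ p ∣ C) : (B ^ 2 * C).factorization p = 2 * B.factorization p := by
  have hC0 : C ≠ 0 := by rintro rfl; exact hC (dvd_zero p)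
  rw [Nat.factorization_mul (pow_ne_zero 2 hB0) hC0, Nat.factorization_pow, Finsupp.add_apply,
    Nat.factorization_eq_zero_of_not_dvd hC, add_zero]
  rfl

/-- **Two commuting elements generate a Sylow subgroup.** -/
theorem sylow_two {B C : ℕ} (hG : Nat.card G = B ^ 2 * C) (hC : ¬ p ∣ C) (hpB : p ∣ B) (hB0 : B ≠ 0) {x y : G}
    (hx : orderOf x = p ^ B.factorization p) (hy : orderOf y = p ^ B.factorization p) (hxy : Commute x y)
    (hd : zpowers x ⊓ zpowers y = ⊥) :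
    ∃ P : Sylow p G, (P : Subgroup G) = _root_.Subgroup.closure {x, y} ∧ x ≠ 1 ∧ y ∉ zpowers x := by
  have hp : p.Prime := Fact.out
  have hv : B.factorization p ≠ 0 := (hp.factorization_pos_of_dvd hB0 hpB).ne'
  have hN1 : p ^ B.factorization p ≠ 1 := (Nat.one_lt_pow hv hp.one_lt).ne'
  have hx1 : x ≠ 1 := by
    rintro rfl
    rw [orderOf_one] at hx
    exact hN1 hx.symm
  have hy1 : y ≠ 1 := by
    rintro rfl
    rw [orderOf_one] at hy
    exact hN1 hy.symm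
  refine ⟨Sylow.ofCard (_root_.Subgroup.closure {x, y}) ?_, rfl, hx1, fun h => hy1 ?_⟩
  · rw [closure_pair, card_sup hxy hd, hx, hy, hG, fact_sq hB0 hC, ← pow_add, two_mul]
  · have h1 : y ∈ zpowers x ⊓ zpowers y := ⟨h, mem_zpowers y⟩
    rwa [hd, mem_bot] at h1

/-- **Cyclic Sylow subgroups.** -/
theorem cyc_of_T {T : Subgroup G} (hT : IsCyclic ↥T) (h : ¬ p ∣ T.index) (P : Sylow p G) : IsCyclic ↥(P : Subgroup G) := by
  obtain ⟨Q⟩ := (inferInstance : Nonempty (Sylow p ↥T))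
  have hc : Nat.card ↥((Q : Subgroup ↥T).map T.subtype) = p ^ (Nat.card G).factorization p := by
    rw [← Nat.card_congr ((Q : Subgroup ↥T).equivMapOfInjective T.subtype T.subtype_injective).toEquiv,
      Q.card_eq_multiplicity, ← T.card_mul_index, Nat.factorization_mul Nat.card_pos.ne'
        (by rintro h0; exact h (h0 ▸ dvd_zero p)), Finsupp.add_apply, Nat.factorization_eq_zero_of_not_dvd h, add_zero]
  have hQ : IsCyclic ↥(Q : Subgroup ↥T) := inferInstance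
  let S := Sylow.ofCard ((Q : Subgroup ↥T).map T.subtype) hc
  have hS : IsCyclic ↥(S : Subgroup G) :=
    ((Q : Subgroup ↥T).equivMapOfInjective T.subtype T.subtype_injective).isCyclic.1 hQ
  exact (P.equiv S).symm.isCyclic.1 hS

end Grp

/-! ### the order -/

section Ar

/-- the order of `²F₄(q)` -/
def cG (q : ℕ) : ℕ := q ^ 12 * (q - 1) * (q ^ 3 + 1) * (q ^ 4 - 1) * (q ^ 6 + 1)

variable {q : ℕ} (hq : 1 ≤ q)

include hq

theorem cast_sub1 : ((q - 1 : ℕ) : ℤ) = q - 1 := by push_cast [hq]; ring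

theorem cast_a4 : ((q ^ 2 - q + 1 : ℕ) : ℤ) = q ^ 2 - q + 1 := by
  have h : q ≤ q ^ 2 := by nlinarith
  push_cast [h]; ring

theorem cast_a5 : ((q ^ 4 - q ^ 2 + 1 : ℕ) : ℤ) = q ^ 4 - q ^ 2 + 1 := by
  have h : q ^ 2 ≤ q ^ 4 := Nat.pow_le_pow_right hq (by norm_num)
  push_cast [h]; ring

theorem cG_eq : (cG q : ℤ) = q ^ 12 * ((q - 1) ^ 2 * ((q + 1) ^ 2 * ((q ^ 2 + 1) ^ 2 * ((q ^ 2 - q + 1) *
    (q ^ 4 - q ^ 2 + 1))))) := by
  have h2 : 1 ≤ q ^ 4 := Nat.one_le_pow _ _ hq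
  unfold cG
  push_cast [hq, h2]
  ring

theorem cG_nat : cG q = q ^ 12 * ((q - 1) ^ 2 * ((q + 1) ^ 2 * ((q ^ 2 + 1) ^ 2 * ((q ^ 2 - q + 1) *
    (q ^ 4 - q ^ 2 + 1))))) := by
  apply Nat.cast_injective (R := ℤ)
  rw [cG_eq hq]
  simp only [Nat.cast_mul, Nat.cast_pow, cast_sub1 hq, cast_a4 hq, cast_a5 hq, Nat.cast_add, Nat.cast_one]

end Ar

theorem nd {p : ℕ} {c a b x r : ℤ} (hc : ¬ (p : ℤ) ∣ c) (hr : (p : ℤ) ∣ r) (h : c = a * x + b * r) : ¬ (p : ℤ) ∣ x := by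
  intro hx
  apply hc
  rw [h]
  exact dvd_add (hx.mul_left _) (hr.mul_left _)

section Dec

variable {p q : ℕ} [Fact p.Prime] (h11 : 11 ≤ p) (hq : 1 ≤ q)

include h11

theorem ndc {c : ℕ} (hc0 : c ≠ 0) (hc : c < 11) : ¬ (p : ℤ) ∣ (c : ℤ) := by
  intro h
  have h1 := Nat.le_of_dvd (Nat.pos_of_ne_zero hc0) (Int.natCast_dvd_natCast.1 h)
  omega

theorem nd1 : ¬ (p : ℤ) ∣ 1 := by exact_mod_cast ndc h11 one_ne_zero (by norm_num)
theorem nd2 : ¬ (p : ℤ) ∣ 2 := by exact_mod_cast ndc h11 two_ne_zero (by norm_num)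
theorem nd3 : ¬ (p : ℤ) ∣ 3 := by exact_mod_cast ndc h11 three_ne_zero (by norm_num)

omit h11 in
theorem nmul {a b : ℕ} (ha : ¬ p ∣ a) (hb : ¬ p ∣ b) : ¬ p ∣ a * b := fun h =>
  ((Fact.out : p.Prime).dvd_mul.1 h).elim ha hb

omit h11 in
theorem npow {a n : ℕ} (ha : ¬ p ∣ a) : ¬ p ∣ a ^ n := fun h => ha ((Fact.out : p.Prime).dvd_of_dvd_pow h)

omit h11 [Fact p.Prime] in
theorem nat_of {a : ℕ} {z : ℤ} (ha : (a : ℤ) = z) (hz : ¬ (p : ℤ) ∣ z) : ¬ p ∣ a := fun h => hz (by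
  rw [← ha]; exact Int.natCast_dvd_natCast.2 h)

include hq

/-- `p ∣ q - 1` -/
theorem dec_one (h : p ∣ q - 1) : ∃ C, cG q = (q - 1) ^ 2 * C ∧ ¬ p ∣ C := by
  have hr : (p : ℤ) ∣ q - 1 := by rw [← cast_sub1 hq]; exact Int.natCast_dvd_natCast.2 h
  refine ⟨q ^ 12 * ((q + 1) ^ 2 * ((q ^ 2 + 1) ^ 2 * ((q ^ 2 - q + 1) * (q ^ 4 - q ^ 2 + 1)))), ?_, ?_⟩
  · rw [cG_nat hq]; ring
  · refine nmul (npow ?_) (nmul (npow ?_) (nmul (npow ?_) (nmul ?_ ?_)))
    · exact nat_of rfl (nd (a := 1) (b := -1) (nd1 h11) hr (by ring))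
    · exact nat_of (z := q + 1) (by push_cast; rfl) (nd (a := 1) (b := -1) (nd2 h11) hr (by ring))
    · exact nat_of (z := q ^ 2 + 1) (by push_cast; rfl) (nd (a := 1) (b := -(q + 1)) (nd2 h11) hr (by ring))
    · exact nat_of (cast_a4 hq) (nd (a := 1) (b := -q) (nd1 h11) hr (by ring))
    · exact nat_of (cast_a5 hq) (nd (a := 1) (b := -(q ^ 2 * (q + 1))) (nd1 h11) hr (by ring))

/-- `p ∣ q + 1` -/
theorem dec_two (h : p ∣ q + 1) : ∃ C, cG q = (q + 1) ^ 2 * C ∧ ¬ p ∣ C := by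
  have hr : (p : ℤ) ∣ q + 1 := by exact_mod_cast Int.natCast_dvd_natCast.2 h
  refine ⟨q ^ 12 * ((q - 1) ^ 2 * ((q ^ 2 + 1) ^ 2 * ((q ^ 2 - q + 1) * (q ^ 4 - q ^ 2 + 1)))), ?_, ?_⟩
  · rw [cG_nat hq]; ring
  · refine nmul (npow ?_) (nmul (npow ?_) (nmul (npow ?_) (nmul ?_ ?_)))
    · exact nat_of rfl (nd (a := -1) (b := 1) (nd1 h11) hr (by ring))
    · exact nat_of (cast_sub1 hq) (nd (a := -1) (b := 1) (nd2 h11) hr (by ring))
    · exact nat_of (z := q ^ 2 + 1) (by push_cast; rfl) (nd (a := 1) (b := -(q - 1)) (nd2 h11) hr (by ring))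
    · exact nat_of (cast_a4 hq) (nd (a := 1) (b := -(q - 2)) (nd3 h11) hr (by ring))
    · exact nat_of (cast_a5 hq) (nd (a := 1) (b := -(q ^ 2 * (q - 1))) (nd1 h11) hr (by ring))

/-- `p ∣ B`, `q ^ 2 + 1 = B B'`, `B' - B = ± 4 u`, `q = 2 u²` -/
theorem dec_three {B B' u : ℕ} (hu : q = 2 * u ^ 2) {e : ℤ} (he : e ^ 2 = 1) (hB : (B : ℤ) = 2 * u ^ 2 + 2 * e * u + 1)
    (hB' : (B' : ℤ) = 2 * u ^ 2 - 2 * e * u + 1) (h : p ∣ B) : ∃ C, cG q = B ^ 2 * C ∧ ¬ p ∣ C := by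
  have hr : (p : ℤ) ∣ B := Int.natCast_dvd_natCast.2 h
  rw [hB] at hr
  have hqu : (q : ℤ) = 2 * u ^ 2 := by rw [hu]; push_cast; ring
  have hBB : q ^ 2 + 1 = B * B' := by
    apply Nat.cast_injective (R := ℤ)
    push_cast
    rw [hB, hB', hqu]
    linear_combination 4 * (u : ℤ) ^ 2 * he
  have hr2 : (p : ℤ) ∣ q ^ 2 + 1 := by
    have h1 : ((q ^ 2 + 1 : ℕ) : ℤ) = B * B' := by rw [hBB]; push_cast; ring
    push_cast at h1
    rw [h1, hB]
    exact hr.mul_right _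
  refine ⟨q ^ 12 * ((q - 1) ^ 2 * ((q + 1) ^ 2 * (B' ^ 2 * ((q ^ 2 - q + 1) * (q ^ 4 - q ^ 2 + 1))))), ?_, ?_⟩
  · rw [cG_nat hq, hBB]; ring
  · refine nmul (npow ?_) (nmul (npow ?_) (nmul (npow ?_) (nmul (npow ?_) (nmul ?_ ?_))))
    · exact nat_of rfl (nd (a := -q) (b := 1) (nd1 h11) hr2 (by ring))
    · exact nat_of (cast_sub1 hq) (nd (a := -(q + 1)) (b := 1) (nd2 h11) hr2 (by ring))
    · exact nat_of (z := q + 1) (by push_cast; rfl) (nd (a := -(q - 1)) (b := 1) (nd2 h11) hr2 (by ring))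
    · refine nat_of hB' (nd (a := 1 + e * u) (b := 1 - e * u) (nd2 h11) hr ?_)
      linear_combination (4 * (u : ℤ) ^ 2) * he
    · exact nat_of (cast_a4 hq) (nd (a := q) (b := 1 - q) (nd1 h11) hr2 (by ring))
    · exact nat_of (cast_a5 hq) (nd (a := 1) (b := -(q ^ 2 - 2)) (nd3 h11) hr2 (by ring))

/-- `p ∣ q ^ 2 - q + 1` -/
theorem dec_four (h : p ∣ q ^ 2 - q + 1) (h1 : ¬ p ∣ q - 1) (h2 : ¬ p ∣ q + 1) (h3 : ¬ p ∣ q ^ 2 + 1) :
    ∃ C, cG q = (q ^ 2 - q + 1) * C ∧ ¬ p ∣ C := by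
  have hr : (p : ℤ) ∣ q ^ 2 - q + 1 := by rw [← cast_a4 hq]; exact Int.natCast_dvd_natCast.2 h
  have h1' : ¬ (p : ℤ) ∣ -2 * (q - 1) := by
    have h4 : ((2 * (q - 1) : ℕ) : ℤ) = 2 * (q - 1) := by rw [Nat.cast_mul, cast_sub1 hq]; rfl
    have h5 : -2 * ((q : ℤ) - 1) = -((2 * (q - 1) : ℕ) : ℤ) := by rw [h4]; ring
    rw [h5, dvd_neg, Int.natCast_dvd_natCast]
    refine nmul ?_ h1
    exact nat_of (z := 2) rfl (nd2 h11)
  refine ⟨q ^ 12 * ((q - 1) ^ 2 * ((q + 1) ^ 2 * ((q ^ 2 + 1) ^ 2 * (q ^ 4 - q ^ 2 + 1)))), ?_, ?_⟩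
  · rw [cG_nat hq]; ring
  · refine nmul (npow ?_) (nmul (npow h1) (nmul (npow h2) (nmul (npow h3) ?_)))
    · exact nat_of rfl (nd (a := 1 - q) (b := 1) (nd1 h11) hr (by ring))
    · exact nat_of (cast_a5 hq) (nd (a := 1) (b := -(q ^ 2 + q - 1)) h1' hr (by ring))

/-- `p ∣ B`, `q ^ 4 - q ^ 2 + 1 = B B'` -/
theorem dec_five {B B' u : ℕ} (hu : q = 2 * u ^ 2) {e : ℤ} (he : e ^ 2 = 1)
    (hB : (B : ℤ) = 1 + 2 * e * u + 2 * u ^ 2 + 4 * e * u ^ 3 + 4 * u ^ 4)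
    (hB' : (B' : ℤ) = 1 - 2 * e * u + 2 * u ^ 2 - 4 * e * u ^ 3 + 4 * u ^ 4) (h : p ∣ B)
    (h1 : ¬ p ∣ q - 1) (h2 : ¬ p ∣ q + 1) (h3 : ¬ p ∣ q ^ 2 + 1) :
    ∃ C, cG q = B * C ∧ ¬ p ∣ C := by
  have hr : (p : ℤ) ∣ B := Int.natCast_dvd_natCast.2 h
  have hqu : (q : ℤ) = 2 * u ^ 2 := by rw [hu]; push_cast; ring
  have hBB : q ^ 4 - q ^ 2 + 1 = B * B' := by
    apply Nat.cast_injective (R := ℤ)
    rw [cast_a5 hq, Nat.cast_mul, hB, hB', hqu]
    linear_combination (4 * (u : ℤ) ^ 2 + 16 * (u : ℤ) ^ 4 + 16 * (u : ℤ) ^ 6) * he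
  have hr2 : (p : ℤ) ∣ q ^ 4 - q ^ 2 + 1 := by
    rw [← cast_a5 hq, hBB]
    push_cast
    exact hr.mul_right _
  rw [hB] at hr
  have hq0 : ¬ (p : ℤ) ∣ q := nd (a := -(q ^ 3 - q)) (b := 1) (nd1 h11) hr2 (by ring)
  have hu0 : ¬ (p : ℤ) ∣ u := by
    intro h4
    apply hq0
    rw [hqu]
    exact (dvd_pow h4 two_ne_zero).mul_left _
  have hpi : Prime (p : ℤ) := Nat.prime_iff_prime_int.1 Fact.out
  refine ⟨q ^ 12 * ((q - 1) ^ 2 * ((q + 1) ^ 2 * ((q ^ 2 + 1) ^ 2 * ((q ^ 2 - q + 1) * B')))), ?_, ?_⟩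
  · rw [cG_nat hq, hBB]; ring
  · refine nmul (npow ?_) (nmul (npow h1) (nmul (npow h2) (nmul (npow h3) (nmul ?_ ?_))))
    · exact nat_of rfl hq0
    · -- `a5 = a4 (q² + q - 1) - 2 (q - 1)`
      intro h4
      obtain ⟨C, hC, hC'⟩ := dec_four h11 hq h4 h1 h2 h3
      rw [cG_nat hq] at hC
      have h5 : (q ^ 2 - q + 1) * (q ^ 12 * ((q - 1) ^ 2 * ((q + 1) ^ 2 * ((q ^ 2 + 1) ^ 2 * (q ^ 4 - q ^ 2 + 1))))) =
          (q ^ 2 - q + 1) * C := by rw [← hC]; ring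
      have h6 := Nat.eq_of_mul_eq_mul_left (Nat.succ_pos _) h5
      apply hC'
      rw [← h6]
      exact ((((Int.natCast_dvd_natCast.1 (by rw [cast_a5 hq]; exact hr2)).mul_left _).mul_left _).mul_left _).mul_left _
    · intro h4
      have h5 : (p : ℤ) ∣ 1 - 2 * e * u + 2 * u ^ 2 - 4 * e * u ^ 3 + 4 * u ^ 4 := by
        rw [← hB']; exact Int.natCast_dvd_natCast.2 h4
      have h6 := dvd_sub hr h5
      have h7 : (1 + 2 * e * u + 2 * u ^ 2 + 4 * e * u ^ 3 + 4 * u ^ 4 -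
          (1 - 2 * e * u + 2 * u ^ 2 - 4 * e * u ^ 3 + 4 * u ^ 4) : ℤ) = e * (2 * (2 * (u * (q + 1)))) := by
        rw [hqu]; ring
      rw [h7] at h6
      rcases hpi.dvd_or_dvd h6 with h8 | h8
      · have h9 : (p : ℤ) ∣ e ^ 2 := h8.trans (dvd_pow_self _ two_ne_zero)
        rw [he] at h9
        exact nd1 h11 h9
      · rcases hpi.dvd_or_dvd h8 with h9 | h9
        · exact nd2 h11 h9
        · rcases hpi.dvd_or_dvd h9 with h9 | h9
          · exact nd2 h11 h9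
          · rcases hpi.dvd_or_dvd h9 with h9 | h9
            · exact hu0 h9
            · exact h2 (Int.natCast_dvd_natCast.1 (by push_cast; exact h9))

end Dec

end Cfsg.Agent.H97.KB.TwFAr
end

-- part: H97/KB/TwFDat
section
/-!
# Noncyclic Sylow `p`-subgroups of `²F₄(q)`, `p ≥ 11`

`exists_dat` : the Sylow `p`-subgroup is generated by two commuting elements `x`, `y`; there is an element `c` centralizing
`x` with `c y c⁻¹ = y ^ j`, such that `(p - 1) / e * ord(j mod p) + 1 ≥ p`, where `e` is an exponent of the group of `i` with `x`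
conjugate to `x ^ i`.
-/

set_option autoImplicit false
set_option linter.unusedSectionVars false

namespace Cfsg.Agent.H97.KB.TwFDat

open Cfsg Cfsg.Lie Subgroup
open Cfsg.Agent.ChevalleyStructure.CoxeterGeom
open Cfsg.Agent.H97.KB.TwFTor Cfsg.Agent.H97.KB.TwFFus Cfsg.Agent.H97.KB.TwFData Cfsg.Agent.H97.KB.TwFAr

universe u

/-- the data of a Sylow subgroup of rank 2 -/
def Dat (p : ℕ) (G : Type u) [Group G] : Prop :=
  ∃ (P : Sylow p G) (x y c : G) (e j : ℕ), (P : Subgroup G) = _root_.Subgroup.closure {x, y} ∧ Commute x y ∧ x ≠ 1 ∧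
    y ∉ zpowers x ∧ zpowers x ⊓ zpowers y = ⊥ ∧
    (∀ (g : G) (i : ℕ), g * x * g⁻¹ = x ^ i → (i : ZMod p) ^ e = 1) ∧ Commute c x ∧ c * y * c⁻¹ = y ^ j ∧
    p ≤ (p - 1) / e * orderOf (j : ZMod p) + 1

variable {p : ℕ} [Fact p.Prime]

theorem Dat.congr {G H : Type*} [Group G] [Group H] [Finite H] (f : G ≃* H) (D : Dat p G) : Dat p H := by
  obtain ⟨P, x, y, c, e, j, h1, h2, h3, h4, h5, h6, h7, h8, h9⟩ := D
  have hz : ∀ a : G, zpowers (f a) = (zpowers a).map f.toMonoidHom := fun a => by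
    rw [MonoidHom.map_zpowers]; rfl
  have hfin : Finite G := Finite.of_equiv _ f.symm.toEquiv
  have hs : Function.Surjective f.toMonoidHom := f.surjective
  refine ⟨P.mapSurjective hs, f x, f y, f c, e, j, ?_, h2.map f, ?_, ?_, ?_, ?_, h7.map f, ?_, h9⟩
  · rw [Sylow.coe_mapSurjective, h1, MonoidHom.map_closure, Set.image_pair]
    rfl
  · intro h; exact h3 (f.injective (h.trans f.map_one.symm))
  · rw [hz]
    rintro ⟨a, ha, e1⟩
    exact h4 (f.injective e1 ▸ ha)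
  · rw [hz, hz, ← Subgroup.map_inf _ _ _ f.injective, h5, Subgroup.map_bot]
  · intro g i hg
    refine h6 (f.symm g) i (f.injective ?_)
    rw [map_mul, map_mul, map_inv, map_pow, f.apply_symm_apply, hg]
  · rw [← map_mul, ← map_inv, ← map_mul, h8, map_pow]

theorem order_neg {N : ℕ} (h11 : 11 ≤ p) (hpN : p ∣ N) (hN0 : N ≠ 0) : orderOf ((N - 1 : ℕ) : ZMod p) = 2 := by
  have h1 : ((N - 1 : ℕ) : ZMod p) = -1 := by
    have h2 : ((N - 1 : ℕ) : ZMod p) + 1 = (N : ZMod p) := by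
      rw [← Nat.cast_add_one, Nat.sub_add_cancel (Nat.pos_of_ne_zero hN0)]
    rw [(ZMod.natCast_eq_zero_iff N p).2 hpN] at h2
    exact eq_neg_of_add_eq_zero_left h2
  rw [h1, orderOf_neg_one, ringChar.eq (ZMod p) p, if_neg (by omega)]

theorem order_four {q : ℕ} (h11 : 11 ≤ p) (h : p ∣ q ^ 2 + 1) : orderOf (q : ZMod p) = 4 := by
  have h1 : (q : ZMod p) ^ 2 = -1 := by
    have h2 := (ZMod.natCast_eq_zero_iff (q ^ 2 + 1) p).2 h
    push_cast at h2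
    exact eq_neg_of_add_eq_zero_left h2
  have h3 : (q : ZMod p) ^ 2 ^ 2 = 1 := by
    have e : (q : ZMod p) ^ 2 ^ 2 = ((q : ZMod p) ^ 2) ^ 2 := by ring
    rw [e, h1]; ring
  have h4 : ¬ (q : ZMod p) ^ 2 ^ 1 = 1 := by
    rw [pow_one, h1]
    intro h5
    have h6 : (2 : ZMod p) = 0 := by linear_combination -h5
    have h7 : p ∣ 2 := (ZMod.natCast_eq_zero_iff 2 p).1 (by exact_mod_cast h6)
    have := Nat.le_of_dvd (by norm_num) h7
    omega
  exact orderOf_eq_prime_pow h4 h3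

theorem le_two (h11 : 11 ≤ p) {a : ℕ} (ha : a = 2) : p ≤ (p - 1) / 2 * a + 1 := by
  have h1 : p % 2 = 1 := (Nat.Prime.eq_two_or_odd (Fact.out : p.Prime)).resolve_left (by omega)
  subst ha
  omega

theorem le_four (h11 : 11 ≤ p) {q : ℕ} (h : p ∣ q ^ 2 + 1) : p ≤ (p - 1) / 4 * orderOf (q : ZMod p) + 1 := by
  have h0 : (q : ZMod p) ≠ 0 := by
    intro h0
    have h2 := (ZMod.natCast_eq_zero_iff (q ^ 2 + 1) p).2 h
    push_cast at h2
    rw [h0] at h2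
    simp at h2
  have h1 := ZMod.orderOf_dvd_card_sub_one h0
  rw [order_four h11 h] at h1 ⊢
  obtain ⟨k, hk⟩ := h1
  omega

/-- the common part -/
theorem dat_of {K : Type u} [Field K] [Fintype K] {m : ℕ} (hK : Fintype.card K = 2 ^ (2 * m + 1)) {B j e : ℕ}
    {L : Fin 4 → ℤ} (hpB : p ∣ B) (hB0 : B ≠ 0) (hC : ∃ C, cG (2 ^ (2 * m + 1)) = B ^ 2 * C ∧ ¬ p ∣ C)
    (hx : Ex K m (p ^ B.factorization p) j L)
    (hf : ∀ (i : ℕ) (w : CoxeterMatrix.F₄.Group), (∀ a, ((p ^ B.factorization p : ℕ) : ℤ) ∣ i * H129.SuzT.La L (rep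
      CoxeterMatrix.F₄.toCoxeterSystem H493.F4Tor.hp.isCartan w a) - H129.SuzT.La L a) → (i : ZMod p) ^ e = 1)
    (hj : p ≤ (p - 1) / e * orderOf (j : ZMod p) + 1) : Dat p ↥(twistedF4 K (2 ^ m)) := by
  have hfin : Finite ↥(twistedF4 K (2 ^ m)) := inferInstance
  obtain ⟨C, hC, hC'⟩ := hC
  obtain ⟨x, y, c, h1, h2, h3, h4, h5, h6, h7⟩ := hx
  have hG : Nat.card ↥(twistedF4 K (2 ^ m)) = B ^ 2 * C := by rw [Cfsg.Agent.S1068.result hK]; exact hC
  obtain ⟨P, h8, h9, h10⟩ := sylow_two hG hC' hpB hB0 h1 h2 h3 h4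
  refine ⟨P, x, y, c, e, j, h8, h3, h9, h10, h4, fun g i hg => ?_, h5, h6, hj⟩
  obtain ⟨w, hw⟩ := h7 g i hg
  exact hf i w hw

theorem dvd_N {B : ℕ} (hpB : p ∣ B) (hB0 : B ≠ 0) : p ∣ p ^ B.factorization p :=
  dvd_pow_self p ((Fact.out : p.Prime).factorization_pos_of_dvd hB0 hpB).ne'

theorem N_dvd {B : ℕ} : p ^ B.factorization p ∣ B := Nat.ordProj_dvd B p

theorem two_N (h11 : 11 ≤ p) {B : ℕ} : ¬ 2 ∣ p ^ B.factorization p := fun h => by
  have h1 := (Nat.prime_dvd_prime_iff_eq Nat.prime_two Fact.out).1 (Nat.prime_two.dvd_of_dvd_pow h)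
  omega

/-- the cyclic cases -/
theorem cyc_of {K : Type u} [Field K] [Fintype K] {m : ℕ} (hK : Fintype.card K = 2 ^ (2 * m + 1)) {N : ℕ}
    (hC : ∃ C, cG (2 ^ (2 * m + 1)) = N * C ∧ ¬ p ∣ C) (hN0 : N ≠ 0)
    {T : Subgroup ↥(twistedF4 K (2 ^ m))} (hT : IsCyclic ↥T) (hTN : Nat.card ↥T = N)
    (P : Sylow p ↥(twistedF4 K (2 ^ m))) : IsCyclic ↥(P : Subgroup ↥(twistedF4 K (2 ^ m))) := by
  have hfin : Finite ↥(twistedF4 K (2 ^ m)) := inferInstance
  obtain ⟨C, hC, hC'⟩ := hC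
  refine cyc_of_T hT ?_ P
  have hG : Nat.card ↥(twistedF4 K (2 ^ m)) = N * C := by rw [Cfsg.Agent.S1068.result hK]; exact hC
  have h1 := T.card_mul_index
  rw [hG, hTN] at h1
  rwa [Nat.eq_of_mul_eq_mul_left (Nat.pos_of_ne_zero hN0) h1]

/-- **The Sylow subgroups of `²F₄(q)`.** -/
theorem exists_dat (h11 : 11 ≤ p) {K : Type u} [Field K] [Fintype K] {m : ℕ} (hK : Fintype.card K = 2 ^ (2 * m + 1))
    (hP : ∀ P : Sylow p ↥(twistedF4 K (2 ^ m)), ¬ IsCyclic ↥(P : Subgroup ↥(twistedF4 K (2 ^ m)))) :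
    Dat p ↥(twistedF4 K (2 ^ m)) := by
  have hp : p.Prime := Fact.out
  have hfin : Finite ↥(twistedF4 K (2 ^ m)) := inferInstance
  obtain ⟨P0⟩ := (inferInstance : Nonempty (Sylow p ↥(twistedF4 K (2 ^ m))))
  obtain ⟨q, hq⟩ : ∃ q, q = 2 ^ (2 * m + 1) := ⟨_, rfl⟩
  obtain ⟨u, hu⟩ : ∃ u, u = 2 ^ m := ⟨_, rfl⟩
  have hqu : q = 2 * u ^ 2 := by rw [hq, hu]; ring
  have hu1 : 1 ≤ u := by rw [hu]; exact Nat.one_le_two_pow
  have hq1 : 1 ≤ q := by rw [hq]; exact Nat.one_le_two_pow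
  have hq2 : 2 ≤ q := by rw [hqu]; nlinarith only [hu1]
  have hqz : (q : ℤ) = 2 * (2 ^ m) ^ 2 := by rw [hqu, hu]; push_cast; ring
  by_cases c1 : p ∣ q - 1
  · have hB0 : q - 1 ≠ 0 := by omega
    have hpN := dvd_N c1 hB0
    have hN0 : p ^ (q - 1).factorization p ≠ 0 := pow_ne_zero _ hp.ne_zero
    refine dat_of (e := 2) (j := p ^ (q - 1).factorization p - 1) hK c1 hB0 (by rw [← hq]; exact dec_one h11 hq1 c1)
      (ex_one hK (two_N h11) ?_ ?_) (fun i w hw => fus_one h11 hpN ?_ hw) (le_two h11 (order_neg h11 hpN hN0))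
    · rw [← hqz, ← cast_sub1 hq1]
      exact Int.natCast_dvd_natCast.2 N_dvd
    · rw [← Nat.cast_add_one, Nat.sub_add_cancel (Nat.pos_of_ne_zero hN0)]
    · rw [← hqz, ← cast_sub1 hq1]
      exact Int.natCast_dvd_natCast.2 c1
  by_cases c2 : p ∣ q + 1
  · have hB0 : q + 1 ≠ 0 := by omega
    have hpN := dvd_N c2 hB0
    have hN0 : p ^ (q + 1).factorization p ≠ 0 := pow_ne_zero _ hp.ne_zero
    have hz : ((q + 1 : ℕ) : ℤ) = 2 * (2 ^ m) ^ 2 + 1 := by rw [← hqz]; push_cast; rfl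
    refine dat_of (e := 2) (j := p ^ (q + 1).factorization p - 1) hK c2 hB0 (by rw [← hq]; exact dec_two h11 hq1 c2)
      (ex_two hK (two_N h11) ?_ ?_) (fun i w hw => fus_two h11 hpN ?_ hw) (le_two h11 (order_neg h11 hpN hN0))
    · rw [← hz]
      exact Int.natCast_dvd_natCast.2 N_dvd
    · rw [← Nat.cast_add_one, Nat.sub_add_cancel (Nat.pos_of_ne_zero hN0)]
    · rw [← hz]
      exact Int.natCast_dvd_natCast.2 c2
  obtain ⟨B, hB⟩ : ∃ B : ℕ, (B : ℤ) = 2 * u ^ 2 - 2 * u + 1 := by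
    refine ⟨2 * (u * (u - 1)) + 1, ?_⟩
    push_cast [hu1]; ring
  obtain ⟨B', hB'⟩ : ∃ B' : ℕ, (B' : ℤ) = 2 * u ^ 2 + 2 * u + 1 := ⟨2 * u ^ 2 + 2 * u + 1, by push_cast; ring⟩
  have hBB : q ^ 2 + 1 = B' * B := by
    apply Nat.cast_injective (R := ℤ)
    push_cast
    rw [hB, hB', hqz, hu]
    push_cast
    ring
  have huz : (u : ℤ) = 2 ^ m := by rw [hu]; push_cast; rfl
  by_cases c3 : p ∣ q ^ 2 + 1
  · have hj : ((q : ℕ) : ℤ) = 2 * (2 ^ m) ^ 2 := hqz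
    rw [hBB] at c3
    rcases hp.dvd_mul.1 c3 with c | c
    · have hB0 : B' ≠ 0 := by
        rintro rfl
        push_cast at hB'
        linarith only [hBB, _root_.sq_nonneg (↑q : ℤ)]
      have hpN := dvd_N c hB0
      refine dat_of (e := 4) (j := q) hK c hB0 (by
          rw [← hq]
          exact dec_three h11 hq1 hqu (e := 1) (by norm_num) (by rw [hB']; ring) (by rw [hB]; ring) c)
        (ex_four hK (two_N h11) ?_ hj) (fun i w hw => fus_three h11 hpN ?_ hw) (le_four h11 (by rw [hBB]; exact c3))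
      · rw [← huz, ← hB']
        exact Int.natCast_dvd_natCast.2 N_dvd
      · have e1 : 2 * (-2 ^ m : ℤ) ^ 2 - 2 * (-2 ^ m) + 1 = 2 * u ^ 2 + 2 * u + 1 := by rw [huz]; ring
        rw [e1, ← hB']
        exact Int.natCast_dvd_natCast.2 c
    · have hB0 : B ≠ 0 := by
        rintro rfl
        push_cast at hB
        linarith only [hBB, _root_.sq_nonneg (↑q : ℤ)]
      have hpN := dvd_N c hB0
      refine dat_of (e := 4) (j := q) hK c hB0 (by
          rw [← hq]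
          exact dec_three h11 hq1 hqu (e := -1) (by norm_num) (by rw [hB]; ring) (by rw [hB']; ring) c)
        (ex_three hK (two_N h11) ?_ hj) (fun i w hw => fus_three h11 hpN ?_ hw) (le_four h11 (by rw [hBB]; exact c3))
      · rw [← huz, ← hB]
        exact Int.natCast_dvd_natCast.2 N_dvd
      · rw [← huz, ← hB]
        exact Int.natCast_dvd_natCast.2 c
  exfalso
  by_cases c4 : p ∣ q ^ 2 - q + 1
  · have hC := dec_four h11 hq1 c4 c1 c2 c3
    rw [hq] at hC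
    have hNz : ((q ^ 2 - q + 1 : ℕ) : ℤ) = 1 - 2 * (2 ^ m) ^ 2 + 4 * (2 ^ m) ^ 4 := by
      rw [cast_a4 hq1, hqz]; ring
    obtain ⟨T, h1, h2, h3, -⟩ := Cfsg.Agent.H129.CycCard.card_tF4_6 hK hNz hp (by
      rw [← hNz]; exact Int.natCast_dvd_natCast.2 c4) (by omega)
    rw [one_mul] at h3
    refine hP P0 (cyc_of hK (N := q ^ 2 - q + 1) (by rw [hq]; exact hC) (Nat.succ_ne_zero _) h1
      (Nat.dvd_antisymm h2 h3) P0)
  by_cases c5 : p ∣ q ^ 4 - q ^ 2 + 1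
  · obtain ⟨D, hD⟩ : ∃ D : ℕ, (D : ℤ) = 1 + 2 * u + 2 * u ^ 2 + 4 * u ^ 3 + 4 * u ^ 4 :=
      ⟨1 + 2 * u + 2 * u ^ 2 + 4 * u ^ 3 + 4 * u ^ 4, by push_cast; ring⟩
    obtain ⟨D', hD'⟩ : ∃ D' : ℕ, (D' : ℤ) = 1 - 2 * u + 2 * u ^ 2 - 4 * u ^ 3 + 4 * u ^ 4 := by
      refine ⟨1 + 2 * (u * (u - 1)) + 4 * (u ^ 3 * (u - 1)), ?_⟩
      push_cast [hu1]; ring
    have hDD : q ^ 4 - q ^ 2 + 1 = D * D' := by
      apply Nat.cast_injective (R := ℤ)
      rw [cast_a5 hq1, Nat.cast_mul, hD, hD', hqz, huz]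
      ring
    rw [hDD] at c5
    rcases hp.dvd_mul.1 c5 with c | c
    · have hC := dec_five h11 hq1 hqu (e := 1) (B := D) (B' := D') (by norm_num) (by rw [hD]; ring) (by rw [hD']; ring)
        c c1 c2 c3
      obtain ⟨T, h1, h2, -⟩ := Cfsg.Agent.H129.CycCard.exact_tF4_plus hK (N := D) (by rw [hD, huz])
      exact hP P0 (cyc_of hK (by rw [← hq]; exact hC) (by rintro rfl; push_cast at hD; linarith only [hDD]) h1 h2 P0)
    · have hC := dec_five h11 hq1 hqu (e := -1) (B := D') (B' := D) (by norm_num) (by rw [hD']; ring) (by rw [hD]; ring)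
        c c1 c2 c3
      obtain ⟨T, h1, h2, -⟩ := Cfsg.Agent.H129.CycCard.exact_tF4_minus hK (N := D') (by rw [hD', huz])
      refine hP P0 (cyc_of hK (by rw [← hq]; exact hC) ?_ h1 h2 P0)
      rintro rfl
      have h3 : ¬ p ∣ 0 := by
        intro _
        have h4 : (0 : ℤ) = 1 + 2 * (u * (u - 1)) + 4 * (u ^ 3 * (u - 1)) := by
          have h5 := hD'
          push_cast at h5
          rw [h5]; ring
        have h8 : (0 : ℤ) ≤ (u : ℤ) - 1 := by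
          have h9 : (1 : ℤ) ≤ u := by exact_mod_cast hu1
          linarith only [hDD]
        have h6 : (0 : ℤ) ≤ u * (u - 1) := mul_nonneg (by positivity) h8
        have h7 : (0 : ℤ) ≤ u ^ 3 * (u - 1) := mul_nonneg (by positivity) h8
        linarith only [hDD]
      exact h3 (dvd_zero p)
  -- `p` does not divide the order
  have h2 : ¬ p ∣ Nat.card ↥(twistedF4 K (2 ^ m)) := by
    rw [Cfsg.Agent.S1068.result hK]
    show ¬ p ∣ cG (2 ^ (2 * m + 1))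
    rw [← hq, cG_nat hq1]
    refine nmul (npow ?_) (nmul (npow c1) (nmul (npow c2) (nmul (npow c3) (nmul c4 c5))))
    rw [hq]
    intro h3
    have h4 := (Nat.prime_dvd_prime_iff_eq hp Nat.prime_two).1 (hp.dvd_of_dvd_pow h3)
    omega
  refine hP P0 (cyc_of_T (T := ⊥) inferInstance ?_ P0)
  rwa [Subgroup.index_bot]

end Cfsg.Agent.H97.KB.TwFDat
end

private theorem dce_84c7d626b752 : _root_.True := by
  try have : _root_.True := by simp only [_root_.Cfsg.Agent.H97.KB.TwFFus.L2.eq_1]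
  try have : _root_.True := by simp only [_root_.Cfsg.Agent.H129.WData.hd.eq_1]
  try have : _root_.True := by simp only [_root_.Cfsg.Agent.H129.WData.hd.eq_2]
  try have : _root_.True := by simp only [_root_.Cfsg.Agent.H97.KB.TwFFus.L1.eq_1]
  try have : _root_.True := by simp only [_root_.Cfsg.Agent.H97.KB.TwFData.V3.eq_1]
  try have : _root_.True := by simp only [_root_.Cfsg.Agent.H97.KB.TwFData.M2.eq_1]
  try have : _root_.True := by simp only [_root_.Cfsg.Agent.H97.KB.TwFData.T2.eq_1]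
  try have : _root_.True := by simp only [_root_.Cfsg.Agent.H97.KB.TwFData.M1.eq_1]
  try have : _root_.True := by simp only [_root_.Cfsg.Agent.H97.KB.TwFData.T3.eq_1]
  try have : _root_.True := by simp only [_root_.Cfsg.Agent.H97.KB.TwFData.T1.eq_1]
  try have : _root_.True := by simp only [_root_.Cfsg.Agent.H129.SuzT.RT.eq_1]
  try have : _root_.True := by simp only [_root_.Cfsg.Agent.H97.KB.TwFData.V1.eq_1]
  try have : _root_.True := by simp only [_root_.Cfsg.Agent.H97.KB.TwFData.T4.eq_1]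
  exact _root_.True.intro
end

-- part: H832/KB/RankTwo
section
set_option linter.all false
open scoped Cfsg.Agent.FastGrp

-- part: H832/KB/Elt
section
/-!
# S4822, D6: lower bounds for `k(B₀(S))` from one element of order `p`

* `kB_of_elt` (D6), `kB_of_elt'` (D6'), `kB_of_elt_add`.
-/

set_option autoImplicit false

open Cfsg Subgroup Cfsg.Agent.H508.KB

namespace Cfsg.Agent.H832.KB

universe u

variable {p : ℕ} [hp : Fact p.Prime] {M : Ideal AlgInt}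

/-- the lower bound for `l(B₀(C(x)))` from a quotient with cyclic Sylow subgroups -/
theorem rank_of_quot {C : Type u} [Group C] [Finite C] (hM : IsPModular p M)
    {Q : Type u} [Group Q] [Finite Q] (φ : C →* Q) (hφ : Function.Surjective φ)
    (P : Sylow p Q) (hP : IsCyclic (P : Subgroup Q)) (y c : Q) (hy : y ≠ 1) (k : ℕ) (hyk : orderOf y = p ^ k) (j : ℕ)
    (hc : c * y * c⁻¹ = y ^ j) : orderOf (j : ZMod p) ≤ blockRank p (principalBlock M C) :=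
  (H973.KB.rank_cyclic hM P hP y c hy k hyk j hc).trans (H296.KB.rank_quot_le hM φ hφ)

end Cfsg.Agent.H832.KB
end

-- part: H832/KB/RankTwo
section
/-!
# S4822, D7, D7', D9', D3': Sylow subgroups of rank 2; simple groups
-/

set_option autoImplicit false

open Cfsg Subgroup Cfsg.Agent.H508.KB

namespace Cfsg.Agent.H832.KB

universe u

variable {p : ℕ} [hp : Fact p.Prime] {M : Ideal AlgInt}

/-- D9': rank 2: `l(B₀(C(x)))` is at least the order of the action on `y` modulo `x` -/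
theorem rank_of_rank_two {S : Type u} [Group S] [Finite S] (hM : IsPModular p M) (P : Sylow p S) (x y : S)
    (hxy : Commute x y) (hP : (P : Subgroup S) = closure {x, y}) (hy : y ∉ zpowers x)
    (c : S) (hcx : Commute c x) (j : ℕ) (hc : c * y * c⁻¹ = y ^ j) :
    orderOf (j : ZMod p) ≤ blockRank p (principalBlock M ↥(centralizer ({x} : Set S))) := by
  let C := centralizer ({x} : Set S)
  have hxC : x ∈ C := mem_centralizer_singleton_iff.2 rfl
  have hyC : y ∈ C := mem_centralizer_singleton_iff.2 hxy.symm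
  have hcC : c ∈ C := mem_centralizer_singleton_iff.2 hcx
  let x' : C := ⟨x, hxC⟩
  let y' : C := ⟨y, hyC⟩
  let c' : C := ⟨c, hcC⟩
  have hZn : (zpowers x').Normal := by
    refine ⟨fun z hz g => ?_⟩
    obtain ⟨n, rfl⟩ := mem_zpowers_iff.1 hz
    have h1 : Commute g x' := Subtype.ext (mem_centralizer_singleton_iff.1 g.2)
    rw [(h1.zpow_right n).eq, mul_inv_cancel_right]
    exact hz
  have hPC : (P : Subgroup S) ≤ C := by
    rw [hP, closure_le]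
    rintro z (rfl | rfl)
    · exact hxC
    · exact hyC
  let P' : Sylow p C := P.subtype hPC
  let φ : C →* C ⧸ zpowers x' := QuotientGroup.mk' (zpowers x')
  have hφ : Function.Surjective φ := QuotientGroup.mk'_surjective _
  have hφx : φ x' = 1 := (QuotientGroup.eq_one_iff _).2 (mem_zpowers x')
  let R : Sylow p (C ⧸ zpowers x') := P'.mapSurjective hφ
  have hR : (R : Subgroup (C ⧸ zpowers x')) = (P' : Subgroup C).map φ := rfl
  have hle : ∀ q ∈ (R : Subgroup (C ⧸ zpowers x')), q ∈ zpowers (φ y') := by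
    rw [hR]
    rintro _ ⟨g, hg, rfl⟩
    have h1 : (P : Subgroup S) ≤ ((zpowers (φ y')).comap φ).map C.subtype := by
      rw [hP, closure_le]
      rintro z (rfl | rfl)
      · exact ⟨x', by
          show φ x' ∈ zpowers (φ y')
          rw [hφx]
          exact one_mem _, rfl⟩
      · exact ⟨y', mem_zpowers _, rfl⟩
    have h2 : (g : S) ∈ (P : Subgroup S) := hg
    obtain ⟨g', hg', he⟩ := h1 h2
    have h3 : g' = g := Subtype.ext he
    rw [← h3]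
    exact hg'
  have hyP : y ∈ (P : Subgroup S) := by
    rw [hP]
    exact subset_closure (Or.inr rfl)
  have hyR : φ y' ∈ (R : Subgroup (C ⧸ zpowers x')) := ⟨y', hyP, rfl⟩
  have hcyc : IsCyclic (R : Subgroup (C ⧸ zpowers x')) := by
    refine ⟨⟨⟨φ y', hyR⟩, fun q => ?_⟩⟩
    obtain ⟨n, hn⟩ := mem_zpowers_iff.1 (hle q.1 q.2)
    exact mem_zpowers_iff.2 ⟨n, Subtype.ext (by rw [← hn]; rfl)⟩
  have hy1 : φ y' ≠ 1 := by
    intro h
    have h1 : y' ∈ zpowers x' := (QuotientGroup.eq_one_iff _).1 h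
    obtain ⟨n, hn⟩ := mem_zpowers_iff.1 h1
    apply hy
    refine mem_zpowers_iff.2 ⟨n, ?_⟩
    have := congrArg (fun z : C => (z : S)) hn
    exact this
  obtain ⟨m, hm⟩ := IsPGroup.iff_orderOf.1 R.2 ⟨φ y', hyR⟩
  rw [Subgroup.orderOf_mk] at hm
  refine rank_of_quot hM φ hφ R hcyc (φ y') (φ c') hy1 m hm j ?_
  rw [← map_inv, ← map_mul, ← map_mul, ← map_pow]
  exact congrArg φ (Subtype.ext hc)

/-- D7' -/
theorem kB_of_rank_two' {S : Type u} [Group S] [Finite S] (hM : IsPModular p M) (P : Sylow p S) (x y : S)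
    (hxy : Commute x y) (hP : (P : Subgroup S) = closure {x, y}) (hx : x ≠ 1) (hy : y ∉ zpowers x)
    (_hd : zpowers x ⊓ zpowers y = ⊥) (e : ℕ)
    (hfus : ∀ (g : S) (i : ℕ), g * x * g⁻¹ = x ^ i → (i : ZMod p) ^ e = 1)
    (c : S) (hcx : Commute c x) (j : ℕ) (hc : c * y * c⁻¹ = y ^ j) :
    (p - 1) / e * orderOf (j : ZMod p) + blockRank p (principalBlock M S) ≤ kB M S := by
  have hxP : x ∈ (P : Subgroup S) := by
    rw [hP]
    exact subset_closure (Or.inl rfl)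
  obtain ⟨k, hk⟩ := IsPGroup.iff_orderOf.1 P.2 ⟨x, hxP⟩
  rw [Subgroup.orderOf_mk] at hk
  have hk0 : k ≠ 0 := by
    rintro rfl
    rw [pow_zero, orderOf_eq_one_iff] at hk
    exact hx hk
  exact kB_of_one hM x k hk hk0 e _ hfus (rank_of_rank_two hM P x y hxy hP hy c hcx j hc)

/-- D7: Sylow subgroups of rank 2: `x`, `y` generate a Sylow subgroup; `c` centralizes `x` and acts on `y` -/
theorem kB_of_rank_two {S : Type u} [Group S] [Finite S] (hM : IsPModular p M) (P : Sylow p S) (x y : S)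
    (hxy : Commute x y) (hP : (P : Subgroup S) = closure {x, y}) (hx : x ≠ 1) (hy : y ∉ zpowers x)
    (hd : zpowers x ⊓ zpowers y = ⊥) (e : ℕ)
    (hfus : ∀ (g : S) (i : ℕ), g * x * g⁻¹ = x ^ i → (i : ZMod p) ^ e = 1)
    (c : S) (hcx : Commute c x) (j : ℕ) (hc : c * y * c⁻¹ = y ^ j) :
    (p - 1) / e * orderOf (j : ZMod p) + 1 ≤ kB M S :=
  (Nat.add_le_add_left (H296.KB.one_le_rank hM) _).trans
    (kB_of_rank_two' hM P x y hxy hP hx hy hd e hfus c hcx j hc)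

/-- D3': simple groups -/
theorem two_le_rank_simple {S : Type u} [Group S] [Finite S] [IsSimpleGroup S] (hM : IsPModular p M)
    (hna : ¬ IsMulCommutative S) (hpS : p ∣ Nat.card S) : 2 ≤ blockRank p (principalBlock M S) := by
  by_contra hlt
  have h1 := H296.KB.one_le_rank (S := S) hM
  have : Fintype S := Fintype.ofFinite S
  obtain ⟨P, N, hN, hNP⟩ := S4646.compl_of_rank_one (G := S) hM (by omega)
  rcases hN.eq_bot_or_eq_top with h2 | h2
  · rw [h2] at hNP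
    have h3 : (P : Subgroup S) = ⊤ := by
      have := hNP.sup_eq_top
      rwa [bot_sup_eq] at this
    have h4 : IsPGroup p S := IsPGroup.of_surjective P.2 (P : Subgroup S).subtype (by
      intro g
      exact ⟨⟨g, by rw [h3]; exact mem_top g⟩, rfl⟩)
    have h5 : Nontrivial (center S) := h4.center_nontrivial
    rcases (inferInstance : (center S).Normal).eq_bot_or_eq_top with h6 | h6
    · rw [h6] at h5
      exact not_nontrivial _ h5
    · apply hna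
      refine ⟨⟨fun a b => ?_⟩⟩
      have h7 : b ∈ center S := by rw [h6]; exact mem_top b
      exact mem_center_iff.1 h7 a
  · rw [h2] at hNP
    have h3 : (P : Subgroup S) = ⊥ := by
      have := hNP.disjoint
      rwa [top_disjoint] at this
    exact P.not_dvd_index (by rw [h3, index_bot]; exact hpS)

end Cfsg.Agent.H832.KB
end
end

-- part: H626/ExtB/OfPerm
section
set_option linter.all false
open scoped Cfsg.Agent.FastGrp

/-!
# `extB_of_perm` of the hub S4822 (helper626)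
-/

set_option autoImplicit false
set_option linter.unusedSectionVars false

open Cfsg Subgroup

namespace Cfsg.Agent.H626.ExtB.OfPerm

open Cfsg.Agent.Characters.Core Cfsg.Agent.H508.KB Cfsg.Agent.H626.ExtB.Perm

universe u

variable {S : Type u} [Group S] [Finite S]

/-- the criterion for `ExtB`: a subgroup `X` of `S`, permuted transitively with its `A`-conjugates by `S`, with the same
double cosets for `A` and `S`; `p` divides the index -/
theorem extB_of_perm {p : ℕ} {M : Ideal AlgInt} (hM : IsPModular p M)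
    (h : ∀ (A : Type u) [Group A] [Finite A] (f : S →* A), Function.Injective f → f.range.Normal →
      centralizer (f.range : Set A) = ⊥ → ¬ p ∣ f.range.index →
      ∃ X : Subgroup S, p ∣ X.index ∧ X ≠ ⊤ ∧
        ∃ Y : Subgroup A, Y.comap f = X ∧ f.range ⊔ Y = ⊤ ∧
          ∀ s : S, ∀ y ∈ Y, ∃ x₁ ∈ X, ∃ x₂ ∈ X, ∃ s' : S, f s' = y * f s * y⁻¹ ∧ s' = x₁ * s * x₂) :
    ExtB p M S := by
  intro A _ _ f hf hn hcen hcop
  obtain ⟨X, hpX, -, Y, hYX, hsup, hdc⟩ := h A f hf hn hcen hcop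
  classical
  have hinf : ∀ s : S, f s ∈ Y ↔ s ∈ X := fun s => by rw [← hYX]; rfl
  have hSK : ∀ a : A, ∃ s : S, (f s)⁻¹ * a ∈ Y := by
    intro a
    have h1 : a ∈ f.range ⊔ Y := by rw [hsup]; exact mem_top a
    rw [Subgroup.mem_sup_of_normal_left] at h1
    obtain ⟨n, ⟨s, rfl⟩, y, hy, rfl⟩ := h1
    exact ⟨s, by rwa [inv_mul_cancel_left]⟩
  have hidx : Y.index = X.index := by
    refine (Nat.card_congr (Equiv.ofBijective (fun x : S ⧸ X => Quotient.liftOn' x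
      (fun s => (QuotientGroup.mk (f s) : A ⧸ Y)) ?_) ⟨?_, ?_⟩)).symm
    · intro s t hst'
      have h1 : s⁻¹ * t ∈ X := QuotientGroup.leftRel_apply.1 hst'
      rw [QuotientGroup.eq, ← map_inv, ← map_mul]
      exact (hinf _).2 h1
    · intro x y
      induction x using QuotientGroup.induction_on with
      | _ s =>
      induction y using QuotientGroup.induction_on with
      | _ t =>
      intro h
      have h1 : (QuotientGroup.mk (f s) : A ⧸ Y) = QuotientGroup.mk (f t) := h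
      rw [QuotientGroup.eq, ← map_inv, ← map_mul, hinf] at h1
      exact QuotientGroup.eq.2 h1
    · intro y
      induction y using QuotientGroup.induction_on with
      | _ a =>
      obtain ⟨s, hs⟩ := hSK a
      exact ⟨QuotientGroup.mk s, QuotientGroup.eq.2 hs⟩
  have hpair : SamePairs f.range Y := by
    intro a x y
    have hrep : ∀ z : A ⧸ Y, ∃ s : S, z = QuotientGroup.mk (f s) := by
      intro z
      induction z using QuotientGroup.induction_on with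
      | _ b =>
      obtain ⟨s, hs⟩ := hSK b
      exact ⟨s, (QuotientGroup.eq.2 hs).symm⟩
    obtain ⟨s₁, rfl⟩ := hrep x
    obtain ⟨s₂, rfl⟩ := hrep y
    obtain ⟨t, ht⟩ := hSK (a * f s₁)
    set k : A := (f t)⁻¹ * (a * f s₁) with hk
    obtain ⟨h, hh, h', hh', s', hs', hd⟩ := hdc (s₁⁻¹ * s₂) k ht
    refine ⟨f (t * h * s₁⁻¹), ⟨_, rfl⟩, ?_, ?_⟩
    · show (QuotientGroup.mk (f (t * h * s₁⁻¹) * f s₁) : A ⧸ Y) = QuotientGroup.mk (a * f s₁)
      rw [QuotientGroup.eq]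
      have e : (f (t * h * s₁⁻¹) * f s₁)⁻¹ * (a * f s₁) = f h⁻¹ * k := by
        rw [hk, map_mul, map_mul, map_inv, map_inv]
        group
      rw [e]
      exact mul_mem ((hinf _).2 (inv_mem hh)) ht
    · show (QuotientGroup.mk (f (t * h * s₁⁻¹) * f s₂) : A ⧸ Y) = QuotientGroup.mk (a * f s₂)
      rw [QuotientGroup.eq]
      have e : (f (t * h * s₁⁻¹) * f s₂)⁻¹ * (a * f s₂) = f h' * k := by
        have h1 : a * f s₂ = f t * (k * f (s₁⁻¹ * s₂) * k⁻¹) * k := by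
          rw [hk, map_mul, map_inv]
          group
        rw [h1, ← hs', hd, map_mul, map_mul, map_mul, map_mul, map_mul, map_inv]
        group
      rw [e]
      exact mul_mem ((hinf _).2 hh') ht
  obtain ⟨ψ, h1, h2, s, h3⟩ := exists_ext hM f.range Y (hidx ▸ hpX) hpair
  refine ⟨ψ, h1, ?_, ?_⟩
  · exact isIrr_comp f.rangeRestrict f.rangeRestrict_surjective h2
  · obtain ⟨x, hx⟩ := s.2
    refine ⟨x, ?_⟩
    rw [hx]
    exact h3

end Cfsg.Agent.H626.ExtB.OfPerm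
end
end
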